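/-
Certificate data for `Spor.M12` (base 0, 1, 2, 3, 4), for `Spor.M11` on the complementary dodecad and for the orbit of
`M24` on dodecads (generated by tools_h14/permcert.py).
-/
import Cfsg.Agent.H14.Chain2

set_option autoImplicit false

namespace Cfsg.Agent.H14

def m12Gens : List ℕ := [nat_lit 0xb95d3892c13aa03abe40a316668909, nat_lit 0x7dd74708f0545212cc66acac8201ac]
def m11Gens : List ℕ := [nat_lit 0x74e8aaa4acb446dbad023c1e121a40, nat_lit 0x2aaaebb0edb2d288ccc47ca830c040]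
def m12CertL0 : Lev := ⟨nat_lit 0, nat_lit 0x5335f, (.node (nat_lit 8) (.node (nat_lit 3) (.node (nat_lit 1) (.leaf (nat_lit 0xbdab49ca307b9ac5a928398a418820)) (.node (nat_lit 2) (.leaf (nat_lit 0xbad51b18a8a3c2d71c8998eac80812)) (.leaf (nat_lit 0x7dd74708f0545212cc66acac8201ac)))) (.node (nat_lit 4) (.leaf (nat_lit 0x79d73b25c18d1b02a8c4a8aec00e48)) (.node (nat_lit 6) (.leaf (nat_lit 0x3deb350a817da485c5ac710a032603)) (.leaf (nat_lit 0x9aad43b17075489bc502281f23046d))))) (.node (nat_lit 13) (.node (nat_lit 9) (.leaf (nat_lit 0xb95d3892c13aa03abe40a316668909)) (.node (nat_lit 12) (.leaf (nat_lit 0x55cf1a99e95ba082cc01a36c21b244)) (.leaf (nat_lit 0xa5dd178a6839480ada03519696482d)))) (.node (nat_lit 16) (.leaf (nat_lit 0xbb8e558ea98d0017cd84b414d40a46)) (.node (nat_lit 18) (.leaf (nat_lit 0xbd5f62b16099d10550d28b5c308924)) (.leaf (nat_lit 0x53cb4882b099c6db389258ae643121))))))⟩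
def m12CertC0 : LevCert := ⟨m12CertL0,
    [(nat_lit 8, nat_lit 0), (nat_lit 2, nat_lit 1), (nat_lit 1, nat_lit 0), (nat_lit 4, nat_lit 1), (nat_lit 18, nat_lit 1), (nat_lit 16, nat_lit 0), (nat_lit 12, nat_lit 1), (nat_lit 3, nat_lit 1), (nat_lit 9, nat_lit 0), (nat_lit 6, nat_lit 1), (nat_lit 13, nat_lit 0)],
    [[nat_lit 2, nat_lit 2, nat_lit 2, nat_lit 0, nat_lit 2, nat_lit 2, nat_lit 0], [nat_lit 4, nat_lit 4, nat_lit 2, nat_lit 2, nat_lit 2, nat_lit 2, nat_lit 2, nat_lit 2, nat_lit 2, nat_lit 2, nat_lit 4]],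
    [nat_lit 0x74e8aaa4acb446dbad023c1e121a40, nat_lit 0x2aaaebb0edb2d288ccc47ca830c040]⟩
def m12CertL1 : Lev := ⟨nat_lit 1, nat_lit 0x5335e, (.node (nat_lit 8) (.node (nat_lit 3) (.node (nat_lit 2) (.leaf (nat_lit 0xbdab49ca307b9ac5a928398a418820)) (.leaf (nat_lit 0x9d5c5b41448d1a27acc3ba4ec90500))) (.node (nat_lit 4) (.leaf (nat_lit 0x2aaaebb0edb2d288ccc47ca830c040)) (.node (nat_lit 6) (.leaf (nat_lit 0x74e8aaa4acb446dbad023c1e121a40)) (.leaf (nat_lit 0x2acf5736708bd84b5048506f219920))))) (.node (nat_lit 13) (.node (nat_lit 9) (.leaf (nat_lit 0x7ae91734e39dd022d601b2544930c0)) (.node (nat_lit 12) (.leaf (nat_lit 0xbba35a414259e487942cb0e66225a0)) (.leaf (nat_lit 0x5569778ac8596013b9249b63230d80)))) (.node (nat_lit 16) (.leaf (nat_lit 0x5ddd3a9a8851c292c4907b6c21c980)) (.node (nat_lit 18) (.leaf (nat_lit 0xb45c75a5e1b9490a55a251a6362240)) (.leaf (nat_lit 0x3d2a58866872892bbd89b096d30e00))))))⟩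
def m12CertC1 : LevCert := ⟨m12CertL1,
    [(nat_lit 4, nat_lit 0), (nat_lit 3, nat_lit 1), (nat_lit 8, nat_lit 1), (nat_lit 13, nat_lit 0), (nat_lit 9, nat_lit 0), (nat_lit 12, nat_lit 1), (nat_lit 16, nat_lit 1), (nat_lit 18, nat_lit 0), (nat_lit 6, nat_lit 0), (nat_lit 2, nat_lit 1)],
    [[nat_lit 0, nat_lit 2, nat_lit 0, nat_lit 0, nat_lit 0], [nat_lit 4, nat_lit 2, nat_lit 4, nat_lit 4, nat_lit 2, nat_lit 4, nat_lit 2, nat_lit 2, nat_lit 2, nat_lit 4]],
    [nat_lit 0x544afab172a4cc43dd23b21d068820, nat_lit 0xa4cf65b2a955cd27b86428a2d44020]⟩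
def m12CertL2 : Lev := ⟨nat_lit 2, nat_lit 0x5335c, (.node (nat_lit 9) (.node (nat_lit 4) (.node (nat_lit 3) (.leaf (nat_lit 0xbdab49ca307b9ac5a928398a418820)) (.leaf (nat_lit 0xa3ef68b4b251c899b866aa16c14020))) (.node (nat_lit 6) (.leaf (nat_lit 0x51e752b623a3892b2cc9bc1e243020)) (.node (nat_lit 8) (.leaf (nat_lit 0xa4cf65b2a955cd27b86428a2d44020)) (.leaf (nat_lit 0x7156aba66db450cad062798f224020))))) (.node (nat_lit 13) (.node (nat_lit 12) (.leaf (nat_lit 0xb46af9a6e37510d51c4c5c0a434820)) (.leaf (nat_lit 0x5c5f49cacda9602ba8c83a5c323020))) (.node (nat_lit 16) (.leaf (nat_lit 0x7562a3c9ecb2c4d2d068992e934020)) (.node (nat_lit 18) (.leaf (nat_lit 0x7cd71536a23da09750c42cae860c20)) (.leaf (nat_lit 0x559d578af2a4d233acc48a0ad83020))))))⟩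
def m12CertC2 : LevCert := ⟨m12CertL2,
    [(nat_lit 6, nat_lit 1), (nat_lit 13, nat_lit 0), (nat_lit 3, nat_lit 0), (nat_lit 4, nat_lit 1), (nat_lit 8, nat_lit 0), (nat_lit 9, nat_lit 1), (nat_lit 12, nat_lit 0), (nat_lit 16, nat_lit 1), (nat_lit 18, nat_lit 0)],
    [[nat_lit 2, nat_lit 0, nat_lit 0, nat_lit 2, nat_lit 2, nat_lit 2], [nat_lit 4, nat_lit 2, nat_lit 2, nat_lit 2, nat_lit 4, nat_lit 4, nat_lit 4, nat_lit 4]],
    [nat_lit 0x8a8b372566a3e4d3d988b8eb020820, nat_lit 0xad1768a67255c6c71510790ed30820]⟩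
def m12CertL3 : Lev := ⟨nat_lit 3, nat_lit 0x53358, (.node (nat_lit 9) (.node (nat_lit 6) (.node (nat_lit 4) (.leaf (nat_lit 0xbdab49ca307b9ac5a928398a418820)) (.leaf (nat_lit 0x5d9d49a2292d4ccb9e12535e320820))) (.node (nat_lit 8) (.leaf (nat_lit 0x8a8b372566a3e4d3d988b8eb020820)) (.leaf (nat_lit 0xabaf63b5ec52e12a150399a2920820)))) (.node (nat_lit 13) (.node (nat_lit 12) (.leaf (nat_lit 0x75177531e68d909a94709b4e490820)) (.leaf (nat_lit 0x994f1ba1c4b29237d190a997268820))) (.node (nat_lit 16) (.leaf (nat_lit 0xad1768a67255c6c71510790ed30820)) (.node (nat_lit 18) (.leaf (nat_lit 0x5daae7b0e39d132ba9a8890a680820)) (.leaf (nat_lit 0x794eab0eadbc5889d1307496620820))))))⟩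
def m12CertC3 : LevCert := ⟨m12CertL3,
    [(nat_lit 6, nat_lit 0), (nat_lit 13, nat_lit 1), (nat_lit 16, nat_lit 0), (nat_lit 12, nat_lit 0), (nat_lit 4, nat_lit 1), (nat_lit 8, nat_lit 1), (nat_lit 9, nat_lit 0), (nat_lit 18, nat_lit 0)],
    [[nat_lit 2, nat_lit 2, nat_lit 0], [nat_lit 4, nat_lit 4, nat_lit 2, nat_lit 4, nat_lit 4, nat_lit 4, nat_lit 4, nat_lit 2, nat_lit 4]],
    [nat_lit 0x89df3ac2eda150655992591c918820, nat_lit 0x75576518ac3dd28a3e449b63018820]⟩
def m12CertL4 : Lev := ⟨nat_lit 4, nat_lit 0x53350, (.node (nat_lit 12) (.node (nat_lit 8) (.node (nat_lit 6) (.leaf (nat_lit 0xbdab49ca307b9ac5a928398a418820)) (.leaf (nat_lit 0x89df3ac2eda150655992591c918820))) (.node (nat_lit 9) (.leaf (nat_lit 0x75576518ac3dd28a3e449b63018820)) (.leaf (nat_lit 0x8aa6fa22f2a96093ac8db31c618820)))) (.node (nat_lit 16) (.node (nat_lit 13) (.leaf (nat_lit 0xbae957b6289ba44b1cd0524ac18820)) (.leaf (nat_lit 0x2ccea5b1c9b448d7d506a42f218820))) (.node (nat_lit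 18) (.leaf (nat_lit 0x752cb3a4a455cd0acdac7ca2818820)) (.leaf (nat_lit 0x2bd47b11c65c5929d209aa2ed18820)))))⟩
def m12CertC4 : LevCert := ⟨m12CertL4,
    [(nat_lit 6, nat_lit 0), (nat_lit 8, nat_lit 1), (nat_lit 12, nat_lit 0), (nat_lit 18, nat_lit 1), (nat_lit 13, nat_lit 0), (nat_lit 9, nat_lit 0), (nat_lit 16, nat_lit 1)],
    [],
    []⟩
def m12Cert : List LevCert := [m12CertC0, m12CertC1, m12CertC2, m12CertC3, m12CertC4]
def m12CertL : List Lev := [m12CertL0, m12CertL1, m12CertL2, m12CertL3, m12CertL4]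

def m11cCertL0 : Lev := ⟨nat_lit 5, nat_lit 0xfacca0, (.node (nat_lit 17) (.node (nat_lit 11) (.node (nat_lit 7) (.leaf (nat_lit 0xbdab49ca307b9ac5a928398a418820)) (.node (nat_lit 10) (.leaf (nat_lit 0x9d2ee78ac1ac5ac52c8828cf091920)) (.leaf (nat_lit 0xbba35a414259e487942cb0e66225a0)))) (.node (nat_lit 14) (.leaf (nat_lit 0x7ae91734e39dd022d601b2544930c0)) (.node (nat_lit 15) (.leaf (nat_lit 0x8d54ba21ed9948375c463b2d20c120)) (.leaf (nat_lit 0x7d6e758d462b8228d1acb126882640))))) (.node (nat_lit 21) (.node (nat_lit 19) (.leaf (nat_lit 0x74e8aaa4acb446dbad023c1e121a40)) (.node (nat_lit 20) (.leaf (nat_lit 0xa4eab2a1e9544c43de43b31c113600)) (.leaf (nat_lit 0xb5d4588ce4ab8467d1929a1614b600)))) (.node (nat_lit 22) (.leaf (nat_lit 0x744b453166b9d22b3e4d992b00a060)) (.node (nat_lit 23) (.leaf (nat_lit 0x89577ac9c49bc46a1c6db25500b100)) (.leaf (nat_lit 0x2aaaebb0edb2d288ccc47ca830c040))))))⟩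
def m11cCertC0 : LevCert := ⟨m11cCertL0,
    [(nat_lit 17, nat_lit 0), (nat_lit 23, nat_lit 1), (nat_lit 14, nat_lit 0), (nat_lit 11, nat_lit 1), (nat_lit 19, nat_lit 1), (nat_lit 20, nat_lit 1), (nat_lit 10, nat_lit 0), (nat_lit 22, nat_lit 0), (nat_lit 21, nat_lit 0), (nat_lit 15, nat_lit 0), (nat_lit 7, nat_lit 1)],
    [[nat_lit 0, nat_lit 2, nat_lit 2, nat_lit 2, nat_lit 2], [nat_lit 2, nat_lit 4, nat_lit 2, nat_lit 4, nat_lit 2, nat_lit 2]],
    [nat_lit 0xbbe8789169759b29a846a84ac1c100, nat_lit 0xb468a399c1bd48d7cc505b0a84c860]⟩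
def m11cCertL1 : Lev := ⟨nat_lit 7, nat_lit 0xfacc80, (.node (nat_lit 17) (.node (nat_lit 11) (.node (nat_lit 10) (.leaf (nat_lit 0xbdab49ca307b9ac5a928398a418820)) (.leaf (nat_lit 0x8b9535b2a3b5104b9e417b4b011920))) (.node (nat_lit 14) (.leaf (nat_lit 0xb5d4b721e2ac4863ce4ca0cad48600)) (.node (nat_lit 15) (.leaf (nat_lit 0x74eaaa21e6b9e4db2d22890a183060)) (.leaf (nat_lit 0x75d51786c93ce48a2d84a8cad81840))))) (.node (nat_lit 21) (.node (nat_lit 19) (.leaf (nat_lit 0xb55747b4f28dc8874c23540a648980)) (.node (nat_lit 20) (.leaf (nat_lit 0xb468a399c1bd48d7cc505b0a84c860)) (.leaf (nat_lit 0xbbe8789169759b29a846a84ac1c100)))) (.node (nat_lit 22) (.leaf (nat_lit 0xbb8f55b262b3da48aa01a20b21a4c0)) (.node (nat_lit 23) (.leaf (nat_lit 0xa9e93542ecb2cc48bc52720a30b520)) (.leaf (nat_lit 0x3de6f72169ad066b29ac890b214020))))))⟩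
def m11cCertC1 : LevCert := ⟨m11cCertL1,
    [(nat_lit 20, nat_lit 0), (nat_lit 19, nat_lit 1), (nat_lit 21, nat_lit 0), (nat_lit 11, nat_lit 0), (nat_lit 10, nat_lit 1), (nat_lit 14, nat_lit 1), (nat_lit 17, nat_lit 0), (nat_lit 15, nat_lit 0), (nat_lit 22, nat_lit 1), (nat_lit 23, nat_lit 1)],
    [[nat_lit 2, nat_lit 2, nat_lit 2, nat_lit 0, nat_lit 0], [nat_lit 4, nat_lit 2, nat_lit 2, nat_lit 4, nat_lit 2, nat_lit 4, nat_lit 2, nat_lit 2, nat_lit 4]],
    [nat_lit 0x72af3b21ecac601a2d2238cad91880, nat_lit 0x9d1d778ab0b29248ad833a0a1919a0]⟩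
def m11cCertL2 : Lev := ⟨nat_lit 10, nat_lit 0xfacc00, (.node (nat_lit 19) (.node (nat_lit 14) (.node (nat_lit 11) (.leaf (nat_lit 0xbdab49ca307b9ac5a928398a418820)) (.leaf (nat_lit 0xacdeba0dcd8dc9055932388a132180))) (.node (nat_lit 15) (.leaf (nat_lit 0x9d1d778ab0b29248ad833a0a1919a0)) (.node (nat_lit 17) (.leaf (nat_lit 0xb4e2ea9aec52d2d7d032388a440e00)) (.leaf (nat_lit 0x5d2d59c94d8dd9073c233a0a930880))))) (.node (nat_lit 21) (.node (nat_lit 20) (.leaf (nat_lit 0x8add650aa1bbd849d1263c8b040da0)) (.leaf (nat_lit 0x7d22a59ae47542db4d233a0ac14a00))) (.node (nat_lit 22) (.leaf (nat_lit 0x7dd53b19d0a2d81ac49238cad12120)) (.node (nat_lit 23) (.leaf (nat_lit 0x72af3b21ecac601a2d2238cad91880)) (.leaf (nat_lit 0x52e6fa0ec47560dbc5863c8a912020))))))⟩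
def m11cCertC2 : LevCert := ⟨m11cCertL2,
    [(nat_lit 22, nat_lit 0), (nat_lit 14, nat_lit 1), (nat_lit 19, nat_lit 0), (nat_lit 15, nat_lit 1), (nat_lit 23, nat_lit 0), (nat_lit 21, nat_lit 1), (nat_lit 20, nat_lit 0), (nat_lit 17, nat_lit 0), (nat_lit 11, nat_lit 0)],
    [[nat_lit 0, nat_lit 2, nat_lit 0, nat_lit 2, nat_lit 2, nat_lit 2, nat_lit 0, nat_lit 2, nat_lit 0, nat_lit 0], [nat_lit 4, nat_lit 2, nat_lit 4, nat_lit 2, nat_lit 4]],
    [nat_lit 0xa2ef58a1ed9d92172a063c8ac18880, nat_lit 0x7ba71a9a89bd9ac5aa083c8a110c80]⟩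
def m11cCert : List LevCert := [m11cCertC0, m11cCertC1, m11cCertC2]
def m11cCertL : List Lev := [m11cCertL0, m11cCertL1, m11cCertL2]

def dodecadTree : List (List ℕ) := [
  [nat_lit 19832, nat_lit 25857, nat_lit 26296, nat_lit 20721, nat_lit 14026, nat_lit 12928, nat_lit 13144, nat_lit 24625, nat_lit 11178, nat_lit 10360, nat_lit 962, nat_lit 23392, nat_lit 28778, nat_lit 6464, nat_lit 12041, nat_lit 18738, nat_lit 6568, nat_lit 7505, nat_lit 1898, nat_lit 28696, nat_lit 23186, nat_lit 5584, nat_lit 17594, nat_lit 21560, nat_lit 18953, nat_lit 21450, nat_lit 480, nat_lit 19826, nat_lit 11696, nat_lit 30001, nat_lit 3314, nat_lit 14384, nat_lit 218, nat_lit 19616, nat_lit 8137, nat_lit 21586, nat_lit 22400, nat_lit 31802, nat_lit 9368, nat_lit 3986, nat_lit 19664, nat_lit 23313, nat_lit 21898, nat_lit 20136, nat_lit 32322, nat_lit 944, nat_lit 28138, nat_lit 30728, nat_lit 8681, nat_lit 6938, nat_lit 11592, nat_lit 18978, nat_lit 2792, nat_lit 13201,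 nat_lit 28498, nat_lit 25176, nat_lit 29594, nat_lit 10776, nat_lit 20281, nat_lit 25242, nat_lit 6458, nat_lit 27104, nat_lit 5482, nat_lit 16624, nat_lit 30921, nat_lit 7378, nat_lit 9912, nat_lit 11986, nat_lit 22232, nat_lit 21697, nat_lit 14210, nat_lit 15000, nat_lit 26258, nat_lit 18040, nat_lit 31426, nat_lit 23576, nat_lit 18321, nat_lit 21378, nat_lit 104, nat_lit 19274, nat_lit 26192, nat_lit 25257, nat_lit 30866, nat_lit 4064, nat_lit 9578, nat_lit 27176, nat_lit 15170, nat_lit 11200, nat_lit 13809, nat_lit 11314, nat_lit 32280, nat_lit 12938, nat_lit 21064, nat_lit 2761, nat_lit 29450, nat_lit 18376, nat_lit 32546, nat_lit 9832, nat_lit 3633, nat_lit 25426, nat_lit 28040, nat_lit 5938, nat_lit 27328, nat_lit 29978, nat_lit 10064, nat_lit 16489, nat_lit 8634, nat_lit 28770, nat_lit 16856, nat_lit 23121, nat_lit 22194, nat_lit 14064, nat_lit 11722, nat_lit 15360, nat_lit 10745, nat_lit 2058, nat_lit 7626, nat_lit 3464, nat_lit 1578, nat_lit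 5792, nat_lit 13897, nat_lit 27738, nat_lit 25872, nat_lit 4530, nat_lit 1392, nat_lit 26817, nat_lit 2554, nat_lit 22984, nat_lit 5666, nat_lit 14248, nat_lit 26226, nat_lit 12584, nat_lit 3761, nat_lit 17018, nat_lit 14792, nat_lit 1850, nat_lit 21768, nat_lit 665, nat_lit 21306, nat_lit 10136, nat_lit 9898, nat_lit 12616, nat_lit 19242, nat_lit 19608, nat_lit 22410, nat_lit 13552, nat_lit 23097, nat_lit 17858, nat_lit 2736, nat_lit 26074, nat_lit 8312, nat_lit 26345, nat_lit 19138, nat_lit 15456, nat_lit 346, nat_lit 3688, nat_lit 9042, nat_lit 4952, nat_lit 17609, nat_lit 8874, nat_lit 22376, nat_lit 12898, nat_lit 27496, nat_lit 10529, nat_lit 14954, nat_lit 27232, nat_lit 14658, nat_lit 23488, nat_lit 15410, nat_lit 7496, nat_lit 1921, nat_lit 16954, nat_lit 13128, nat_lit 8994, nat_lit 25400, nat_lit 24673, nat_lit 15354, nat_lit 32096, nat_lit 22642, nat_lit 28168, nat_lit 11553, nat_lit 15130, nat_lit 25544, nat_lit 16178, nat_lit 27072,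 nat_lit 23586, nat_lit 16432, nat_lit 27217, nat_lit 23002, nat_lit 9632, nat_lit 13096, nat_lit 9449, nat_lit 10866, nat_lit 12624, nat_lit 442, nat_lit 31816, nat_lit 4626, nat_lit 2032, nat_lit 24081, nat_lit 25826],
  [nat_lit 21168, nat_lit 13786, nat_lit 29968, nat_lit 19561, nat_lit 4266, nat_lit 7584, nat_lit 3170, nat_lit 21984, nat_lit 12481, nat_lit 7522, nat_lit 26306, nat_lit 5656, nat_lit 27282, nat_lit 16136, nat_lit 1841, nat_lit 25386, nat_lit 22848, nat_lit 20778, nat_lit 11065, nat_lit 18554, nat_lit 17760, nat_lit 6506, nat_lit 14720, nat_lit 1338, nat_lit 9184, nat_lit 14441, nat_lit 11386, nat_lit 32656, nat_lit 13490, nat_lit 21296, nat_lit 19073, nat_lit 29178, nat_lit 18200, nat_lit 12962, nat_lit 29096, nat_lit 24434, nat_lit 14016, nat_lit 15017, nat_lit 27658, nat_lit 19352, nat_lit 14242, nat_lit 30048, nat_lit 2225, nat_lit 4466, nat_lit 14984, nat_lit 28186, nat_lit 5032, nat_lit 7321, nat_lit 9826, nat_lit 20698, nat_lit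 5786, nat_lit 30768, nat_lit 6338, nat_lit 8424, nat_lit 18266, nat_lit 11560, nat_lit 17266, nat_lit 11096, nat_lit 25522, nat_lit 7032, nat_lit 18769, nat_lit 8930, nat_lit 22240, nat_lit 13402, nat_lit 7680, nat_lit 10073, nat_lit 26882, nat_lit 5368, nat_lit 3802, nat_lit 17408, nat_lit 20746, nat_lit 3808, nat_lit 25690, nat_lit 18112, nat_lit 13849, nat_lit 31754, nat_lit 17168, nat_lit 14762, nat_lit 19280, nat_lit 12466, nat_lit 6944, nat_lit 10346, nat_lit 30248, nat_lit 14922, nat_lit 29320, nat_lit 15529, nat_lit 16130, nat_lit 18648, nat_lit 24194, nat_lit 696, nat_lit 31441, nat_lit 28354, nat_lit 29792, nat_lit 20546, nat_lit 17656, nat_lit 6106, nat_lit 27872, nat_lit 13601, nat_lit 2832, nat_lit 26802, nat_lit 23504, nat_lit 21889, nat_lit 13498, nat_lit 29496, nat_lit 15074, nat_lit 22672, nat_lit 29585, nat_lit 23962, nat_lit 1880, nat_lit 27298, nat_lit 8504, nat_lit 19434, nat_lit 7392, nat_lit 14737, nat_lit 3402, nat_lit 920,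 nat_lit 10880, nat_lit 14777, nat_lit 11546, nat_lit 16712, nat_lit 23338, nat_lit 27032, nat_lit 22186, nat_lit 5145, nat_lit 14122, nat_lit 21328, nat_lit 30890, nat_lit 22688, nat_lit 14681, nat_lit 7258, nat_lit 9616, nat_lit 3258, nat_lit 9800, nat_lit 10297, nat_lit 27584, nat_lit 13354, nat_lit 6776, nat_lit 19209, nat_lit 25554, nat_lit 27928, nat_lit 6826, nat_lit 25312, nat_lit 30034, nat_lit 17752, nat_lit 26777, nat_lit 6834, nat_lit 13032, nat_lit 11850, nat_lit 20536, nat_lit 25673, nat_lit 6874, nat_lit 13168, nat_lit 8442, nat_lit 9568, nat_lit 2162, nat_lit 7728, nat_lit 28049, nat_lit 10434, nat_lit 16552, nat_lit 5722, nat_lit 19593, nat_lit 20904, nat_lit 22130, nat_lit 18856, nat_lit 13593, nat_lit 7786, nat_lit 8800, nat_lit 26714, nat_lit 4432, nat_lit 2234, nat_lit 11184, nat_lit 28969, nat_lit 11754, nat_lit 22832, nat_lit 13744, nat_lit 17642, nat_lit 5264, nat_lit 17810, nat_lit 7472, nat_lit 506, nat_lit 23010, nat_lit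 7328, nat_lit 19794, nat_lit 11744, nat_lit 6113, nat_lit 17506, nat_lit 7704, nat_lit 9106, nat_lit 20128, nat_lit 13713, nat_lit 15450, nat_lit 27698, nat_lit 24856, nat_lit 6842, nat_lit 22944, nat_lit 15105, nat_lit 23914, nat_lit 4496, nat_lit 19890, nat_lit 12696],
  [nat_lit 22769, nat_lit 1706, nat_lit 28720, nat_lit 20930, nat_lit 7672, nat_lit 1770, nat_lit 16048, nat_lit 9426, nat_lit 27704, nat_lit 4818, nat_lit 30464, nat_lit 2801, nat_lit 28714, nat_lit 22160, nat_lit 13698, nat_lit 23944, nat_lit 7978, nat_lit 12768, nat_lit 6881, nat_lit 17770, nat_lit 8088, nat_lit 26546, nat_lit 29920, nat_lit 5729, nat_lit 21842, nat_lit 11792, nat_lit 27026, nat_lit 8216, nat_lit 20209, nat_lit 17298, nat_lit 29992, nat_lit 4978, nat_lit 11496, nat_lit 18250, nat_lit 23761, nat_lit 9362, nat_lit 22928, nat_lit 29129, nat_lit 7338, nat_lit 4720, nat_lit 26826, nat_lit 5432, nat_lit 2786, nat_lit 22696, nat_lit 16273, nat_lit 24130, nat_lit 3994,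 nat_lit 15904, nat_lit 9641, nat_lit 10570, nat_lit 18696, nat_lit 21042, nat_lit 17400, nat_lit 22017, nat_lit 30706, nat_lit 25138, nat_lit 29296, nat_lit 31186, nat_lit 26968, nat_lit 18865, nat_lit 5026, nat_lit 6888, nat_lit 28234, nat_lit 31368, nat_lit 5945, nat_lit 30210, nat_lit 9776, nat_lit 27098, nat_lit 18512, nat_lit 6538, nat_lit 20176, nat_lit 29001, nat_lit 15746, nat_lit 17968, nat_lit 30914, nat_lit 10992, nat_lit 11458, nat_lit 22624, nat_lit 22866, nat_lit 20144, nat_lit 13522, nat_lit 13152, nat_lit 10354, nat_lit 9665, nat_lit 14906, nat_lit 30024, nat_lit 6690, nat_lit 24448, nat_lit 6417, nat_lit 13626, nat_lit 17304, nat_lit 32418, nat_lit 29072, nat_lit 23722, nat_lit 27808, nat_lit 15153, nat_lit 23890, nat_lit 10384, nat_lit 19866, nat_lit 5528, nat_lit 18106, nat_lit 9272, nat_lit 17354, nat_lit 25264, nat_lit 30841, nat_lit 15810, nat_lit 19632, nat_lit 23770, nat_lit 7360, nat_lit 10122, nat_lit 4592, nat_lit 21209,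 nat_lit 17634, nat_lit 7216, nat_lit 16586, nat_lit 5688, nat_lit 9178, nat_lit 16328, nat_lit 5545, nat_lit 9762, nat_lit 23128, nat_lit 10648, nat_lit 31665, nat_lit 25920, nat_lit 22818, nat_lit 14584, nat_lit 1994, nat_lit 25480, nat_lit 13857, nat_lit 32554, nat_lit 14544, nat_lit 31201, nat_lit 3226, nat_lit 12216, nat_lit 9954, nat_lit 7008, nat_lit 9049, nat_lit 26738, nat_lit 2218, nat_lit 12570, nat_lit 26056, nat_lit 15401, nat_lit 7722, nat_lit 7120, nat_lit 11426, nat_lit 15024, nat_lit 31649, nat_lit 28098, nat_lit 17496, nat_lit 23426, nat_lit 18616, nat_lit 22482, nat_lit 23872, nat_lit 8657, nat_lit 6202, nat_lit 14088, nat_lit 10794, nat_lit 18896, nat_lit 30473, nat_lit 23978, nat_lit 3656, nat_lit 27162, nat_lit 4912, nat_lit 2890, nat_lit 25146, nat_lit 31768, nat_lit 25449, nat_lit 23170, nat_lit 2370, nat_lit 20592, nat_lit 27793, nat_lit 6362, nat_lit 9128, nat_lit 11898, nat_lit 5776, nat_lit 31873, nat_lit 11674, nat_lit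 25016, nat_lit 6273, nat_lit 1914, nat_lit 12760, nat_lit 18098, nat_lit 3512, nat_lit 22273, nat_lit 18410, nat_lit 9384, nat_lit 20050, nat_lit 16882, nat_lit 11120, nat_lit 26850, nat_lit 23080, nat_lit 20224, nat_lit 12594, nat_lit 21416, nat_lit 15994, nat_lit 29824, nat_lit 23554, nat_lit 2680, nat_lit 17369, nat_lit 25290],
  [nat_lit 18280, nat_lit 13178, nat_lit 25088, nat_lit 11833, nat_lit 30994, nat_lit 26752, nat_lit 23818, nat_lit 1904, nat_lit 17049, nat_lit 25074, nat_lit 29224, nat_lit 29530, nat_lit 25440, nat_lit 1145, nat_lit 12658, nat_lit 6920, nat_lit 9018, nat_lit 32256, nat_lit 30746, nat_lit 24968, nat_lit 7289, nat_lit 5922, nat_lit 13481, nat_lit 3938, nat_lit 6232, nat_lit 17042, nat_lit 19856, nat_lit 22361, nat_lit 21666, nat_lit 5168, nat_lit 2506, nat_lit 15120, nat_lit 17273, nat_lit 24746, nat_lit 23840, nat_lit 4458, nat_lit 31040, nat_lit 11113, nat_lit 22570, nat_lit 24144, nat_lit 14730, nat_lit 8064, nat_lit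 9320, nat_lit 2906, nat_lit 12096, nat_lit 26177, nat_lit 19386, nat_lit 15720, nat_lit 626, nat_lit 14176, nat_lit 24930, nat_lit 14896, nat_lit 26409, nat_lit 26834, nat_lit 26656, nat_lit 8824, nat_lit 8906, nat_lit 13946, nat_lit 30320, nat_lit 19569, nat_lit 17800, nat_lit 5825, nat_lit 22322, nat_lit 19330, nat_lit 12721, nat_lit 7778, nat_lit 10944, nat_lit 27906, nat_lit 6744, nat_lit 10906, nat_lit 14744, nat_lit 29537, nat_lit 20394, nat_lit 7536, nat_lit 16866, nat_lit 11336, nat_lit 10737, nat_lit 31176, nat_lit 7970, nat_lit 11976, nat_lit 26122, nat_lit 936, nat_lit 5193, nat_lit 10106, nat_lit 20658, nat_lit 4248, nat_lit 32337, nat_lit 20122, nat_lit 9712, nat_lit 1514, nat_lit 3696, nat_lit 27473, nat_lit 23752, nat_lit 18080, nat_lit 30042, nat_lit 16840, nat_lit 13969, nat_lit 24122, nat_lit 5440, nat_lit 10969, nat_lit 18722, nat_lit 5770, nat_lit 26378, nat_lit 8352, nat_lit 7801, nat_lit 11664, nat_lit 17850, nat_lit 13512, nat_lit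 17946, nat_lit 11088, nat_lit 8618, nat_lit 31498, nat_lit 7056, nat_lit 27834, nat_lit 10664, nat_lit 12665, nat_lit 3954, nat_lit 15440, nat_lit 16538, nat_lit 11344, nat_lit 16770, nat_lit 3914, nat_lit 3624, nat_lit 25418, nat_lit 4808, nat_lit 14041, nat_lit 28162, nat_lit 18008, nat_lit 13194, nat_lit 4896, nat_lit 1753, nat_lit 24938, nat_lit 30176, nat_lit 5177, nat_lit 5218, nat_lit 6672, nat_lit 10394, nat_lit 3384, nat_lit 19337, nat_lit 17146, nat_lit 25984, nat_lit 7210, nat_lit 12776, nat_lit 13960, nat_lit 12913, nat_lit 4522, nat_lit 27305, nat_lit 18674, nat_lit 28490, nat_lit 13384, nat_lit 17162, nat_lit 19800, nat_lit 21426, nat_lit 22896, nat_lit 4330, nat_lit 26648, nat_lit 17913, nat_lit 4746, nat_lit 12832, nat_lit 10586, nat_lit 3432, nat_lit 2666, nat_lit 6584, nat_lit 4216, nat_lit 17114, nat_lit 4784, nat_lit 29897, nat_lit 11714, nat_lit 17464, nat_lit 21202, nat_lit 20248, nat_lit 26433, nat_lit 21600, nat_lit 24656,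 nat_lit 26289, nat_lit 22922, nat_lit 2856, nat_lit 27362, nat_lit 25808, nat_lit 21625, nat_lit 5514, nat_lit 6792, nat_lit 26394, nat_lit 3888, nat_lit 26858, nat_lit 20784, nat_lit 24793, nat_lit 6642, nat_lit 19034, nat_lit 18242, nat_lit 1112, nat_lit 5592, nat_lit 23641, nat_lit 1698, nat_lit 21658, nat_lit 5872, nat_lit 9418, nat_lit 11416, nat_lit 22441, nat_lit 18066],
  [nat_lit 23256, nat_lit 20753, nat_lit 14226, nat_lit 25200, nat_lit 19016, nat_lit 10633, nat_lit 31121, nat_lit 16258, nat_lit 16632, nat_lit 24266, nat_lit 27888, nat_lit 5570, nat_lit 14482, nat_lit 26280, nat_lit 15938, nat_lit 22256, nat_lit 29697, nat_lit 15570, nat_lit 3056, nat_lit 25842, nat_lit 20232, nat_lit 2945, nat_lit 29482, nat_lit 20936, nat_lit 24354, nat_lit 26448, nat_lit 24817, nat_lit 14754, nat_lit 6856, nat_lit 9986, nat_lit 24104, nat_lit 31306, nat_lit 25490, nat_lit 28808, nat_lit 22282, nat_lit 3416, nat_lit 19370, nat_lit 11472, nat_lit 17554,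 nat_lit 23936, nat_lit 23858, nat_lit 11952, nat_lit 9674, nat_lit 2248, nat_lit 16321, nat_lit 19986, nat_lit 9944, nat_lit 10114, nat_lit 6344, nat_lit 14097, nat_lit 19154, nat_lit 848, nat_lit 25002, nat_lit 19753, nat_lit 5010, nat_lit 10464, nat_lit 19522, nat_lit 3832, nat_lit 28945, nat_lit 12538, nat_lit 24408, nat_lit 24961, nat_lit 15010, nat_lit 21096, nat_lit 14914, nat_lit 30232, nat_lit 25249, nat_lit 31626, nat_lit 18792, nat_lit 15232, nat_lit 13105, nat_lit 27954, nat_lit 1400, nat_lit 19426, nat_lit 30736, nat_lit 20874, nat_lit 27464, nat_lit 3881, nat_lit 29474, nat_lit 23232, nat_lit 32002, nat_lit 14705, nat_lit 15370, nat_lit 20368, nat_lit 6384, nat_lit 31505, nat_lit 22754, nat_lit 8880, nat_lit 9690, nat_lit 4040, nat_lit 29656, nat_lit 13986, nat_lit 31344, nat_lit 18849, nat_lit 12498, nat_lit 19248, nat_lit 14818, nat_lit 15954, nat_lit 24066, nat_lit 20488, nat_lit 11905, nat_lit 23322, nat_lit 26488, nat_lit 13042,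 nat_lit 8648, nat_lit 20258, nat_lit 14992, nat_lit 9354, nat_lit 18872, nat_lit 5858, nat_lit 5744, nat_lit 18449, nat_lit 8666, nat_lit 25504, nat_lit 29818, nat_lit 11880, nat_lit 10834, nat_lit 4680, nat_lit 27410, nat_lit 11464, nat_lit 13689, nat_lit 3586, nat_lit 14560, nat_lit 3664, nat_lit 8330, nat_lit 18744, nat_lit 17745, nat_lit 5106, nat_lit 13408, nat_lit 18522, nat_lit 2712, nat_lit 30537, nat_lit 28298, nat_lit 17776, nat_lit 4578, nat_lit 27728, nat_lit 22938, nat_lit 12066, nat_lit 26978, nat_lit 26426, nat_lit 24336, nat_lit 14498, nat_lit 15498, nat_lit 7242, nat_lit 25728, nat_lit 13993, nat_lit 23834, nat_lit 10520, nat_lit 19362, nat_lit 25080, nat_lit 5882, nat_lit 27392, nat_lit 28962, nat_lit 12018, nat_lit 28952, nat_lit 7074, nat_lit 14648, nat_lit 18913, nat_lit 1010, nat_lit 15592, nat_lit 18002, nat_lit 20298, nat_lit 25816, nat_lit 22418, nat_lit 2512, nat_lit 17842, nat_lit 3440, nat_lit 17233, nat_lit 14112, nat_lit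 8570, nat_lit 32064, nat_lit 1321, nat_lit 4410, nat_lit 2968, nat_lit 4888, nat_lit 19161, nat_lit 29928, nat_lit 5962, nat_lit 9256, nat_lit 10873, nat_lit 19266, nat_lit 3264, nat_lit 17690, nat_lit 10088, nat_lit 3177, nat_lit 30880, nat_lit 5466, nat_lit 24256, nat_lit 13330, nat_lit 25368, nat_lit 18025, nat_lit 29362, nat_lit 31840, nat_lit 21880, nat_lit 17985, nat_lit 21218, nat_lit 10578, nat_lit 27617, nat_lit 18642, nat_lit 11432],
  [nat_lit 1874, nat_lit 23144, nat_lit 29506, nat_lit 22960, nat_lit 22465, nat_lit 19410, nat_lit 4832, nat_lit 25938, nat_lit 7448, nat_lit 2730, nat_lit 5985, nat_lit 25930, nat_lit 19728, nat_lit 20914, nat_lit 12224, nat_lit 7089, nat_lit 25890, nat_lit 24322, nat_lit 23192, nat_lit 30602, nat_lit 25032, nat_lit 4713, nat_lit 22330, nat_lit 16208, nat_lit 27042, nat_lit 11856, nat_lit 13904, nat_lit 19169, nat_lit 24978, nat_lit 6050, nat_lit 28328, nat_lit 30530, nat_lit 21576, nat_lit 3793, nat_lit 21010,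 nat_lit 9928, nat_lit 9754, nat_lit 25432, nat_lit 12970, nat_lit 21016, nat_lit 15258, nat_lit 25056, nat_lit 23658, nat_lit 12632, nat_lit 19049, nat_lit 17314, nat_lit 5066, nat_lit 7904, nat_lit 9816, nat_lit 8850, nat_lit 28264, nat_lit 12874, nat_lit 20064, nat_lit 9993, nat_lit 31058, nat_lit 5056, nat_lit 27946, nat_lit 2296, nat_lit 29961, nat_lit 4050, nat_lit 10600, nat_lit 19066, nat_lit 8816, nat_lit 24786, nat_lit 19992, nat_lit 25881, nat_lit 6218, nat_lit 2840, nat_lit 10922, nat_lit 20968, nat_lit 5738, nat_lit 24544, nat_lit 12553, nat_lit 15466, nat_lit 2768, nat_lit 27786, nat_lit 21264, nat_lit 14514, nat_lit 9001, nat_lit 23402, nat_lit 5320, nat_lit 12993, nat_lit 15832, nat_lit 29344, nat_lit 7273, nat_lit 13394, nat_lit 7314, nat_lit 20241, nat_lit 17098, nat_lit 992, nat_lit 9594, nat_lit 29120, nat_lit 7281, nat_lit 29106, nat_lit 9169, nat_lit 19010, nat_lit 15600, nat_lit 1608, nat_lit 8986, nat_lit 21360, nat_lit 3504,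 nat_lit 1522, nat_lit 20074, nat_lit 13368, nat_lit 17106, nat_lit 17488, nat_lit 6554, nat_lit 22664, nat_lit 5898, nat_lit 29408, nat_lit 4729, nat_lit 29770, nat_lit 7696, nat_lit 19944, nat_lit 5449, nat_lit 5712, nat_lit 26770, nat_lit 7512, nat_lit 27457, nat_lit 19122, nat_lit 32208, nat_lit 14048, nat_lit 9538, nat_lit 8744, nat_lit 11873, nat_lit 27226, nat_lit 5426, nat_lit 9304, nat_lit 28321, nat_lit 19098, nat_lit 11240, nat_lit 10082, nat_lit 11936, nat_lit 12785, nat_lit 11586, nat_lit 20290, nat_lit 19480, nat_lit 21146, nat_lit 14161, nat_lit 31786, nat_lit 21776, nat_lit 25832, nat_lit 6265, nat_lit 31616, nat_lit 18208, nat_lit 209, nat_lit 2456, nat_lit 24393, nat_lit 18354, nat_lit 1440, nat_lit 17530, nat_lit 954, nat_lit 15880, nat_lit 1385, nat_lit 8730, nat_lit 3578, nat_lit 27968, nat_lit 4130, nat_lit 17568, nat_lit 26680, nat_lit 25585, nat_lit 11010, nat_lit 19290, nat_lit 4560, nat_lit 29905, nat_lit 3498, nat_lit 25322,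 nat_lit 11217, nat_lit 31266, nat_lit 14338, nat_lit 22216, nat_lit 28888, nat_lit 29729, nat_lit 22546, nat_lit 17336, nat_lit 14314, nat_lit 22760, nat_lit 12673, nat_lit 7770, nat_lit 10930, nat_lit 18136, nat_lit 23569, nat_lit 13978, nat_lit 27520, nat_lit 29746, nat_lit 21072, nat_lit 24769, nat_lit 31330, nat_lit 20434, nat_lit 5560, nat_lit 29761, nat_lit 4082, nat_lit 13424, nat_lit 16594, nat_lit 11536, nat_lit 20401, nat_lit 26496, nat_lit 7849, nat_lit 22680, nat_lit 27088],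
  [nat_lit 21489, nat_lit 21674, nat_lit 7992, nat_lit 31296, nat_lit 873, nat_lit 30978, nat_lit 24601, nat_lit 3066, nat_lit 1642, nat_lit 12640, nat_lit 16506, nat_lit 9136, nat_lit 23225, nat_lit 22968, nat_lit 6138, nat_lit 28928, nat_lit 3817, nat_lit 22296, nat_lit 13242, nat_lit 13376, nat_lit 3193, nat_lit 274, nat_lit 25610, nat_lit 30857, nat_lit 12274, nat_lit 24904, nat_lit 21034, nat_lit 28920, nat_lit 22226, nat_lit 4282, nat_lit 5602, nat_lit 29642, nat_lit 6328, nat_lit 19840, nat_lit 23594, nat_lit 4504, nat_lit 4010, nat_lit 8498, nat_lit 21002, nat_lit 28864, nat_lit 20024, nat_lit 2960, nat_lit 28066, nat_lit 28826, nat_lit 15586, nat_lit 19496, nat_lit 1417, nat_lit 8520, nat_lit 18994, nat_lit 26312, nat_lit 5161, nat_lit 30850, nat_lit 18968, nat_lit 29570, nat_lit 23882, nat_lit 7560, nat_lit 5401, nat_lit 20218, nat_lit 12368, nat_lit 16522, nat_lit 11920, nat_lit 31545, nat_lit 27778, nat_lit 18608, nat_lit 5578, nat_lit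 15520, nat_lit 4985, nat_lit 5552, nat_lit 11280, nat_lit 410, nat_lit 28456, nat_lit 2417, nat_lit 23744, nat_lit 4032, nat_lit 16201, nat_lit 27682, nat_lit 12490, nat_lit 17832, nat_lit 22432, nat_lit 5257, nat_lit 13682, nat_lit 28786, nat_lit 3770, nat_lit 24240, nat_lit 20865, nat_lit 13770, nat_lit 16696, nat_lit 23282, nat_lit 23809, nat_lit 28848, nat_lit 21714, nat_lit 17865, nat_lit 11450, nat_lit 13416, nat_lit 2626, nat_lit 18818, nat_lit 20792, nat_lit 26129, nat_lit 23530, nat_lit 4448, nat_lit 18810, nat_lit 6968, nat_lit 25338, nat_lit 17185, nat_lit 29666, nat_lit 9784, nat_lit 25280, nat_lit 15386, nat_lit 19296, nat_lit 29042, nat_lit 27544, nat_lit 16034, nat_lit 26048, nat_lit 23602, nat_lit 18306, nat_lit 20272, nat_lit 28914, nat_lit 21856, nat_lit 6258, nat_lit 13952, nat_lit 2001, nat_lit 2874, nat_lit 7368, nat_lit 6481, nat_lit 1562, nat_lit 31152, nat_lit 23778, nat_lit 10192, nat_lit 32513, nat_lit 28370, nat_lit 26954,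 nat_lit 21752, nat_lit 7529, nat_lit 1098, nat_lit 9394, nat_lit 22368, nat_lit 1553, nat_lit 28794, nat_lit 29440, nat_lit 16848, nat_lit 23705, nat_lit 5290, nat_lit 28762, nat_lit 5048, nat_lit 12010, nat_lit 21138, nat_lit 18504, nat_lit 977, nat_lit 21274, nat_lit 16168, nat_lit 10850, nat_lit 10056, nat_lit 27434, nat_lit 4856, nat_lit 31761, nat_lit 17136, nat_lit 29914, nat_lit 30120, nat_lit 9065, nat_lit 26698, nat_lit 31400, nat_lit 24800, nat_lit 12529, nat_lit 6984, nat_lit 25378, nat_lit 12056, nat_lit 27322, nat_lit 2720, nat_lit 15177, nat_lit 27986, nat_lit 21864, nat_lit 25744, nat_lit 21906, nat_lit 14394, nat_lit 20560, nat_lit 20882, nat_lit 5832, nat_lit 6297, nat_lit 10002, nat_lit 25304, nat_lit 30346, nat_lit 23136, nat_lit 25352, nat_lit 31290, nat_lit 21928, nat_lit 14361, nat_lit 8034, nat_lit 4304, nat_lit 3528, nat_lit 5081, nat_lit 13912, nat_lit 9098, nat_lit 5328, nat_lit 22729, nat_lit 22712, nat_lit 1976, nat_lit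 26338, nat_lit 1945, nat_lit 25170, nat_lit 24648],
  [nat_lit 5672, nat_lit 11273, nat_lit 21522, nat_lit 18336, nat_lit 18192, nat_lit 28858, nat_lit 29088, nat_lit 18784, nat_lit 6522, nat_lit 7016, nat_lit 10858, nat_lit 14080, nat_lit 26674, nat_lit 11321, nat_lit 22976, nat_lit 18832, nat_lit 31001, nat_lit 7602, nat_lit 17256, nat_lit 31338, nat_lit 19658, nat_lit 31472, nat_lit 21801, nat_lit 13762, nat_lit 2584, nat_lit 30930, nat_lit 19720, nat_lit 1688, nat_lit 29337, nat_lit 28314, nat_lit 17450, nat_lit 24952, nat_lit 5098, nat_lit 29376, nat_lit 15618, nat_lit 23433, nat_lit 21706, nat_lit 6976, nat_lit 1361, nat_lit 13648, nat_lit 18602, nat_lit 9336, nat_lit 12049, nat_lit 21818, nat_lit 5810, nat_lit 6082, nat_lit 29704, nat_lit 8952, nat_lit 10202, nat_lit 18474, nat_lit 19929, nat_lit 418, nat_lit 17994, nat_lit 1712, nat_lit 21081, nat_lit 17712, nat_lit 20986, nat_lit 3288, nat_lit 3978, nat_lit 2104, nat_lit 26513, nat_lit 8552,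 nat_lit 890, nat_lit 18776, nat_lit 27977, nat_lit 6818, nat_lit 14426, nat_lit 11330, nat_lit 25769, nat_lit 11162, nat_lit 26984, nat_lit 21090, nat_lit 26504, nat_lit 6241, nat_lit 13882, nat_lit 29600, nat_lit 27184, nat_lit 20321, nat_lit 29138, nat_lit 11377, nat_lit 6994, nat_lit 13234, nat_lit 1424, nat_lit 23633, nat_lit 1466, nat_lit 29288, nat_lit 13122, nat_lit 27192, nat_lit 13258, nat_lit 3392, nat_lit 314, nat_lit 26154, nat_lit 18328, nat_lit 20569, nat_lit 14258, nat_lit 29808, nat_lit 31209, nat_lit 3970, nat_lit 23370, nat_lit 3320, nat_lit 25896, nat_lit 9120, nat_lit 27746, nat_lit 552, nat_lit 19176, nat_lit 4873, nat_lit 11816, nat_lit 27210, nat_lit 10824, nat_lit 10762, nat_lit 19320, nat_lit 15330, nat_lit 30810, nat_lit 22088, nat_lit 14874, nat_lit 9402, nat_lit 14882, nat_lit 11624, nat_lit 3489, nat_lit 26760, nat_lit 7954, nat_lit 7112, nat_lit 26162, nat_lit 12600, nat_lit 19186, nat_lit 9504, nat_lit 18538, nat_lit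 31944, nat_lit 5890, nat_lit 24512, nat_lit 29986, nat_lit 24696, nat_lit 18033, nat_lit 12128, nat_lit 10618, nat_lit 27169, nat_lit 23624, nat_lit 6930, nat_lit 29520, nat_lit 18017, nat_lit 31074, nat_lit 27512, nat_lit 17889, nat_lit 13026, nat_lit 14848, nat_lit 10514, nat_lit 24168, nat_lit 14930, nat_lit 1528, nat_lit 29313, nat_lit 12920, nat_lit 15921, nat_lit 21810, nat_lit 21594, nat_lit 12176, nat_lit 13224, nat_lit 14433, nat_lit 21442, nat_lit 21650, nat_lit 19808, nat_lit 3849, nat_lit 20586, nat_lit 4992, nat_lit 11570, nat_lit 28432, nat_lit 12474, nat_lit 32032, nat_lit 6250, nat_lit 22050, nat_lit 30784, nat_lit 10545, nat_lit 6426, nat_lit 11136, nat_lit 27690, nat_lit 14417, nat_lit 12122, nat_lit 26064, nat_lit 21690, nat_lit 22120, nat_lit 641, nat_lit 25160, nat_lit 11968, nat_lit 6633, nat_lit 9234, nat_lit 18961, nat_lit 32074, nat_lit 9921, nat_lit 22618, nat_lit 8160, nat_lit 9330, nat_lit 11058, nat_lit 4968, nat_lit 19552,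 nat_lit 3409, nat_lit 4442, nat_lit 25960, nat_lit 21106, nat_lit 424, nat_lit 15889, nat_lit 20338],
  [nat_lit 17818, nat_lit 15770, nat_lit 3874, nat_lit 5232, nat_lit 24914, nat_lit 9194, nat_lit 14472, nat_lit 3034, nat_lit 12200, nat_lit 13665, nat_lit 4274, nat_lit 26928, nat_lit 26465, nat_lit 7456, nat_lit 15112, nat_lit 10609, nat_lit 10810, nat_lit 29008, nat_lit 6562, nat_lit 32192, nat_lit 25776, nat_lit 7386, nat_lit 7616, nat_lit 1330, nat_lit 26242, nat_lit 17080, nat_lit 23113, nat_lit 30426, nat_lit 26096, nat_lit 7666, nat_lit 12081, nat_lit 1290, nat_lit 30112, nat_lit 6697, nat_lit 11616, nat_lit 2921, nat_lit 16754, nat_lit 16000, nat_lit 7352, nat_lit 1986, nat_lit 26568, nat_lit 30242, nat_lit 18369, nat_lit 17362, nat_lit 15752, nat_lit 27760, nat_lit 28305, nat_lit 19106, nat_lit 4840, nat_lit 2016, nat_lit 13009, nat_lit 27754, nat_lit 10674, nat_lit 15672, nat_lit 26529, nat_lit 3474, nat_lit 9624, nat_lit 32353, nat_lit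 7408, nat_lit 1474, nat_lit 9058, nat_lit 28416, nat_lit 26624, nat_lit 22554, nat_lit 22336, nat_lit 14642, nat_lit 11656, nat_lit 10218, nat_lit 22904, nat_lit 21234, nat_lit 4320, nat_lit 15425, nat_lit 10128, nat_lit 10009, nat_lit 23074, nat_lit 4672, nat_lit 10506, nat_lit 9432, nat_lit 20362, nat_lit 2928, nat_lit 25570, nat_lit 20712, nat_lit 7346, nat_lit 10954, nat_lit 25793, nat_lit 14570, nat_lit 6770, nat_lit 2336, nat_lit 16762, nat_lit 13704, nat_lit 18226, nat_lit 22112, nat_lit 18176, nat_lit 18905, nat_lit 18216, nat_lit 22810, nat_lit 25752, nat_lit 23713, nat_lit 6026, nat_lit 30546, nat_lit 20194, nat_lit 6704, nat_lit 25042, nat_lit 25640, nat_lit 21338, nat_lit 17736, nat_lit 4666, nat_lit 15264, nat_lit 14144, nat_lit 10282, nat_lit 8888, nat_lit 26562, nat_lit 21970, nat_lit 13864, nat_lit 2289, nat_lit 8786, nat_lit 27848, nat_lit 29874, nat_lit 30394, nat_lit 12168, nat_lit 26402, nat_lit 7744, nat_lit 20000, nat_lit 14666,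 nat_lit 29248, nat_lit 10489, nat_lit 14354, nat_lit 23376, nat_lit 12714, nat_lit 21640, nat_lit 5914, nat_lit 9680, nat_lit 20170, nat_lit 2936, nat_lit 9210, nat_lit 30080, nat_lit 15393, nat_lit 19586, nat_lit 6008, nat_lit 8946, nat_lit 15713, nat_lit 7690, nat_lit 3536, nat_lit 3234, nat_lit 20106, nat_lit 7792, nat_lit 25473, nat_lit 26842, nat_lit 12904, nat_lit 10401, nat_lit 27592, nat_lit 30258, nat_lit 15489, nat_lit 8018, nat_lit 8920, nat_lit 1720, nat_lit 23440, nat_lit 29858, nat_lit 20664, nat_lit 32138, nat_lit 18584, nat_lit 7834, nat_lit 6353, nat_lit 5930, nat_lit 2440, nat_lit 14960, nat_lit 26937, nat_lit 10442, nat_lit 13434, nat_lit 20041, nat_lit 24986, nat_lit 26016, nat_lit 25224, nat_lit 15898, nat_lit 22025, nat_lit 1584, nat_lit 31824, nat_lit 27569, nat_lit 22658, nat_lit 12106, nat_lit 28512, nat_lit 23048, nat_lit 31250, nat_lit 29064, nat_lit 9008, nat_lit 8642, nat_lit 21793, nat_lit 26994, nat_lit 1266, nat_lit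 25704, nat_lit 4930, nat_lit 22096, nat_lit 20097, nat_lit 17320, nat_lit 16226, nat_lit 4602, nat_lit 27864, nat_lit 31009, nat_lit 7826, nat_lit 26088],
  [nat_lit 18800, nat_lit 19849, nat_lit 28242, nat_lit 5457, nat_lit 19376, nat_lit 9864, nat_lit 28018, nat_lit 22178, nat_lit 29328, nat_lit 30098, nat_lit 28544, nat_lit 15650, nat_lit 2865, nat_lit 21050, nat_lit 15296, nat_lit 12512, nat_lit 8104, nat_lit 6473, nat_lit 9842, nat_lit 6952, nat_lit 27250, nat_lit 25968, nat_lit 6370, nat_lit 28872, nat_lit 5906, nat_lit 13730, nat_lit 14522, nat_lit 31066, nat_lit 11106, nat_lit 26888, nat_lit 23346, nat_lit 21344, nat_lit 10321, nat_lit 14698, nat_lit 16826, nat_lit 17194, nat_lit 3282, nat_lit 11824, nat_lit 8410, nat_lit 6312, nat_lit 7945, nat_lit 25904, nat_lit 22778, nat_lit 1458, nat_lit 10482, nat_lit 21288, nat_lit 15210, nat_lit 20808, nat_lit 23090, nat_lit 30512, nat_lit 16441, nat_lit 22650, nat_lit 26416, nat_lit 18665, nat_lit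 13610, nat_lit 31912, nat_lit 7762, nat_lit 2528, nat_lit 1138, nat_lit 31360, nat_lit 13338, nat_lit 2024, nat_lit 11890, nat_lit 5296, nat_lit 28881, nat_lit 9528, nat_lit 762, nat_lit 18057, nat_lit 17394, nat_lit 12392, nat_lit 1257, nat_lit 3104, nat_lit 20266, nat_lit 16810, nat_lit 8698, nat_lit 20857, nat_lit 9442, nat_lit 24112, nat_lit 12506, nat_lit 23410, nat_lit 13888, nat_lit 26906, nat_lit 27016, nat_lit 24098, nat_lit 28080, nat_lit 5354, nat_lit 2656, nat_lit 10705, nat_lit 10330, nat_lit 22880, nat_lit 7912, nat_lit 5377, nat_lit 18345, nat_lit 20642, nat_lit 10714, nat_lit 11074, nat_lit 29186, nat_lit 11810, nat_lit 31377, nat_lit 24034, nat_lit 4792, nat_lit 28634, nat_lit 30944, nat_lit 5041, nat_lit 21826, nat_lit 3640, nat_lit 14552, nat_lit 4584, nat_lit 30826, nat_lit 27064, nat_lit 31881, nat_lit 10032, nat_lit 10474, nat_lit 23064, nat_lit 17289, nat_lit 25128, nat_lit 7962, nat_lit 12089, nat_lit 498, nat_lit 2360, nat_lit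 3050, nat_lit 24666, nat_lit 11033, nat_lit 27442, nat_lit 26352, nat_lit 969, nat_lit 29554, nat_lit 3752, nat_lit 26202, nat_lit 25944, nat_lit 32488, nat_lit 21152, nat_lit 15698, nat_lit 18129, nat_lit 8434, nat_lit 30354, nat_lit 8913, nat_lit 31322, nat_lit 22000, nat_lit 5610, nat_lit 5968, nat_lit 27713, nat_lit 10658, nat_lit 5842, nat_lit 10144, nat_lit 9586, nat_lit 29210, nat_lit 7080, nat_lit 10888, nat_lit 16241, nat_lit 17065, nat_lit 3128, nat_lit 3122, nat_lit 31921, nat_lit 11682, nat_lit 22042, nat_lit 28576, nat_lit 29802, nat_lit 12194, nat_lit 29849, nat_lit 15762, nat_lit 31434, nat_lit 472, nat_lit 1433, nat_lit 12330, nat_lit 688, nat_lit 11482, nat_lit 1784, nat_lit 30368, nat_lit 12841, nat_lit 19689, nat_lit 26721, nat_lit 26024, nat_lit 14673, nat_lit 8002, nat_lit 1744, nat_lit 27802, nat_lit 18274, nat_lit 15632, nat_lit 16818, nat_lit 24682, nat_lit 2545, nat_lit 7152, nat_lit 3346, nat_lit 29546, nat_lit 11784, nat_lit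 8962, nat_lit 4777, nat_lit 10536, nat_lit 11761, nat_lit 32048, nat_lit 10098, nat_lit 18424, nat_lit 16098, nat_lit 15314, nat_lit 22152, nat_lit 13841, nat_lit 32530, nat_lit 29632, nat_lit 31794],
  [nat_lit 3920, nat_lit 27720, nat_lit 2409, nat_lit 13544, nat_lit 12337, nat_lit 18402, nat_lit 24730, nat_lit 114, nat_lit 28680, nat_lit 22250, nat_lit 816, nat_lit 26874, nat_lit 22704, nat_lit 21913, nat_lit 8248, nat_lit 2778, nat_lit 4568, nat_lit 11608, nat_lit 1674, nat_lit 9962, nat_lit 15273, nat_lit 18288, nat_lit 27528, nat_lit 28994, nat_lit 17976, nat_lit 15066, nat_lit 31808, nat_lit 10210, nat_lit 28832, nat_lit 13873, nat_lit 2490, nat_lit 14456, nat_lit 730, nat_lit 2136, nat_lit 3160, nat_lit 27922, nat_lit 28176, nat_lit 18632, nat_lit 8025, nat_lit 11690, nat_lit 20632, nat_lit 22146, nat_lit 6442, nat_lit 30816, nat_lit 3897, nat_lit 9146, nat_lit 1480, nat_lit 14409, nat_lit 14032, nat_lit 17178, nat_lit 24176, nat_lit 17088,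 nat_lit 21850, nat_lit 9496, nat_lit 3241, nat_lit 9480, nat_lit 17210, nat_lit 14784, nat_lit 17698, nat_lit 13658, nat_lit 20160, nat_lit 13578, nat_lit 19080, nat_lit 10986, nat_lit 8256, nat_lit 18714, nat_lit 25394, nat_lit 30272, nat_lit 21122, nat_lit 8594, nat_lit 31234, nat_lit 28256, nat_lit 28754, nat_lit 8096, nat_lit 30224, nat_lit 11402, nat_lit 27600, nat_lit 31145, nat_lit 30986, nat_lit 16066, nat_lit 29370, nat_lit 10914, nat_lit 7442, nat_lit 23264, nat_lit 24218, nat_lit 11640, nat_lit 3042, nat_lit 28288, nat_lit 19346, nat_lit 25410, nat_lit 7426, nat_lit 6042, nat_lit 31522, nat_lit 5818, nat_lit 23986, nat_lit 14832, nat_lit 1250, nat_lit 27201, nat_lit 29024, nat_lit 9969, nat_lit 9648, nat_lit 24225, nat_lit 17906, nat_lit 18386, nat_lit 1834, nat_lit 24738, nat_lit 9152, nat_lit 26520, nat_lit 6850, nat_lit 27312, nat_lit 21481, nat_lit 29890, nat_lit 19512, nat_lit 23360, nat_lit 14626, nat_lit 1000, nat_lit 24506, nat_lit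 3680, nat_lit 1937, nat_lit 15576, nat_lit 20841, nat_lit 12817, nat_lit 9250, nat_lit 30568, nat_lit 15202, nat_lit 16928, nat_lit 776, nat_lit 27426, nat_lit 30776, nat_lit 31104, nat_lit 24808, nat_lit 24386, nat_lit 2640, nat_lit 14376, nat_lit 2520, nat_lit 20825, nat_lit 1962, nat_lit 6000, nat_lit 11441, nat_lit 2394, nat_lit 16872, nat_lit 8080, nat_lit 21833, nat_lit 20706, nat_lit 6737, nat_lit 25722, nat_lit 32264, nat_lit 1274, nat_lit 4186, nat_lit 12400, nat_lit 26865, nat_lit 2498, nat_lit 15625, nat_lit 3450, nat_lit 12688, nat_lit 17586, nat_lit 16562, nat_lit 23968, nat_lit 5242, nat_lit 10050, nat_lit 25106, nat_lit 27336, nat_lit 7192, nat_lit 2912, nat_lit 11145, nat_lit 19528, nat_lit 6666, nat_lit 21384, nat_lit 29032, nat_lit 13049, nat_lit 15640, nat_lit 10960, nat_lit 25994, nat_lit 23560, nat_lit 23306, nat_lit 1760, nat_lit 12425, nat_lit 2536, nat_lit 7482, nat_lit 11352, nat_lit 16058, nat_lit 28704, nat_lit 10937, nat_lit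 22858, nat_lit 19216, nat_lit 20425, nat_lit 28842, nat_lit 27154, nat_lit 5250, nat_lit 23801, nat_lit 1218, nat_lit 7658, nat_lit 18682, nat_lit 7040, nat_lit 6089, nat_lit 25650, nat_lit 29720, nat_lit 11488, nat_lit 25008, nat_lit 20601],
  [nat_lit 15664, nat_lit 32120, nat_lit 18729, nat_lit 19002, nat_lit 17218, nat_lit 9856, nat_lit 11530, nat_lit 840, nat_lit 29082, nat_lit 23609, nat_lit 3425, nat_lit 7808, nat_lit 27666, nat_lit 3370, nat_lit 8538, nat_lit 19872, nat_lit 7569, nat_lit 5474, nat_lit 25680, nat_lit 4472, nat_lit 26234, nat_lit 32346, nat_lit 856, nat_lit 26920, nat_lit 7882, nat_lit 29258, nat_lit 17432, nat_lit 7066, nat_lit 24209, nat_lit 2482, nat_lit 2650, nat_lit 29264, nat_lit 12442, nat_lit 21545, nat_lit 1498, nat_lit 13248, nat_lit 23329, nat_lit 21938, nat_lit 13794, nat_lit 3906, nat_lit 22072, nat_lit 6616, nat_lit 28200, nat_lit 32650, nat_lit 19114, nat_lit 6624, nat_lit 16025, nat_lit 22426, nat_lit 13072,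 nat_lit 9160, nat_lit 10026, nat_lit 26664, nat_lit 21322, nat_lit 23512, nat_lit 31984, nat_lit 5338, nat_lit 1656, nat_lit 17929, nat_lit 12944, nat_lit 30265, nat_lit 20944, nat_lit 250, nat_lit 8793, nat_lit 22634, nat_lit 9656, nat_lit 17650, nat_lit 6714, nat_lit 4696, nat_lit 25498, nat_lit 6410, nat_lit 28194, nat_lit 19936, nat_lit 13080, nat_lit 21953, nat_lit 17122, nat_lit 29273, nat_lit 31890, nat_lit 6602, nat_lit 2849, nat_lit 28640, nat_lit 15506, nat_lit 28728, nat_lit 6064, nat_lit 22737, nat_lit 9698, nat_lit 13584, nat_lit 3553, nat_lit 12362, nat_lit 6449, nat_lit 30136, nat_lit 6512, nat_lit 22562, nat_lit 3842, nat_lit 17377, nat_lit 25066, nat_lit 23848, nat_lit 11994, nat_lit 22840, nat_lit 27288, nat_lit 26146, nat_lit 6608, nat_lit 17578, nat_lit 10720, nat_lit 25914, nat_lit 18880, nat_lit 23178, nat_lit 32400, nat_lit 19504, nat_lit 11024, nat_lit 16706, nat_lit 3208, nat_lit 8586, nat_lit 29416, nat_lit 1242, nat_lit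 25864, nat_lit 4960, nat_lit 8562, nat_lit 29394, nat_lit 18088, nat_lit 6898, nat_lit 24328, nat_lit 29234, nat_lit 10168, nat_lit 26138, nat_lit 30218, nat_lit 2616, nat_lit 19913, nat_lit 20976, nat_lit 23616, nat_lit 22794, nat_lit 21617, nat_lit 3728, nat_lit 7552, nat_lit 5073, nat_lit 17706, nat_lit 5304, nat_lit 14129, nat_lit 362, nat_lit 15056, nat_lit 21433, nat_lit 21738, nat_lit 24760, nat_lit 6098, nat_lit 2953, nat_lit 20056, nat_lit 27401, nat_lit 30898, nat_lit 7872, nat_lit 14152, nat_lit 9552, nat_lit 16994, nat_lit 13264, nat_lit 18120, nat_lit 21192, nat_lit 5697, nat_lit 20088, nat_lit 19713, nat_lit 27938, nat_lit 22802, nat_lit 11168, nat_lit 4058, nat_lit 18544, nat_lit 20674, nat_lit 13441, nat_lit 5000, nat_lit 19738, nat_lit 3672, nat_lit 25234, nat_lit 26946, nat_lit 23664, nat_lit 19768, nat_lit 23698, nat_lit 8376, nat_lit 30626, nat_lit 12521, nat_lit 13754, nat_lit 31242, nat_lit 19392, nat_lit 15658, nat_lit 26210,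 nat_lit 3352, nat_lit 28033, nat_lit 2994, nat_lit 27048, nat_lit 5994, nat_lit 13642, nat_lit 24016, nat_lit 20889, nat_lit 5538, nat_lit 23456, nat_lit 19977, nat_lit 21178, nat_lit 13280, nat_lit 30304, nat_lit 8369, nat_lit 15192, nat_lit 7177, nat_lit 13474, nat_lit 24994, nat_lit 3018],
  [nat_lit 3001, nat_lit 21224, nat_lit 9792, nat_lit 7856, nat_lit 11730, nat_lit 28482, nat_lit 12736, nat_lit 12546, nat_lit 17240, nat_lit 27505, nat_lit 11050, nat_lit 21314, nat_lit 3098, nat_lit 13464, nat_lit 3722, nat_lit 16730, nat_lit 30761, nat_lit 4394, nat_lit 15912, nat_lit 4002, nat_lit 10896, nat_lit 7594, nat_lit 8112, nat_lit 13928, nat_lit 25784, nat_lit 14290, nat_lit 14770, nat_lit 31048, nat_lit 15048, nat_lit 11778, nat_lit 30656, nat_lit 19642, nat_lit 32450, nat_lit 6864, nat_lit 5018, nat_lit 1954, nat_lit 17882, nat_lit 19536, nat_lit 12952, nat_lit 27768, nat_lit 10640, nat_lit 13801, nat_lit 13208, nat_lit 29353, nat_lit 6800, nat_lit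 14946, nat_lit 568, nat_lit 15680, nat_lit 25098, nat_lit 20681, nat_lit 29841, nat_lit 16010, nat_lit 6192, nat_lit 17008, nat_lit 4344, nat_lit 10424, nat_lit 28440, nat_lit 28088, nat_lit 29832, nat_lit 19056, nat_lit 14538, nat_lit 26321, nat_lit 1618, nat_lit 19906, nat_lit 2194, nat_lit 7754, nat_lit 22288, nat_lit 21282, nat_lit 19921, nat_lit 15472, nat_lit 1816, nat_lit 18890, nat_lit 17560, nat_lit 7818, nat_lit 3306, nat_lit 22058, nat_lit 30104, nat_lit 30282, nat_lit 17002, nat_lit 27384, nat_lit 30402, nat_lit 30802, nat_lit 24201, nat_lit 13114, nat_lit 21553, nat_lit 31280, nat_lit 13066, nat_lit 232, nat_lit 12889, nat_lit 712, nat_lit 21410, nat_lit 15184, nat_lit 19817, nat_lit 31018, nat_lit 12162, nat_lit 15138, nat_lit 32290, nat_lit 9200, nat_lit 9458, nat_lit 7106, nat_lit 16666, nat_lit 4120, nat_lit 2280, nat_lit 28986, nat_lit 7632, nat_lit 30144, nat_lit 12849, nat_lit 11801, nat_lit 25696, nat_lit 3216, nat_lit 20952,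 nat_lit 736, nat_lit 8544, nat_lit 16738, nat_lit 23208, nat_lit 1777, nat_lit 21872, nat_lit 20770, nat_lit 29457, nat_lit 20962, nat_lit 5362, nat_lit 12704, nat_lit 15546, nat_lit 7266, nat_lit 8778, nat_lit 24848, nat_lit 15945, nat_lit 15552, nat_lit 882, nat_lit 1866, nat_lit 26792, nat_lit 22106, nat_lit 12856, nat_lit 14634, nat_lit 632, nat_lit 11210, nat_lit 12826, nat_lit 19698, nat_lit 10688, nat_lit 22592, nat_lit 3736, nat_lit 14856, nat_lit 3930, nat_lit 32130, nat_lit 30482, nat_lit 9905, nat_lit 31513, nat_lit 17624, nat_lit 14490, nat_lit 17128, nat_lit 14217, nat_lit 25658, nat_lit 32025, nat_lit 29712, nat_lit 20017, nat_lit 4824, nat_lit 26250, nat_lit 25208, nat_lit 12744, nat_lit 24944, nat_lit 19680, nat_lit 31489, nat_lit 23106, nat_lit 6530, nat_lit 21730, nat_lit 19650, nat_lit 31088, nat_lit 3776, nat_lit 18920, nat_lit 10336, nat_lit 9880, nat_lit 25193, nat_lit 31904, nat_lit 24882, nat_lit 24888]]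

theorem m12Cert_ok : preOK (nat_lit 5) (nat_lit 32) (nat_lit 24) m12Cert m12Gens = true := by
  decide +kernel

theorem m11cCert_ok : preOK (nat_lit 5) (nat_lit 32) (nat_lit 24) m11cCert m11Gens = true := by
  decide +kernel

end Cfsg.Agent.H14
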