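/-
Certificate data for the stabiliser chain of `M24` with base ∞, 0, 1, 2, 3, 5, 4 (generated by tools_h14/permcert.py).
-/
import Cfsg.Agent.H14.Chain2

set_option autoImplicit false

namespace Cfsg.Agent.H14

/-- packed forms of `x ↦ x + 1`, `x ↦ -1/x` and the cube twist -/
def m24Gens : List ℕ := [nat_lit 0xb82d5a4e5183dcd62d4941cc520c41, nat_lit 0x5883388a1c8f5140b46cd317aed7, nat_lit 0xbba8ab116d7c52899d90286a219a40]
def m23Gens : List ℕ := [nat_lit 0xb82d5a4e5183dcd62d4941cc520c41, nat_lit 0xb81672c4d663e686bab04d08a08e42]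
def m22Gens : List ℕ := [nat_lit 0xbd4887454c30a6d19d762c0327a680, nat_lit 0xbacc808de261ead491519160e9d2c0]
def m21Gens : List ℕ := [nat_lit 0xbd10b54d92824b53b9e268c9689820, nat_lit 0xbb6141b2b1b29e2594c849dd324820]
def m24CertL0 : Lev := ⟨nat_lit 23, nat_lit 0xffffff, (.node (nat_lit 12) (.node (nat_lit 6) (.node (nat_lit 3) (.node (nat_lit 1) (.leaf (nat_lit 0x5883388a1c8f5140b46cd317aed7)) (.node (nat_lit 2) (.leaf (nat_lit 0xb2ce568d2289a817926c9220e556e0)) (.leaf (nat_lit 0xb2492355b38bc225c19438ca855dc0)))) (.node (nat_lit 4) (.leaf (nat_lit 0x216a0d6d338c8614185939afbc534)) (.node (nat_lit 5) (.leaf (nat_lit 0x2d41ada67190c2830b2735f78a688)) (.leaf (nat_lit 0x2835b4ce3218506164e6bef14d10b))))) (.node (nat_lit 9) (.node (nat_lit 7) (.leaf (nat_lit 0xb18a45b9f48a66c6c82285cf552060)) (.node (nat_lit 8) (.leaf (nat_lit 0x1aa55458221e4eb3603ba0344be6b)) (.leaf (nat_lit 0x7c462291a79b21649a97506a874960))))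 (.node (nat_lit 10) (.leaf (nat_lit 0x5a20e79a254cda1a0ef515a4723140)) (.node (nat_lit 11) (.leaf (nat_lit 0x59c2a0de882aa725e65904cc6c569)) (.leaf (nat_lit 0x38541bd10554e4bccb20998d8ad36)))))) (.node (nat_lit 18) (.node (nat_lit 15) (.node (nat_lit 13) (.leaf (nat_lit 0x5be50a2a754a0b78b9a11b04621ec0)) (.node (nat_lit 14) (.leaf (nat_lit 0x5cdc341e8d4c6f57882592a0c258c0)) (.leaf (nat_lit 0x336079a8287dc838d56c70a89916c0)))) (.node (nat_lit 16) (.leaf (nat_lit 0xa24c570df0bd64b8cdaa2059638900)) (.node (nat_lit 17) (.leaf (nat_lit 0x34d61b0574d64a740a8a1c93585f1)) (.leaf (nat_lit 0x1ac360ae9ac94e815143926b0be2d))))) (.node (nat_lit 21) (.node (nat_lit 19) (.leaf (nat_lit 0x586c15d35929d02a28724d617c5a6)) (.node (nat_lit 20) (.leaf (nat_lit 0xd82ba6b253a05450e49ac2f8b4d6)) (.leaf (nat_lit 0x2ed70b1067114391ea28168d9a62f)))) (.node (nat_lit 22) (.leaf (nat_lit 0x5ae1620ce228723d4502d1b34c5eb))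 (.node (nat_lit 23) (.leaf (nat_lit 0x5c2c419c450e47a8a05a36698bd76)) (.leaf (nat_lit 0xbdab49ca307b9ac5a928398a418820)))))))⟩
def m24CertC0 : LevCert := ⟨m24CertL0,
    [(nat_lit 0, nat_lit 1), (nat_lit 22, nat_lit 0), (nat_lit 21, nat_lit 0), (nat_lit 1, nat_lit 1), (nat_lit 19, nat_lit 2), (nat_lit 20, nat_lit 0), (nat_lit 12, nat_lit 1), (nat_lit 5, nat_lit 2), (nat_lit 6, nat_lit 2), (nat_lit 18, nat_lit 0), (nat_lit 11, nat_lit 2), (nat_lit 8, nat_lit 1), (nat_lit 9, nat_lit 2), (nat_lit 4, nat_lit 0), (nat_lit 7, nat_lit 2), (nat_lit 2, nat_lit 2), (nat_lit 17, nat_lit 0), (nat_lit 14, nat_lit 1), (nat_lit 10, nat_lit 0), (nat_lit 13, nat_lit 2), (nat_lit 3, nat_lit 0), (nat_lit 16, nat_lit 0), (nat_lit 15, nat_lit 1)],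
    [[nat_lit 0], [nat_lit 6, nat_lit 6, nat_lit 6, nat_lit 2]],
    [nat_lit 0xb82d5a4e5183dcd62d4941cc520c41, nat_lit 0xb81672c4d663e686bab04d08a08e42]⟩
def m24CertL1 : Lev := ⟨nat_lit 0, nat_lit 0x7fffff, (.node (nat_lit 11) (.node (nat_lit 5) (.node (nat_lit 2) (.node (nat_lit 1) (.leaf (nat_lit 0xbdab49ca307b9ac5a928398a418820)) (.leaf (nat_lit 0xb960c559648d02d94c757092f32007))) (.node (nat_lit 3) (.leaf (nat_lit 0xba0f2725622b62aa869020d8f980d6)) (.node (nat_lit 4) (.leaf (nat_lit 0xb9e4e4ac456c5550d2041b1f301ac8)) (.leaf (nat_lit 0xbd4a372914489f2b2e110cd803b486))))) (.node (nat_lit 8) (.node (nat_lit 6) (.leaf (nat_lit 0xb946e5228913e565c2219b007690d5)) (.node (nat_lit 7) (.leaf (nat_lit 0xb8dca451227cacb84433600ed21aa5)) (.leaf (nat_lit 0xb91eb322c2538f2ac5a102590a0e65)))) (.node (nat_lit 9) (.leaf (nat_lit 0xb8dca29ea14b4d1a4180b216f98a44)) (.node (nat_lit 10) (.leaf (nat_lit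 0xb89a93cd01746aa7c0125d8cc19684)) (.leaf (nat_lit 0xb929651a3381d8f68072706a91150b)))))) (.node (nat_lit 17) (.node (nat_lit 14) (.node (nat_lit 12) (.leaf (nat_lit 0xb8894b2ea81c525019ae0b14f84a67)) (.node (nat_lit 13) (.leaf (nat_lit 0xb92965d5038a4a0335c1629f094ce2)) (.leaf (nat_lit 0xb91eb4d54384c0c8c8546850e29ec6)))) (.node (nat_lit 15) (.leaf (nat_lit 0xbcc61620d2381b0a25cfb45552ac44)) (.node (nat_lit 16) (.leaf (nat_lit 0xb8c2c41a47036144b9f68aaa558893)) (.leaf (nat_lit 0xb8588348e06c28973ed1554ab11263))))) (.node (nat_lit 20) (.node (nat_lit 18) (.leaf (nat_lit 0xb960c3a4035bd13b49c20a9b1a9286)) (.node (nat_lit 19) (.leaf (nat_lit 0xb9062082d5a4e5183dcd62d4941cc5)) (.leaf (nat_lit 0xb8c4105ab49ca307b9ac5a928398a4)))) (.node (nat_lit 21) (.leaf (nat_lit 0xb8820b56939460f7358b5250731483)) (.node (nat_lit 22) (.leaf (nat_lit 0xb8416ad2728c1ee6b16a4a0e629062)) (.leaf (nat_lit 0xb82d5a4e5183dcd62d4941cc520c41)))))))⟩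
def m24CertC1 : LevCert := ⟨m24CertL1,
    [(nat_lit 22, nat_lit 0), (nat_lit 21, nat_lit 0), (nat_lit 16, nat_lit 1), (nat_lit 20, nat_lit 0), (nat_lit 9, nat_lit 1), (nat_lit 15, nat_lit 0), (nat_lit 8, nat_lit 1), (nat_lit 19, nat_lit 0), (nat_lit 6, nat_lit 1), (nat_lit 7, nat_lit 1), (nat_lit 14, nat_lit 0), (nat_lit 12, nat_lit 1), (nat_lit 18, nat_lit 0), (nat_lit 13, nat_lit 1), (nat_lit 5, nat_lit 0), (nat_lit 17, nat_lit 1), (nat_lit 10, nat_lit 1), (nat_lit 11, nat_lit 0), (nat_lit 1, nat_lit 1), (nat_lit 4, nat_lit 0), (nat_lit 3, nat_lit 1), (nat_lit 2, nat_lit 0)],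
    [[nat_lit 0, nat_lit 0, nat_lit 0, nat_lit 2, nat_lit 2, nat_lit 2, nat_lit 2, nat_lit 0], [nat_lit 2, nat_lit 2, nat_lit 2, nat_lit 2, nat_lit 2, nat_lit 4, nat_lit 4, nat_lit 4, nat_lit 2, nat_lit 2]],
    [nat_lit 0xbd4887454c30a6d19d762c0327a680, nat_lit 0xbacc808de261ead491519160e9d2c0]⟩
def m24CertL2 : Lev := ⟨nat_lit 1, nat_lit 0x7ffffe, (.node (nat_lit 12) (.node (nat_lit 6) (.node (nat_lit 3) (.node (nat_lit 2) (.leaf (nat_lit 0xbdab49ca307b9ac5a928398a418820)) (.leaf (nat_lit 0xbb565a3142456d149de698e5070480))) (.node (nat_lit 4) (.leaf (nat_lit 0xba4b1b4d946c8d55388f1c0470a160)) (.node (nat_lit 5) (.leaf (nat_lit 0xb8e8720a76729922a63033561455e0)) (.leaf (nat_lit 0xbd4887454c30a6d19d762c0327a680))))) (.node (nat_lit 9) (.node (nat_lit 7) (.leaf (nat_lit 0xb8e16a3cc9694935c8ea88582722a0)) (.node (nat_lit 8) (.leaf (nat_lit 0xb9256128ed825d3794750b29132d00)) (.leaf (nat_lit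 0xbc272ab1af1214931e812d9c359220)))) (.node (nat_lit 10) (.leaf (nat_lit 0xb99a4b4183752227a8253a26b4d640)) (.node (nat_lit 11) (.leaf (nat_lit 0xbca3549cb362c4e305e4a350a80ec0)) (.leaf (nat_lit 0xb94ef931d5822c608d491517369220)))))) (.node (nat_lit 17) (.node (nat_lit 14) (.node (nat_lit 13) (.leaf (nat_lit 0xbb86ba1255128e164266b350f2a620)) (.leaf (nat_lit 0xb99d13bc8d2d0359c92b80ac362900))) (.node (nat_lit 15) (.leaf (nat_lit 0xbbd9541a0b9864e1c4a7551a915880)) (.node (nat_lit 16) (.leaf (nat_lit 0xbc04a29a530a28474563626af69ec0)) (.leaf (nat_lit 0xb8de654a016a6872d98e4562414d60))))) (.node (nat_lit 20) (.node (nat_lit 18) (.leaf (nat_lit 0xbc5445942e68d22850d244ec763ea0)) (.node (nat_lit 19) (.leaf (nat_lit 0xbaa0f585a8a8ca621dcc98a92b4520)) (.leaf (nat_lit 0xbacc808de261ead491519160e9d2c0)))) (.node (nat_lit 21) (.leaf (nat_lit 0xbcc61434e9b12aa594d073e2c15240)) (.node (nat_lit 22)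 (.leaf (nat_lit 0xbac2aab9a89c60438a467b125a5860)) (.leaf (nat_lit 0xb84a68b44465ab0a3ceb4a06e9c940)))))))⟩
def m24CertC2 : LevCert := ⟨m24CertL2,
    [(nat_lit 5, nat_lit 0), (nat_lit 19, nat_lit 1), (nat_lit 7, nat_lit 0), (nat_lit 6, nat_lit 1), (nat_lit 13, nat_lit 0), (nat_lit 3, nat_lit 1), (nat_lit 10, nat_lit 0), (nat_lit 14, nat_lit 1), (nat_lit 15, nat_lit 0), (nat_lit 21, nat_lit 1), (nat_lit 12, nat_lit 0), (nat_lit 11, nat_lit 0), (nat_lit 18, nat_lit 1), (nat_lit 17, nat_lit 0), (nat_lit 9, nat_lit 1), (nat_lit 4, nat_lit 1), (nat_lit 22, nat_lit 0), (nat_lit 16, nat_lit 0), (nat_lit 8, nat_lit 1), (nat_lit 2, nat_lit 0), (nat_lit 20, nat_lit 0)],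
    [[nat_lit 0, nat_lit 2, nat_lit 2, nat_lit 0, nat_lit 2], [nat_lit 4, nat_lit 4, nat_lit 2, nat_lit 4, nat_lit 2, nat_lit 2, nat_lit 2]],
    [nat_lit 0xbd10b54d92824b53b9e268c9689820, nat_lit 0xbb6141b2b1b29e2594c849dd324820]⟩
def m24CertL3 : Lev := ⟨nat_lit 2, nat_lit 0x7ffffc, (.node (nat_lit 12) (.node (nat_lit 7) (.node (nat_lit 4) (.node (nat_lit 3) (.leaf (nat_lit 0xbdab49ca307b9ac5a928398a418820)) (.leaf (nat_lit 0xbae495160365a6879a27755b411020))) (.node (nat_lit 5) (.leaf (nat_lit 0xbb209a10729b5657d9c7ac4c252020)) (.node (nat_lit 6) (.leaf (nat_lit 0xba4efb50a4938d0ab6685a84c1c420)) (.leaf (nat_lit 0xba4ef329051c5b27598498a8b85420))))) (.node (nat_lit 9) (.node (nat_lit 8) (.leaf (nat_lit 0xb8d0f5d4a76d12a74664132d034820)) (.leaf (nat_lit 0xbd10b54d92824b53b9e268c9689820))) (.node (nat_lit 10) (.leaf (nat_lit 0xbb4af848e84d8757504464e265a820)) (.node (nat_lit 11) (.leaf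 (nat_lit 0xbb94cb50b0924c41891389dafaac20)) (.leaf (nat_lit 0xbbc8e8ad553cec8151b249a032b020)))))) (.node (nat_lit 17) (.node (nat_lit 14) (.node (nat_lit 13) (.leaf (nat_lit 0xbb6141b2b1b29e2594c849dd324820)) (.leaf (nat_lit 0xb9a09432475a84fb15a3a449375420))) (.node (nat_lit 15) (.leaf (nat_lit 0xbbc8ea42b240a256592a1accd3cc20)) (.node (nat_lit 16) (.leaf (nat_lit 0xbae499d4f0110ccb2a838b4ae43c20)) (.leaf (nat_lit 0xbb98bac102a2a274cc92b3cc568c20))))) (.node (nat_lit 20) (.node (nat_lit 18) (.leaf (nat_lit 0xbd10b28c4c899d04aad27926da9c20)) (.node (nat_lit 19) (.leaf (nat_lit 0xbbe3420a15696d25b8e8325439b020)) (.leaf (nat_lit 0xbcc6912250599847b6a78bacaa1420)))) (.node (nat_lit 21) (.leaf (nat_lit 0xbba42a450bab6044ccecb146f51820)) (.node (nat_lit 22) (.leaf (nat_lit 0xbac4772ab393c886a6062c6d460c20)) (.leaf (nat_lit 0xb88e973e1231575b12236d1489b020)))))))⟩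
def m24CertC3 : LevCert := ⟨m24CertL3,
    [(nat_lit 8, nat_lit 0), (nat_lit 12, nat_lit 1), (nat_lit 21, nat_lit 0), (nat_lit 17, nat_lit 0), (nat_lit 18, nat_lit 1), (nat_lit 3, nat_lit 0), (nat_lit 16, nat_lit 1), (nat_lit 6, nat_lit 0), (nat_lit 19, nat_lit 1), (nat_lit 15, nat_lit 0), (nat_lit 9, nat_lit 1), (nat_lit 4, nat_lit 1), (nat_lit 13, nat_lit 1), (nat_lit 14, nat_lit 0), (nat_lit 7, nat_lit 1), (nat_lit 5, nat_lit 0), (nat_lit 22, nat_lit 1), (nat_lit 10, nat_lit 0), (nat_lit 11, nat_lit 0), (nat_lit 20, nat_lit 0)],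
    [[nat_lit 2, nat_lit 0, nat_lit 0, nat_lit 0, nat_lit 2, nat_lit 2, nat_lit 0, nat_lit 0, nat_lit 0, nat_lit 0, nat_lit 0, nat_lit 0, nat_lit 0, nat_lit 2, nat_lit 0], [nat_lit 4, nat_lit 2, nat_lit 2, nat_lit 2, nat_lit 4, nat_lit 4, nat_lit 4, nat_lit 2, nat_lit 4, nat_lit 2, nat_lit 2, nat_lit 4, nat_lit 2, nat_lit 4]],
    [nat_lit 0xbbc8eb1a4a2b2879c4756c16940820, nat_lit 0xbbea5321a91c14c945cb99c94b0820]⟩
def m24CertL4 : Lev := ⟨nat_lit 3, nat_lit 0x7ffff8, (.node (nat_lit 13) (.node (nat_lit 8) (.node (nat_lit 5) (.node (nat_lit 4) (.leaf (nat_lit 0xbdab49ca307b9ac5a928398a418820)) (.leaf (nat_lit 0xb952c7c0d159dcdb4904a2a63a8820))) (.node (nat_lit 6) (.leaf (nat_lit 0xbad33511c8ac64d818f67d06c28820)) (.node (nat_lit 7) (.leaf (nat_lit 0xba1ca2b6b249d76851e488ccc98820)) (.leaf (nat_lit 0xbc9c68d20bab50a49e6f196cc20820))))) (.node (nat_lit 10) (.node (nat_lit 9) (.leaf (nat_lit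 0xbcd0d5c546b50ee2c083649f548820)) (.leaf (nat_lit 0xbbc8eb1a4a2b2879c4756c16940820))) (.node (nat_lit 11) (.leaf (nat_lit 0xbc2713524d2aeca48dcf3d50460820)) (.node (nat_lit 12) (.leaf (nat_lit 0xbcad3245283298519eae835eba0820)) (.leaf (nat_lit 0xbd58d91687b28c38c08e42d3378820)))))) (.node (nat_lit 18) (.node (nat_lit 15) (.node (nat_lit 14) (.leaf (nat_lit 0xb9668abece6346aa496931c9180820)) (.leaf (nat_lit 0xba0896ce2c78e47ad146859cb28820))) (.node (nat_lit 16) (.leaf (nat_lit 0xbbea5321a91c14c945cb99c94b0820)) (.node (nat_lit 17) (.leaf (nat_lit 0xb948b8568342a2734993b352e78820)) (.leaf (nat_lit 0xb99f64c875844eb4348c550b370820))))) (.node (nat_lit 20) (.node (nat_lit 19) (.leaf (nat_lit 0xba58740db4359512d66e5ca0f20820)) (.leaf (nat_lit 0xb91cc1a4ed94e0a7a1742c4d6a8820))) (.node (nat_lit 21) (.leaf (nat_lit 0xbd523a5a472a0cd23a3053d9358820)) (.node (nat_lit 22) (.leaf (nat_lit 0xbac672aa129b59479aa9746c820820))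 (.leaf (nat_lit 0xb8e9079d11230b3336d55264e58820)))))))⟩
def m24CertC4 : LevCert := ⟨m24CertL4,
    [(nat_lit 9, nat_lit 0), (nat_lit 15, nat_lit 1), (nat_lit 4, nat_lit 0), (nat_lit 16, nat_lit 1), (nat_lit 22, nat_lit 0), (nat_lit 21, nat_lit 0), (nat_lit 5, nat_lit 1), (nat_lit 6, nat_lit 0), (nat_lit 14, nat_lit 1), (nat_lit 19, nat_lit 0), (nat_lit 8, nat_lit 0), (nat_lit 20, nat_lit 1), (nat_lit 18, nat_lit 0), (nat_lit 11, nat_lit 0), (nat_lit 7, nat_lit 1), (nat_lit 13, nat_lit 0), (nat_lit 17, nat_lit 0), (nat_lit 12, nat_lit 0), (nat_lit 10, nat_lit 0)],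
    [[nat_lit 2, nat_lit 2, nat_lit 0, nat_lit 2, nat_lit 0, nat_lit 2, nat_lit 2, nat_lit 0, nat_lit 0, nat_lit 2, nat_lit 0, nat_lit 0, nat_lit 0], [nat_lit 4, nat_lit 2, nat_lit 2, nat_lit 2, nat_lit 4, nat_lit 4, nat_lit 4, nat_lit 4, nat_lit 2], [nat_lit 6, nat_lit 4, nat_lit 6]],
    [nat_lit 0xb99b28523343aaa4b16f258a718820, nat_lit 0xbd268341c9595e46b2563d62a18820, nat_lit 0xb92924d4b65c5b33a1867a9d018820]⟩
def m24CertL5 : Lev := ⟨nat_lit 5, nat_lit 0x24020, (.node (nat_lit 14) (.leaf (nat_lit 0xbdab49ca307b9ac5a928398a418820)) (.node (nat_lit 17) (.leaf (nat_lit 0xbd268341c9595e46b2563d62a18820)) (.leaf (nat_lit 0xb92924d4b65c5b33a1867a9d018820))))⟩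
def m24CertC5 : LevCert := ⟨m24CertL5,
    [(nat_lit 14, nat_lit 1), (nat_lit 17, nat_lit 2)],
    [[nat_lit 4, nat_lit 4, nat_lit 0, nat_lit 2, nat_lit 4, nat_lit 4, nat_lit 2, nat_lit 4, nat_lit 0, nat_lit 4, nat_lit 4, nat_lit 4, nat_lit 0], [nat_lit 6, nat_lit 6, nat_lit 4, nat_lit 6, nat_lit 2, nat_lit 6, nat_lit 2, nat_lit 2, nat_lit 2, nat_lit 4, nat_lit 4, nat_lit 6, nat_lit 4, nat_lit 4, nat_lit 2, nat_lit 4, nat_lit 4, nat_lit 4, nat_lit 4, nat_lit 6, nat_lit 2, nat_lit 2], [nat_lit 4, nat_lit 6, nat_lit 6, nat_lit 4, nat_lit 4, nat_lit 6, nat_lit 4, nat_lit 6, nat_lit 8, nat_lit 6, nat_lit 4, nat_lit 4, nat_lit 6, nat_lit 4, nat_lit 8, nat_lit 4, nat_lit 8], [nat_lit 10, nat_lit 10, nat_lit 8, nat_lit 8]],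
    [nat_lit 0xbb4c93ae2453ac893e8c9d4b018820, nat_lit 0xb9e086be3593a6952d94b10a618820, nat_lit 0xbc0ea332364b892451ebaccad18820, nat_lit 0xba91094e346b9e63d8955b0a918820]⟩
def m24CertL6 : Lev := ⟨nat_lit 4, nat_lit 0x7dbfd0, (.node (nat_lit 13) (.node (nat_lit 9) (.node (nat_lit 7) (.node (nat_lit 6) (.leaf (nat_lit 0xbdab49ca307b9ac5a928398a418820)) (.leaf (nat_lit 0xb9e086be3593a6952d94b10a618820))) (.node (nat_lit 8) (.leaf (nat_lit 0xb99b28523343aaa4b16f258a718820)) (.leaf (nat_lit 0xbc92655a2c3b9706cea47d0a818820)))) (.node (nat_lit 11) (.node (nat_lit 10) (.leaf (nat_lit 0xba91094e346b9e63d8955b0a918820)) (.leaf (nat_lit 0xba64d4562f83a87312d362caa18820))) (.node (nat_lit 12) (.leaf (nat_lit 0xbb1f3a4232ab916218ed4a8ab18820)) (.leaf (nat_lit 0xbae957b6289ba44b1cd0524ac18820))))) (.node (nat_lit 19) (.node (nat_lit 16) (.node (nat_lit 15) (.leaf (nat_lit 0xbc0ea332364b892451ebaccad18820))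 (.leaf (nat_lit 0xbd17661a2a23933ac1a7448af18820))) (.node (nat_lit 18) (.leaf (nat_lit 0xbb4c93ae2453ac893e8c9d4b018820)) (.leaf (nat_lit 0xba1474922b3398d85676a3cb218820)))) (.node (nat_lit 21) (.node (nat_lit 20) (.leaf (nat_lit 0xbd6cb22627638cfa224a834b318820)) (.leaf (nat_lit 0xbbd8459e29b39559b606920b418820))) (.node (nat_lit 22) (.leaf (nat_lit 0xbcc8cb2a265b8f47c9096c0b518820)) (.leaf (nat_lit 0xb926faa22da3a0b6255231cb618820))))))⟩
def m24CertC6 : LevCert := ⟨m24CertL6,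
    [(nat_lit 16, nat_lit 0), (nat_lit 6, nat_lit 1), (nat_lit 13, nat_lit 2), (nat_lit 9, nat_lit 3), (nat_lit 21, nat_lit 1), (nat_lit 22, nat_lit 2), (nat_lit 20, nat_lit 3), (nat_lit 19, nat_lit 2), (nat_lit 12, nat_lit 3), (nat_lit 15, nat_lit 3), (nat_lit 7, nat_lit 2), (nat_lit 8, nat_lit 3), (nat_lit 10, nat_lit 3), (nat_lit 18, nat_lit 3), (nat_lit 11, nat_lit 3)],
    [],
    []⟩
def m24Cert : List LevCert := [m24CertC0, m24CertC1, m24CertC2, m24CertC3, m24CertC4, m24CertC5, m24CertC6]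
def m24CertL : List Lev := [m24CertL0, m24CertL1, m24CertL2, m24CertL3, m24CertL4, m24CertL5, m24CertL6]

theorem m24Cert_ok : preOK (nat_lit 5) (nat_lit 32) (nat_lit 24) m24Cert m24Gens = true := by
  decide +kernel

end Cfsg.Agent.H14
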