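/-
SL(3,2) on 7 points (generated with tools_h56/model.py).
-/
import Cfsg.Agent.H56.ClassModel
import Cfsg.Agent.H56.Fields
import Cfsg.Agent.H56.IsoK
import Cfsg.Agent.H14.Local

set_option autoImplicit false

namespace Cfsg.Agent.H14.L32

open H56

def VT : ℕ := nat_lit 0x1ec791
def R : BT := (.node (nat_lit 4) (.node (nat_lit 2) (.leaf (nat_lit 0)) (.node (nat_lit 3) (.leaf (nat_lit 1)) (.leaf (nat_lit 3)))) (.node (nat_lit 6) (.node (nat_lit 5) (.leaf (nat_lit 4)) (.leaf (nat_lit 5))) (.node (nat_lit 7) (.leaf (nat_lit 2)) (.leaf (nat_lit 6)))))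
def gs : List (ℕ × ℕ) := [(nat_lit 318, nat_lit 0xae119), (nat_lit 382, nat_lit 0x46b1a)]
def gens : List ℕ := [nat_lit 0xae119, nat_lit 0x46b1a]
def certL0 : Lev := ⟨nat_lit 0, nat_lit 127, (.node (nat_lit 3) (.node (nat_lit 1) (.leaf (nat_lit 0x1ac688)) (.node (nat_lit 2) (.leaf (nat_lit 0x12a383)) (.leaf (nat_lit 0x11a235)))) (.node (nat_lit 5) (.node (nat_lit 4) (.leaf (nat_lit 0xae119)) (.leaf (nat_lit 0x98d29))) (.node (nat_lit 6) (.leaf (nat_lit 0x46b1a)) (.leaf (nat_lit 0x1ca8e)))))⟩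
def certC0 : LevCert := ⟨certL0,
    [(nat_lit 3, nat_lit 0), (nat_lit 5, nat_lit 1), (nat_lit 1, nat_lit 0), (nat_lit 6, nat_lit 1), (nat_lit 4, nat_lit 0), (nat_lit 2, nat_lit 0)],
    [[nat_lit 0, nat_lit 0, nat_lit 2, nat_lit 0, nat_lit 0, nat_lit 2, nat_lit 0, nat_lit 2, nat_lit 2, nat_lit 0, nat_lit 2, nat_lit 2], [nat_lit 2, nat_lit 2, nat_lit 4, nat_lit 2, nat_lit 2, nat_lit 4, nat_lit 4, nat_lit 4, nat_lit 4, nat_lit 2]],
    [nat_lit 0x199aa0, nat_lit 0x65cd0]⟩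
def certL1 : Lev := ⟨nat_lit 1, nat_lit 126, (.node (nat_lit 4) (.node (nat_lit 2) (.leaf (nat_lit 0x1ac688)) (.node (nat_lit 3) (.leaf (nat_lit 0xe5470)) (.leaf (nat_lit 0xac398)))) (.node (nat_lit 5) (.leaf (nat_lit 0x199aa0)) (.node (nat_lit 6) (.leaf (nat_lit 0x10bd50)) (.leaf (nat_lit 0x65cd0)))))⟩
def certC1 : LevCert := ⟨certL1,
    [(nat_lit 4, nat_lit 0), (nat_lit 6, nat_lit 1), (nat_lit 5, nat_lit 1), (nat_lit 3, nat_lit 1), (nat_lit 2, nat_lit 1)],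
    [[nat_lit 0, nat_lit 2, nat_lit 0, nat_lit 2, nat_lit 2], [nat_lit 2, nat_lit 4, nat_lit 2, nat_lit 2, nat_lit 4, nat_lit 2, nat_lit 2, nat_lit 2, nat_lit 2, nat_lit 2]],
    [nat_lit 0x172708, nat_lit 0xa5788]⟩
def certL2 : Lev := ⟨nat_lit 2, nat_lit 116, (.node (nat_lit 5) (.node (nat_lit 4) (.leaf (nat_lit 0x1ac688)) (.leaf (nat_lit 0x172708))) (.node (nat_lit 6) (.leaf (nat_lit 0x116748)) (.leaf (nat_lit 0xa5788))))⟩
def certC2 : LevCert := ⟨certL2,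
    [(nat_lit 4, nat_lit 0), (nat_lit 6, nat_lit 1), (nat_lit 5, nat_lit 1)],
    [],
    []⟩
def cert : List LevCert := [certC0, certC1, certC2]
def certL : List Lev := [certL0, certL1, certL2]
/-- the numbering of the points -/
abbrev E : Enc (Fin 7) 7 3 8 := finEnc 7 3 8 rfl (by decide)
theorem ok : modelOK F2 3 7 3 8 VT R false gs cert 168 = true := by
  decide +kernel

/-- the permutation group -/
abbrev K : Subgroup (Equiv.Perm (Fin 7)) := E.grp gens

theorem model {F : Type*} [Field F] [Fintype F] (hF : Fintype.card F = 2) (ι : TF F2 →+* F) :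
    ∃ φ, IsModel E (slToMat 3 F) (ptv ι (Equiv.refl _) E VT) false ⊥ gens certL φ :=
  model_SL ι E hF (m := 20) (by decide) ok (by decide +kernel) (by decide +kernel)

theorem equiv {F : Type*} [Field F] [Fintype F] (hF : Fintype.card F = 2) :
    Nonempty (Matrix.SpecialLinearGroup (Fin 3) F ≃* K) :=
  let ⟨ι, _⟩ := exists_hom F2 hF; let ⟨_, h⟩ := model hF ι; h.equiv

theorem chain : E.IsChain certL K := let ⟨_, h⟩ := model (TF.card F2) (RingHom.id _); h.chain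

theorem card : Nat.card K = 168 := chain.card.trans (modelOK_card ok)

end Cfsg.Agent.H14.L32
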