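/-
The conjugacy classes of the Mathieu groups (generated by tools_h14/searchcert.py).
-/
import Cfsg.Agent.H14.Classes
import Cfsg.Agent.H14.Mathieu

set_option autoImplicit false

namespace Cfsg.Agent.H14

theorem fixes_M23 : GE.Fixes Spor.M23 (nat_lit 8388608) := (GE.fixes_zero M24).stab (b := 23)
theorem fixes_M22 : GE.Fixes Spor.M22 (nat_lit 8388609) := fixes_M23.stab (b := 0)
theorem fixes_M21 : GE.Fixes M21 (nat_lit 8388611) := fixes_M22.stab (b := 1)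
theorem fixes_M11 : GE.Fixes Spor.M11 (nat_lit 1) := (GE.fixes_zero Spor.M12).stab (b := 0)

/-- cycle type 1^24 -/
def m11_1A : Cls := ⟨nat_lit 0xbdab49ca307b9ac5a928398a418820, 7920, [nat_lit 0x5335e, nat_lit 0x5335c, nat_lit 0x53358, nat_lit 0x53350]⟩
/-- cycle type 1^8 2^8 -/
def m11_2A : Cls := ⟨nat_lit 0x7cdd4b1a30bd50c2a92d3c96320440, 48, [nat_lit 0x4215e, nat_lit 4, nat_lit 0x42158, nat_lit 16]⟩
/-- cycle type 1^6 3^6 -/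
def m11_3A : Cls := ⟨nat_lit 0x8cecbaa4ada38cc7a9123c2e408c40, 18, [nat_lit 0x5234e, nat_lit 4, nat_lit 8, nat_lit 0x1010]⟩
/-- cycle type 1^4 2^2 4^4 -/
def m11_4A : Cls := ⟨nat_lit 0x7cdcbac8a8bda0c89da951a8120c40, 8, [nat_lit 0x1231e, nat_lit 4, nat_lit 8, nat_lit 16]⟩
/-- cycle type 1^4 5^4 -/
def m11_5A : Cls := ⟨nat_lit 0xbaaa57c16d750d23c449b326820c20, 5, [nat_lit 2, nat_lit 796, nat_lit 8, nat_lit 16]⟩
/-- cycle type 1^2 2^2 3^2 6^2 -/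
def m11_6A : Cls := ⟨nat_lit 0xb2e71536813bcc87560cbc8a920c40, 6, [nat_lit 0x1021e, nat_lit 4, nat_lit 8, nat_lit 16]⟩
/-- cycle type 1^2 2^1 4^1 8^2 -/
def m11_8A : Cls := ⟨nat_lit 0x2aaf5721f05d1263cd92886cd20c40, 8, [nat_lit 0x325e, nat_lit 4, nat_lit 8, nat_lit 16]⟩
/-- cycle type 1^2 2^1 4^1 8^2 -/
def m11_8B : Cls := ⟨nat_lit 0xa55478b2cd99430bb9265a1f220c40, 8, [nat_lit 0x5301e, nat_lit 4, nat_lit 8, nat_lit 16]⟩
/-- cycle type 1^2 11^2 -/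
def m11_11A : Cls := ⟨nat_lit 0x29eb75a5f27510d544309b2c620c40, 11, [nat_lit 0x5335e, nat_lit 4, nat_lit 8, nat_lit 16]⟩
/-- cycle type 1^2 11^2 -/
def m11_11B : Cls := ⟨nat_lit 0xa5cea986c689592aad0d725f020c40, 11, [nat_lit 0x5335e, nat_lit 4, nat_lit 8, nat_lit 16]⟩
def m11Cl : List Cls := [m11_1A, m11_2A, m11_3A, m11_4A, m11_5A, m11_6A, m11_8A, m11_8B, m11_11A, m11_11B]

theorem m11Cl_ok : allL m11Cl (clsOK (nat_lit 5) (nat_lit 32) (nat_lit 24) m12CertL.tail (nat_lit 1)) = true := by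
  decide +kernel
theorem m11Cl_pairs : pairsOK (nat_lit 5) (nat_lit 32) (nat_lit 24) m12CertL.tail (nat_lit 1) m11Cl = true := by
  decide +kernel
/-- the conjugacy classes of `Spor.M11` -/
theorem m11_classes : GE.ClassList Spor.M11 m11Cl :=
  m11_chain.classList fixes_M11 (allL_iff.1 m11Cl_ok) m11Cl_pairs card_M11 (by decide +kernel)

/-- cycle type 1^24 -/
def m12_1A : Cls := ⟨nat_lit 0xbdab49ca307b9ac5a928398a418820, 95040, [nat_lit 0x5335f, nat_lit 0x5335e, nat_lit 0x5335c, nat_lit 0x53358, nat_lit 0x53350]⟩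
/-- cycle type 2^12 -/
def m12_2A : Cls := ⟨nat_lit 0x2d176519cc3c530acda47cae810c01, 240, [nat_lit 0x5335f, nat_lit 2, nat_lit 0x10344, nat_lit 8, nat_lit 0x43010]⟩
/-- cycle type 1^8 2^8 -/
def m12_2B : Cls := ⟨nat_lit 0x8aeb49caf0795a4b1cc8525cc10c01, 192, [nat_lit 0x125f, nat_lit 2, nat_lit 0x125c, nat_lit 8, nat_lit 0x1250]⟩
/-- cycle type 1^6 3^6 -/
def m12_3A : Cls := ⟨nat_lit 0xaba65bca30b3d23a290d3996c20041, 54, [nat_lit 0x331f, nat_lit 2, nat_lit 4, nat_lit 0x3318, nat_lit 16]⟩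
/-- cycle type 3^8 -/
def m12_3B : Cls := ⟨nat_lit 0x7ce8e519633d50d2da4cba63020041, 36, [nat_lit 0x5335f, nat_lit 2, nat_lit 4, nat_lit 0x42008, nat_lit 16]⟩
/-- cycle type 1^4 2^2 4^4 -/
def m12_4A : Cls := ⟨nat_lit 0x7cdcbac8a8bda0c89da951a8120c40, 32, [nat_lit 0x41041, nat_lit 0x1231e, nat_lit 4, nat_lit 8, nat_lit 16]⟩
/-- cycle type 1^4 2^2 4^4 -/
def m12_4B : Cls := ⟨nat_lit 0x5c6a571aed7d202b2a493a26c20c01, 32, [nat_lit 0x12003, nat_lit 2, nat_lit 0x4135c, nat_lit 8, nat_lit 16]⟩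
/-- cycle type 1^4 5^4 -/
def m12_5A : Cls := ⟨nat_lit 0xad0ab7a1d2bd9ac8aa063a66020c41, 10, [nat_lit 0x5035f, nat_lit 2, nat_lit 4, nat_lit 8, nat_lit 16]⟩
/-- cycle type 6^4 -/
def m12_6A : Cls := ⟨nat_lit 0x729f759aa82ce503c40da32c920c41, 12, [nat_lit 0x5335f, nat_lit 2, nat_lit 4, nat_lit 8, nat_lit 16]⟩
/-- cycle type 1^2 2^2 3^2 6^2 -/
def m12_6B : Cls := ⟨nat_lit 0xac565bb5c67d900a1d325426c20c41, 6, [nat_lit 0x101f, nat_lit 2, nat_lit 4, nat_lit 8, nat_lit 16]⟩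
/-- cycle type 1^2 2^1 4^1 8^2 -/
def m12_8A : Cls := ⟨nat_lit 0x71eef2caad5ccc955188882d020c41, 8, [nat_lit 0x1205f, nat_lit 2, nat_lit 4, nat_lit 8, nat_lit 16]⟩
/-- cycle type 1^2 2^1 4^1 8^2 -/
def m12_8B : Cls := ⟨nat_lit 0xb16345266c3d6065dd007b5d220c41, 8, [nat_lit 0x4031f, nat_lit 2, nat_lit 4, nat_lit 8, nat_lit 16]⟩
/-- cycle type 2^2 10^2 -/
def m12_10A : Cls := ⟨nat_lit 0xb2e913c260555322bdacba1c620c41, 10, [nat_lit 0x5115f, nat_lit 2, nat_lit 4, nat_lit 8, nat_lit 16]⟩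
/-- cycle type 1^2 11^2 -/
def m12_11A : Cls := ⟨nat_lit 0x9bcea8b2d0a380db94c95caa820c41, 11, [nat_lit 0x4335f, nat_lit 2, nat_lit 4, nat_lit 8, nat_lit 16]⟩
/-- cycle type 1^2 11^2 -/
def m12_11B : Cls := ⟨nat_lit 0x9dd47a02c98b9887ae5029aad20c41, 11, [nat_lit 0x5331f, nat_lit 2, nat_lit 4, nat_lit 8, nat_lit 16]⟩
def m12Cl : List Cls := [m12_1A, m12_2A, m12_2B, m12_3A, m12_3B, m12_4A, m12_4B, m12_5A, m12_6A, m12_6B, m12_8A, m12_8B, m12_10A, m12_11A, m12_11B]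

theorem m12Cl_ok : allL m12Cl (clsOK (nat_lit 5) (nat_lit 32) (nat_lit 24) m12CertL (nat_lit 0)) = true := by
  decide +kernel
theorem m12Cl_pairs : pairsOK (nat_lit 5) (nat_lit 32) (nat_lit 24) m12CertL (nat_lit 0) m12Cl = true := by
  decide +kernel
/-- the conjugacy classes of `Spor.M12` -/
theorem m12_classes : GE.ClassList Spor.M12 m12Cl :=
  m12_chain.classList (GE.fixes_zero _) (allL_iff.1 m12Cl_ok) m12Cl_pairs card_M12 (by decide +kernel)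

/-- cycle type 1^24 -/
def m21_1A : Cls := ⟨nat_lit 0xbdab49ca307b9ac5a928398a418820, 20160, [nat_lit 0x7ffffc, nat_lit 0x7ffff8, nat_lit 0x24020, nat_lit 0x7dbfd0]⟩
/-- cycle type 1^8 2^8 -/
def m21_2A : Cls := ⟨nat_lit 0xbd136819d37c56a6b2a83c8a410c20, 64, [nat_lit 0x7f7e4c, nat_lit 8, nat_lit 32, nat_lit 0x8190]⟩
/-- cycle type 1^6 3^6 -/
def m21_3A : Cls := ⟨nat_lit 0xbc12ba18ad946c79b11553dc418820, 9, [nat_lit 28, nat_lit 8, nat_lit 0x24020, nat_lit 16]⟩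
/-- cycle type 1^4 2^2 4^4 -/
def m21_4A : Cls := ⟨nat_lit 0xbc6c9a9a6e3d04a6ca087b08558c20, 16, [nat_lit 0x7f7e4c, nat_lit 8, nat_lit 32, nat_lit 16]⟩
/-- cycle type 1^4 2^2 4^4 -/
def m21_4B : Cls := ⟨nat_lit 0xbb92a8568242e36634cf3c88598c20, 16, [nat_lit 0x7f7e4c, nat_lit 8, nat_lit 32, nat_lit 16]⟩
/-- cycle type 1^4 2^2 4^4 -/
def m21_4C : Cls := ⟨nat_lit 0xb8956341717cdc9932a743485a0c20, 16, [nat_lit 0x7f7e4c, nat_lit 8, nat_lit 32, nat_lit 16]⟩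
/-- cycle type 1^4 5^4 -/
def m21_5A : Cls := ⟨nat_lit 0xbada7459d448a757c24c32a2428c20, 5, [nat_lit 0x2402c, nat_lit 8, nat_lit 32, nat_lit 16]⟩
/-- cycle type 1^4 5^4 -/
def m21_5B : Cls := ⟨nat_lit 0xbacd2530b48466faa4f66a04470c20, 5, [nat_lit 0x2402c, nat_lit 8, nat_lit 32, nat_lit 16]⟩
/-- cycle type 1^3 7^3 -/
def m21_7A : Cls := ⟨nat_lit 0xbb9f262a71850a6424edb548258c20, 7, [nat_lit 0x293c, nat_lit 8, nat_lit 32, nat_lit 16]⟩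
/-- cycle type 1^3 7^3 -/
def m21_7B : Cls := ⟨nat_lit 0xbba483d96255235799ac8266520c20, 7, [nat_lit 0x900bc, nat_lit 8, nat_lit 32, nat_lit 16]⟩
def m21Cl : List Cls := [m21_1A, m21_2A, m21_3A, m21_4A, m21_4B, m21_4C, m21_5A, m21_5B, m21_7A, m21_7B]

theorem m21Cl_ok : allL m21Cl (clsOK (nat_lit 5) (nat_lit 32) (nat_lit 24) m24CertL.tail.tail.tail (nat_lit 8388611)) = true := by
  decide +kernel
theorem m21Cl_pairs : pairsOK (nat_lit 5) (nat_lit 32) (nat_lit 24) m24CertL.tail.tail.tail (nat_lit 8388611) m21Cl = true := by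
  decide +kernel
/-- the conjugacy classes of `M21` -/
theorem m21_classes : GE.ClassList M21 m21Cl :=
  m21_chain.classList fixes_M21 (allL_iff.1 m21Cl_ok) m21Cl_pairs card_M21 (by decide +kernel)

/-- cycle type 1^24 -/
def m22_1A : Cls := ⟨nat_lit 0xbdab49ca307b9ac5a928398a418820, 443520, [nat_lit 0x7ffffe, nat_lit 0x7ffffc, nat_lit 0x7ffff8, nat_lit 0x24020, nat_lit 0x7dbfd0]⟩
/-- cycle type 1^8 2^8 -/
def m22_2A : Cls := ⟨nat_lit 0xbd136819d37c56a6b2a83c8a410c20, 384, [nat_lit 0x81b2, nat_lit 0x7f7e4c, nat_lit 8, nat_lit 32, nat_lit 0x8190]⟩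
/-- cycle type 1^6 3^6 -/
def m22_3A : Cls := ⟨nat_lit 0xbd670b3e29339076b28b548a408c40, 36, [nat_lit 0x792b0e, nat_lit 4, nat_lit 8, nat_lit 0x24020, nat_lit 16]⟩
/-- cycle type 1^4 2^2 4^4 -/
def m22_4A : Cls := ⟨nat_lit 0xbbe0a325c7945b524ec86502b28c40, 32, [nat_lit 0x7d96ee, nat_lit 4, nat_lit 8, nat_lit 32, nat_lit 0x810]⟩
/-- cycle type 1^4 2^2 4^4 -/
def m22_4B : Cls := ⟨nat_lit 0xbae0562aaf8a1b3b3832a188748c40, 16, [nat_lit 0x37c7be, nat_lit 4, nat_lit 8, nat_lit 32, nat_lit 16]⟩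
/-- cycle type 1^4 5^4 -/
def m22_5A : Cls := ⟨nat_lit 0xba1aa5c2359853435a4c79dc428c40, 5, [nat_lit 0x402e, nat_lit 4, nat_lit 8, nat_lit 32, nat_lit 16]⟩
/-- cycle type 1^2 2^2 3^2 6^2 -/
def m22_6A : Cls := ⟨nat_lit 0xbba13a3d31554276cacb3308540c40, 12, [nat_lit 0x636b0e, nat_lit 4, nat_lit 8, nat_lit 32, nat_lit 16]⟩
/-- cycle type 1^3 7^3 -/
def m22_7A : Cls := ⟨nat_lit 0xbc6463b2856adcfaa1568248298c20, 7, [nat_lit 2, nat_lit 0x900bc, nat_lit 8, nat_lit 32, nat_lit 16]⟩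
/-- cycle type 1^3 7^3 -/
def m22_7B : Cls := ⟨nat_lit 0xbc4d261d2eb54af5cd4d8508140c40, 7, [nat_lit 0x213e, nat_lit 4, nat_lit 8, nat_lit 32, nat_lit 16]⟩
/-- cycle type 1^2 2^1 4^1 8^2 -/
def m22_8A : Cls := ⟨nat_lit 0xba88fad1d35c6c681dac4243228c40, 8, [nat_lit 46, nat_lit 4, nat_lit 8, nat_lit 32, nat_lit 0x810]⟩
/-- cycle type 1^2 11^2 -/
def m22_11A : Cls := ⟨nat_lit 0xb95e63a911825d29d1966ac81a8c40, 11, [nat_lit 0x63813e, nat_lit 4, nat_lit 8, nat_lit 32, nat_lit 16]⟩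
/-- cycle type 1^2 11^2 -/
def m22_11B : Cls := ⟨nat_lit 0xbba4f532a56a226a2cf0b4c8148c40, 11, [nat_lit 0x4143be, nat_lit 4, nat_lit 8, nat_lit 32, nat_lit 16]⟩
def m22Cl : List Cls := [m22_1A, m22_2A, m22_3A, m22_4A, m22_4B, m22_5A, m22_6A, m22_7A, m22_7B, m22_8A, m22_11A, m22_11B]

theorem m22Cl_ok : allL m22Cl (clsOK (nat_lit 5) (nat_lit 32) (nat_lit 24) m24CertL.tail.tail (nat_lit 8388609)) = true := by
  decide +kernel
theorem m22Cl_pairs : pairsOK (nat_lit 5) (nat_lit 32) (nat_lit 24) m24CertL.tail.tail (nat_lit 8388609) m22Cl = true := by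
  decide +kernel
/-- the conjugacy classes of `Spor.M22` -/
theorem m22_classes : GE.ClassList Spor.M22 m22Cl :=
  m22_chain.classList fixes_M22 (allL_iff.1 m22Cl_ok) m22Cl_pairs card_M22 (by decide +kernel)

/-- cycle type 1^24 -/
def m23_1A : Cls := ⟨nat_lit 0xbdab49ca307b9ac5a928398a418820, 10200960, [nat_lit 0x7fffff, nat_lit 0x7ffffe, nat_lit 0x7ffffc, nat_lit 0x7ffff8, nat_lit 0x24020, nat_lit 0x7dbfd0]⟩
/-- cycle type 1^8 2^8 -/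
def m23_2A : Cls := ⟨nat_lit 0xbae4d8563343a8cb28cf3a4a410c01, 2688, [nat_lit 0x7dab4f, nat_lit 2, nat_lit 0x7dab4c, nat_lit 8, nat_lit 0x24020, nat_lit 0x1490]⟩
/-- cycle type 1^6 3^6 -/
def m23_3A : Cls := ⟨nat_lit 0xbd670b3e29339076b28b548a408c40, 180, [nat_lit 0x24031, nat_lit 0x792b0e, nat_lit 4, nat_lit 8, nat_lit 0x24020, nat_lit 16]⟩
/-- cycle type 1^4 2^2 4^4 -/
def m23_4A : Cls := ⟨nat_lit 0xb9a706a1d2ac5e7b2974624a400c41, 32, [nat_lit 0x7dab4f, nat_lit 2, nat_lit 4, nat_lit 8, nat_lit 32, nat_lit 0x410]⟩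
/-- cycle type 1^4 5^4 -/
def m23_5A : Cls := ⟨nat_lit 0xb993561e32839e8a2d566cc0428c41, 15, [nat_lit 0x35aeaf, nat_lit 2, nat_lit 4, nat_lit 8, nat_lit 32, nat_lit 16]⟩
/-- cycle type 1^2 2^2 3^2 6^2 -/
def m23_6A : Cls := ⟨nat_lit 0xb818f9d211955c8b10c76a54558c41, 12, [nat_lit 0x60798f, nat_lit 2, nat_lit 4, nat_lit 8, nat_lit 32, nat_lit 16]⟩
/-- cycle type 1^3 7^3 -/
def m23_7A : Cls := ⟨nat_lit 0xb956c85240999d63b5285549178c41, 14, [nat_lit 0x5f903f, nat_lit 2, nat_lit 4, nat_lit 8, nat_lit 32, nat_lit 16]⟩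
/-- cycle type 1^3 7^3 -/
def m23_7B : Cls := ⟨nat_lit 0xbb0158d0d35bda8b2a077148990c41, 14, [nat_lit 0x3f027f, nat_lit 2, nat_lit 4, nat_lit 8, nat_lit 32, nat_lit 16]⟩
/-- cycle type 1^2 2^1 4^1 8^2 -/
def m23_8A : Cls := ⟨nat_lit 0xbb696611cb9c5e84c9553402728c40, 8, [nat_lit 1, nat_lit 46, nat_lit 4, nat_lit 8, nat_lit 32, nat_lit 0x810]⟩
/-- cycle type 1^2 11^2 -/
def m23_11A : Cls := ⟨nat_lit 0xbc54ca9cce9c808a35365c1e520c41, 11, [nat_lit 0x28a43f, nat_lit 2, nat_lit 4, nat_lit 8, nat_lit 32, nat_lit 16]⟩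
/-- cycle type 1^2 11^2 -/
def m23_11B : Cls := ⟨nat_lit 0xbc64b541013d5d433dacb4d2520c40, 11, [nat_lit 1, nat_lit 0x25623e, nat_lit 4, nat_lit 8, nat_lit 32, nat_lit 16]⟩
/-- cycle type 1^1 2^1 7^1 14^1 -/
def m23_14A : Cls := ⟨nat_lit 0xba1aa4c647a9ace02e0564c9478c41, 14, [nat_lit 0x70ad3f, nat_lit 2, nat_lit 4, nat_lit 8, nat_lit 32, nat_lit 16]⟩
/-- cycle type 1^1 2^1 7^1 14^1 -/
def m23_14B : Cls := ⟨nat_lit 0xbba676acc0a3e30559156248590c41, 14, [nat_lit 0x55dc8f, nat_lit 2, nat_lit 4, nat_lit 8, nat_lit 32, nat_lit 16]⟩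
/-- cycle type 1^1 3^1 5^1 15^1 -/
def m23_15A : Cls := ⟨nat_lit 0xba68e42e530198aac4b0b1c8d78c41, 15, [nat_lit 0x800f, nat_lit 2, nat_lit 4, nat_lit 8, nat_lit 0x24020, nat_lit 16]⟩
/-- cycle type 1^1 3^1 5^1 15^1 -/
def m23_15B : Cls := ⟨nat_lit 0xbc28d380cb9beae2a5914588a90c41, 15, [nat_lit 0x4000f, nat_lit 2, nat_lit 4, nat_lit 8, nat_lit 0x24020, nat_lit 16]⟩
/-- cycle type 1^1 23^1 -/
def m23_23A : Cls := ⟨nat_lit 0xb82d5a4e5183dcd62d4941cc520c41, 23, [nat_lit 0x7fffff, nat_lit 2, nat_lit 4, nat_lit 8, nat_lit 32, nat_lit 16]⟩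
/-- cycle type 1^1 23^1 -/
def m23_23B : Cls := ⟨nat_lit 0xb95153b1ee84a299ad4db508030c41, 23, [nat_lit 0x7fffff, nat_lit 2, nat_lit 4, nat_lit 8, nat_lit 32, nat_lit 16]⟩
def m23Cl : List Cls := [m23_1A, m23_2A, m23_3A, m23_4A, m23_5A, m23_6A, m23_7A, m23_7B, m23_8A, m23_11A, m23_11B, m23_14A, m23_14B, m23_15A, m23_15B, m23_23A, m23_23B]

theorem m23Cl_ok : allL m23Cl (clsOK (nat_lit 5) (nat_lit 32) (nat_lit 24) m24CertL.tail (nat_lit 8388608)) = true := by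
  decide +kernel
theorem m23Cl_pairs : pairsOK (nat_lit 5) (nat_lit 32) (nat_lit 24) m24CertL.tail (nat_lit 8388608) m23Cl = true := by
  decide +kernel
/-- the conjugacy classes of `Spor.M23` -/
theorem m23_classes : GE.ClassList Spor.M23 m23Cl :=
  m23_chain.classList fixes_M23 (allL_iff.1 m23Cl_ok) m23Cl_pairs card_M23 (by decide +kernel)

/-- cycle type 1^24 -/
def m24_1A : Cls := ⟨nat_lit 0xbdab49ca307b9ac5a928398a418820, 244823040, [nat_lit 0xffffff, nat_lit 0x7fffff, nat_lit 0x7ffffe, nat_lit 0x7ffffc, nat_lit 0x7ffff8, nat_lit 0x24020, nat_lit 0x7dbfd0]⟩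
/-- cycle type 1^8 2^8 -/
def m24_2A : Cls := ⟨nat_lit 0xbae4d8563343a8cb28cf3a4a410c01, 21504, [nat_lit 0x8254b0, nat_lit 0x7dab4f, nat_lit 2, nat_lit 0x7dab4c, nat_lit 8, nat_lit 0x24020, nat_lit 0x1490]⟩
/-- cycle type 2^12 -/
def m24_2B : Cls := ⟨nat_lit 0x4672ad2c35b5c97a18a31c8580457, 7680, [nat_lit 0xffffff, nat_lit 1, nat_lit 0x57fffe, nat_lit 4, nat_lit 0x57ff38, nat_lit 32, nat_lit 16]⟩
/-- cycle type 1^6 3^6 -/
def m24_3A : Cls := ⟨nat_lit 0x2ea87ca346ba693a8d0b304428ee1, 1080, [nat_lit 0xd9bbef, nat_lit 1, nat_lit 2, nat_lit 0x59bbec, nat_lit 8, nat_lit 32, nat_lit 0x240410]⟩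
/-- cycle type 3^8 -/
def m24_3B : Cls := ⟨nat_lit 0x9ec86166955211119aeabc9258c17, 504, [nat_lit 0xffffff, nat_lit 1, nat_lit 2, nat_lit 0x580254, nat_lit 8, nat_lit 0x24020, nat_lit 16]⟩
/-- cycle type 2^4 4^4 -/
def m24_4A : Cls := ⟨nat_lit 0xccaab2114b5cb43e9299c85b5c41, 384, [nat_lit 0xbc9fc7, nat_lit 1, nat_lit 2, nat_lit 4, nat_lit 0x436038, nat_lit 0x24020, nat_lit 16]⟩
/-- cycle type 1^4 2^2 4^4 -/
def m24_4B : Cls := ⟨nat_lit 0x258a33e35b39075ce4d8502428c57, 128, [nat_lit 0x802101, nat_lit 1, nat_lit 0x7d96ee, nat_lit 4, nat_lit 8, nat_lit 32, nat_lit 0x810]⟩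
/-- cycle type 4^6 -/
def m24_4C : Cls := ⟨nat_lit 0x36e8b4e1459a4951dd17b08228ea1, 96, [nat_lit 0xffffff, nat_lit 1, nat_lit 2, nat_lit 0x2844, nat_lit 8, nat_lit 32, nat_lit 16]⟩
/-- cycle type 1^4 5^4 -/
def m24_5A : Cls := ⟨nat_lit 0x2a966a22c4b8ef81973954a4b8c41, 60, [nat_lit 0xfdbfcf, nat_lit 1, nat_lit 2, nat_lit 4, nat_lit 8, nat_lit 0x24020, nat_lit 16]⟩
/-- cycle type 1^2 2^2 3^2 6^2 -/
def m24_6A : Cls := ⟨nat_lit 0xbadae61df58ca14b14089a48a30c41, 24, [nat_lit 0x800100, nat_lit 0x1c52cf, nat_lit 2, nat_lit 4, nat_lit 8, nat_lit 32, nat_lit 16]⟩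
/-- cycle type 6^4 -/
def m24_6B : Cls := ⟨nat_lit 0x1a4e6a0f68b1309dcafad08b50c41, 24, [nat_lit 0xffffff, nat_lit 1, nat_lit 2, nat_lit 4, nat_lit 8, nat_lit 32, nat_lit 16]⟩
/-- cycle type 1^3 7^3 -/
def m24_7A : Cls := ⟨nat_lit 0x1e129da2aa5d8b4b6a643dc428c41, 42, [nat_lit 0xf5ffef, nat_lit 1, nat_lit 2, nat_lit 4, nat_lit 8, nat_lit 32, nat_lit 0x80010]⟩
/-- cycle type 1^3 7^3 -/
def m24_7B : Cls := ⟨nat_lit 0x312834a2781555a4dedb2ee470c41, 42, [nat_lit 0xf9ffef, nat_lit 1, nat_lit 2, nat_lit 4, nat_lit 8, nat_lit 32, nat_lit 0x40010]⟩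
/-- cycle type 1^2 2^1 4^1 8^2 -/
def m24_8A : Cls := ⟨nat_lit 0x34b68c15531e4f9ad2875c9460c41, 16, [nat_lit 0xf5b07f, nat_lit 1, nat_lit 2, nat_lit 4, nat_lit 8, nat_lit 32, nat_lit 16]⟩
/-- cycle type 2^2 10^2 -/
def m24_10A : Cls := ⟨nat_lit 0x468f6ad5799dd6341099548560c41, 20, [nat_lit 0xfffccf, nat_lit 1, nat_lit 2, nat_lit 4, nat_lit 8, nat_lit 32, nat_lit 16]⟩
/-- cycle type 1^2 11^2 -/
def m24_11A : Cls := ⟨nat_lit 0x3aa89194581e295cdf66d09760c41, 11, [nat_lit 0x81923f, nat_lit 1, nat_lit 2, nat_lit 4, nat_lit 8, nat_lit 32, nat_lit 16]⟩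
/-- cycle type 2^1 4^1 6^1 12^1 -/
def m24_12A : Cls := ⟨nat_lit 0x41375b54f71e75944b43588860c41, 12, [nat_lit 0xb0133f, nat_lit 1, nat_lit 2, nat_lit 4, nat_lit 8, nat_lit 32, nat_lit 16]⟩
/-- cycle type 12^2 -/
def m24_12B : Cls := ⟨nat_lit 0x48d3594f58329173d17b248d50c41, 12, [nat_lit 0xa1874f, nat_lit 1, nat_lit 2, nat_lit 4, nat_lit 8, nat_lit 32, nat_lit 16]⟩
/-- cycle type 1^1 2^1 7^1 14^1 -/
def m24_14A : Cls := ⟨nat_lit 0x3e4ba4588b2a6e299376d49038c41, 14, [nat_lit 0x9929bf, nat_lit 1, nat_lit 2, nat_lit 4, nat_lit 8, nat_lit 32, nat_lit 16]⟩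
/-- cycle type 1^1 2^1 7^1 14^1 -/
def m24_14B : Cls := ⟨nat_lit 0x520e799952a9abb46e99a09238c41, 14, [nat_lit 0x8c83ff, nat_lit 1, nat_lit 2, nat_lit 4, nat_lit 8, nat_lit 32, nat_lit 16]⟩
/-- cycle type 1^1 3^1 5^1 15^1 -/
def m24_15A : Cls := ⟨nat_lit 0x5a6d7dd4ba1d312d64e4408660c41, 15, [nat_lit 0xbeb60f, nat_lit 1, nat_lit 2, nat_lit 4, nat_lit 8, nat_lit 32, nat_lit 16]⟩
/-- cycle type 1^1 3^1 5^1 15^1 -/
def m24_15B : Cls := ⟨nat_lit 0x49e58258d72ab65de2644c9438c41, 15, [nat_lit 0xa9e5cf, nat_lit 1, nat_lit 2, nat_lit 4, nat_lit 8, nat_lit 32, nat_lit 16]⟩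
/-- cycle type 3^1 21^1 -/
def m24_21A : Cls := ⟨nat_lit 0x453533d8e6a8a89d250b2c9738c41, 21, [nat_lit 0xf7f7bf, nat_lit 1, nat_lit 2, nat_lit 4, nat_lit 8, nat_lit 32, nat_lit 16]⟩
/-- cycle type 3^1 21^1 -/
def m24_21B : Cls := ⟨nat_lit 0x516eb9a6d3a6b08d9ea620832c841, 21, [nat_lit 0xffffc7, nat_lit 1, nat_lit 2, nat_lit 4, nat_lit 8, nat_lit 32, nat_lit 16]⟩
/-- cycle type 1^1 23^1 -/
def m24_23A : Cls := ⟨nat_lit 0x35179d9928aa89315cb7c09538c41, 23, [nat_lit 0xf7ffff, nat_lit 1, nat_lit 2, nat_lit 4, nat_lit 8, nat_lit 32, nat_lit 16]⟩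
/-- cycle type 1^1 23^1 -/
def m24_23B : Cls := ⟨nat_lit 0xb95153b1ee84a299ad4db508030c41, 23, [nat_lit 0x800000, nat_lit 0x7fffff, nat_lit 2, nat_lit 4, nat_lit 8, nat_lit 32, nat_lit 16]⟩
def m24Cl : List Cls := [m24_1A, m24_2A, m24_2B, m24_3A, m24_3B, m24_4A, m24_4B, m24_4C, m24_5A, m24_6A, m24_6B, m24_7A, m24_7B, m24_8A, m24_10A, m24_11A, m24_12A, m24_12B, m24_14A, m24_14B, m24_15A, m24_15B, m24_21A, m24_21B, m24_23A, m24_23B]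

theorem m24Cl_ok : allL m24Cl (clsOK (nat_lit 5) (nat_lit 32) (nat_lit 24) m24CertL (nat_lit 0)) = true := by
  decide +kernel
theorem m24Cl_pairs : pairsOK (nat_lit 5) (nat_lit 32) (nat_lit 24) m24CertL (nat_lit 0) m24Cl = true := by
  decide +kernel
/-- the conjugacy classes of `M24` -/
theorem m24_classes : GE.ClassList M24 m24Cl :=
  m24_chain.classList (GE.fixes_zero _) (allL_iff.1 m24Cl_ok) m24Cl_pairs card_M24 (by decide +kernel)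

end Cfsg.Agent.H14
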