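/-
SL(5,2) on 31 points; the centraliser of the transvection `1 + E 0 1` (generated with tools_h56/model.py).
-/
import Cfsg.Agent.H56.ClassModel
import Cfsg.Agent.H56.Fields
import Cfsg.Agent.H56.IsoK
import Cfsg.Agent.H14.Local

set_option autoImplicit false

namespace Cfsg.Agent.H14.L52

open H56

def VT : ℕ := nat_lit 0x4de68e2f22d5da6f94ca5b3bff0e95f43041062
def R : BT := (.node (nat_lit 16) (.node (nat_lit 8) (.node (nat_lit 4) (.node (nat_lit 2) (.leaf (nat_lit 5)) (.node (nat_lit 3) (.leaf (nat_lit 0)) (.leaf (nat_lit 1)))) (.node (nat_lit 6) (.node (nat_lit 5) (.leaf (nat_lit 2)) (.leaf (nat_lit 23))) (.node (nat_lit 7) (.leaf (nat_lit 28)) (.leaf (nat_lit 9))))) (.node (nat_lit 12) (.node (nat_lit 10) (.node (nat_lit 9) (.leaf (nat_lit 3)) (.leaf (nat_lit 8))) (.node (nat_lit 11) (.leaf (nat_lit 17)) (.leaf (nat_lit 7)))) (.node (nat_lit 14) (.node (nat_lit 13) (.leaf (nat_lit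 16)) (.leaf (nat_lit 19))) (.node (nat_lit 15) (.leaf (nat_lit 21)) (.leaf (nat_lit 29)))))) (.node (nat_lit 24) (.node (nat_lit 20) (.node (nat_lit 18) (.node (nat_lit 17) (.leaf (nat_lit 4)) (.leaf (nat_lit 27))) (.node (nat_lit 19) (.leaf (nat_lit 24)) (.leaf (nat_lit 30)))) (.node (nat_lit 22) (.node (nat_lit 21) (.leaf (nat_lit 15)) (.leaf (nat_lit 22))) (.node (nat_lit 23) (.leaf (nat_lit 14)) (.leaf (nat_lit 25))))) (.node (nat_lit 28) (.node (nat_lit 26) (.node (nat_lit 25) (.leaf (nat_lit 26)) (.leaf (nat_lit 13))) (.node (nat_lit 27) (.leaf (nat_lit 20)) (.leaf (nat_lit 12)))) (.node (nat_lit 30) (.node (nat_lit 29) (.leaf (nat_lit 10)) (.leaf (nat_lit 6))) (.node (nat_lit 31) (.leaf (nat_lit 18)) (.leaf (nat_lit 11)))))))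
def gs : List (ℕ × ℕ) := [(nat_lit 0x11095d7, nat_lit 0x758287878a1f84d64b775ab38bdab520db02641), (nat_lit 0x1a99023, nat_lit 0x4786f0ea5ee67b5d90f55c34941cc024fa20b0d)]
def gens : List ℕ := [nat_lit 0x758287878a1f84d64b775ab38bdab520db02641, nat_lit 0x4786f0ea5ee67b5d90f55c34941cc024fa20b0d]
def certL0 : Lev := ⟨nat_lit 0, nat_lit 0x7fffffff, (.node (nat_lit 15) (.node (nat_lit 7) (.node (nat_lit 3) (.node (nat_lit 1) (.leaf (nat_lit 0x7bbcdeb38bdab49ca307b9ac5a928398a418820)) (.node (nat_lit 2) (.leaf (nat_lit 0x6bd524e58839b76057b53d3d41c46b1634cf003)) (.leaf (nat_lit 0x3bc1ca5eceda5cc094bd362745ea4d8e7430205)))) (.node (nat_lit 5) (.node (nat_lit 4) (.leaf (nat_lit 0x758287878a1f84d64b775ab38bdab520db02641)) (.leaf (nat_lit 0x2d0d2ef4a1723dc8e6fbb3103ba84ad820f24d2))) (.node (nat_lit 6) (.leaf (nat_lit 0x20c989267e557e9658a8771bb3ef46b803d08a1)) (.leaf (nat_lit 0x22534be2a708f423477dacbd8675e302d8e0595)))))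 (.node (nat_lit 11) (.node (nat_lit 9) (.node (nat_lit 8) (.leaf (nat_lit 0x4786f0ea5ee67b5d90f55c34941cc024fa20b0d)) (.leaf (nat_lit 0x36153a2eba662c925dad87a62d86027b93129f8))) (.node (nat_lit 10) (.leaf (nat_lit 0x25d2a604c5b63d3c119beabe26c03b4d5c784a6)) (.leaf (nat_lit 0xe33d2ec57dc3da625e829dc60049c9d1ba99a4)))) (.node (nat_lit 13) (.node (nat_lit 12) (.leaf (nat_lit 0x21b19c92bd07b433ca7b6c700115ecf1ccbd702)) (.leaf (nat_lit 0x123660aa6f5d3d2edb0185005534b7e66ec4b87))) (.node (nat_lit 14) (.leaf (nat_lit 0x2ea5d65b1f4984438ca3c0170edfd18ad3a7309)) (.leaf (nat_lit 0x516eef1a5d405e8913bc80c33de685498fc06b6)))))) (.node (nat_lit 23) (.node (nat_lit 19) (.node (nat_lit 17) (.node (nat_lit 16) (.leaf (nat_lit 0x2c61dd305f29cfe359a040514e4c7ba25db4c95)) (.leaf (nat_lit 0x30285d9d21e39b4a8e0cf88f6ea11a9af4ecca2))) (.node (nat_lit 18) (.leaf (nat_lit 0x1b6252347f352324c1ced572643167d1d10df25))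 (.leaf (nat_lit 0x4f4da3038dbd30e81043a85e35b857457795479)))) (.node (nat_lit 21) (.node (nat_lit 20) (.leaf (nat_lit 0x889717668051e0714ca0f515be59bcdbdad8f8)) (.leaf (nat_lit 0x22097afcaed5a0de822672399df07712c595066))) (.node (nat_lit 22) (.leaf (nat_lit 0x29331550d26c0e587347c0fee3071c4ae5ed8da)) (.leaf (nat_lit 0x72827c485d80da1d4fdbe66b428328313e6bad8))))) (.node (nat_lit 27) (.node (nat_lit 25) (.node (nat_lit 24) (.leaf (nat_lit 0x43341224a039255fadde55bb0b233b9c8f36343)) (.leaf (nat_lit 0x312e4696034e51b56907f0becabbb0dda4188f8))) (.node (nat_lit 26) (.leaf (nat_lit 0x3269bf4182285bf0cd4b1f9a2bab17ad100b732)) (.leaf (nat_lit 0x1448e838660f5089d6e7d244cded30b55eda715)))) (.node (nat_lit 29) (.node (nat_lit 28) (.leaf (nat_lit 0x5a980448f125869ea50e6cea6f7c35d4a145dd9)) (.leaf (nat_lit 0x78e05b8cce6c344be7d6da5856a28b90792d450))) (.node (nat_lit 30) (.leaf (nat_lit 0x441281306ebece1567e0dd2568d0aa2f2c3eb7c))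 (.leaf (nat_lit 0x543052ede88a636dd87b239f2b22e1e88dceb)))))))⟩
def certC0 : LevCert := ⟨certL0,
    [(nat_lit 3, nat_lit 0), (nat_lit 7, nat_lit 1), (nat_lit 25, nat_lit 0), (nat_lit 26, nat_lit 1), (nat_lit 22, nat_lit 0), (nat_lit 5, nat_lit 1), (nat_lit 18, nat_lit 0), (nat_lit 19, nat_lit 0), (nat_lit 4, nat_lit 1), (nat_lit 14, nat_lit 0), (nat_lit 17, nat_lit 0), (nat_lit 24, nat_lit 1), (nat_lit 1, nat_lit 0), (nat_lit 11, nat_lit 1), (nat_lit 12, nat_lit 0), (nat_lit 21, nat_lit 1), (nat_lit 20, nat_lit 0), (nat_lit 15, nat_lit 0), (nat_lit 9, nat_lit 1), (nat_lit 30, nat_lit 1), (nat_lit 13, nat_lit 1), (nat_lit 8, nat_lit 0), (nat_lit 29, nat_lit 0), (nat_lit 23, nat_lit 0), (nat_lit 10, nat_lit 0), (nat_lit 16, nat_lit 1), (nat_lit 2, nat_lit 0), (nat_lit 6, nat_lit 1), (nat_lit 27, nat_lit 1), (nat_lit 28, nat_lit 0)],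
    [[nat_lit 0, nat_lit 0, nat_lit 0, nat_lit 2, nat_lit 2, nat_lit 2, nat_lit 0, nat_lit 2], [nat_lit 4, nat_lit 2, nat_lit 4, nat_lit 2, nat_lit 2]],
    [nat_lit 0xab4e615b9c98480c2d3a137347af72ede2eb20, nat_lit 0x6919a0a698f5dc3f82f2618d86c72555772d8c0]⟩
def certL1 : Lev := ⟨nat_lit 1, nat_lit 0x7ffffffe, (.node (nat_lit 16) (.node (nat_lit 8) (.node (nat_lit 4) (.node (nat_lit 2) (.leaf (nat_lit 0x7bbcdeb38bdab49ca307b9ac5a928398a418820)) (.node (nat_lit 3) (.leaf (nat_lit 0x12a5c1bc2cee8b829baba5071cadd9c5fc605c0)) (.leaf (nat_lit 0x8eee30948e2cd44cb9856e9f74665ee5a0bd40)))) (.node (nat_lit 6) (.node (nat_lit 5) (.leaf (nat_lit 0x6870a49c5cbf6a8e17e9f537392c2e21a135580)) (.leaf (nat_lit 0x687ca3d4c4c8ee8e3a832f36d92f58782d988a0))) (.node (nat_lit 7) (.leaf (nat_lit 0x1239c76e8827d31eb9b929cf2d2a6585a715980)) (.leaf (nat_lit 0x6cf1f61b5cb1e44694e1727d4d2c50dd7090cc0))))) (.node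 (nat_lit 12) (.node (nat_lit 10) (.node (nat_lit 9) (.leaf (nat_lit 0x63b02795174b3b9adb6e08e8499e12df4365680)) (.leaf (nat_lit 0x11d2c52132d4fa78b28f6d376f0238b0ddb2960))) (.node (nat_lit 11) (.leaf (nat_lit 0x6984a6e3c80efe6972973fb3586a741a42b6140)) (.leaf (nat_lit 0x624e26b8b68bd45553b41ed90c18389666bbfa0)))) (.node (nat_lit 14) (.node (nat_lit 13) (.leaf (nat_lit 0x491457784709333d97788ca1665fedb6b836a00)) (.leaf (nat_lit 0x77dc9e8ef5a074dca11c1025ba8d6ca58ea89a0))) (.node (nat_lit 15) (.leaf (nat_lit 0x573b844c49ad03b3287285eebb7bc12658d7940)) (.leaf (nat_lit 0xde48d69e46bb0748d3096d9ba8e2e259b5e1a0)))))) (.node (nat_lit 23) (.node (nat_lit 19) (.node (nat_lit 17) (.leaf (nat_lit 0x5454861c733ca4e0da1dfb369c572576e866920)) (.node (nat_lit 18) (.leaf (nat_lit 0xab4e615b9c98480c2d3a137347af72ede2eb20)) (.leaf (nat_lit 0xaf2e1b588d3cb487bb854e8b146c6e5c49a9e0)))) (.node (nat_lit 21)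 (.node (nat_lit 20) (.leaf (nat_lit 0x60ad20d1651f910ecc2857b377a5aa3d395b2e0)) (.leaf (nat_lit 0x576a814948e2e1f1989e0ad942c73e9dfa6c9c0))) (.node (nat_lit 22) (.leaf (nat_lit 0x6933a132a3d838b9a05df9ee6ad111b052af780)) (.leaf (nat_lit 0x2b6b910a9e0638f7723d50e87cc5583997b19a0))))) (.node (nat_lit 27) (.node (nat_lit 25) (.node (nat_lit 24) (.leaf (nat_lit 0x61ea26a1d0d51470b27f6ee96f0a38b0d3b4960)) (.leaf (nat_lit 0x6eadf0a2140d5c81932a69cfeacf9b4f05bb080))) (.node (nat_lit 26) (.leaf (nat_lit 0x62fe27034696624d95d41eb03658e7ac7a96e20)) (.leaf (nat_lit 0x315c6857e819e595c8eb64e89a6b4d747bc0a20)))) (.node (nat_lit 29) (.node (nat_lit 28) (.leaf (nat_lit 0x14fe0b0827e2ad40d70cda4a9c5daa76fc36d20)) (.leaf (nat_lit 0x71c116d2c55cfe7e228d5215e9256ccccd19560))) (.node (nat_lit 30) (.leaf (nat_lit 0x74389a974b99d22d78f1c5076413bf36da11320)) (.leaf (nat_lit 0x68b28a5522b3cd3236df907737174be7019ba0)))))))⟩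
def certC1 : LevCert := ⟨certL1,
    [(nat_lit 17, nat_lit 0), (nat_lit 10, nat_lit 0), (nat_lit 23, nat_lit 1), (nat_lit 25, nat_lit 0), (nat_lit 7, nat_lit 1), (nat_lit 12, nat_lit 0), (nat_lit 4, nat_lit 1), (nat_lit 28, nat_lit 1), (nat_lit 15, nat_lit 0), (nat_lit 19, nat_lit 1), (nat_lit 21, nat_lit 0), (nat_lit 13, nat_lit 1), (nat_lit 20, nat_lit 0), (nat_lit 27, nat_lit 0), (nat_lit 8, nat_lit 0), (nat_lit 16, nat_lit 1), (nat_lit 29, nat_lit 0), (nat_lit 6, nat_lit 1), (nat_lit 24, nat_lit 0), (nat_lit 14, nat_lit 0), (nat_lit 11, nat_lit 1), (nat_lit 9, nat_lit 0), (nat_lit 22, nat_lit 1), (nat_lit 26, nat_lit 0), (nat_lit 5, nat_lit 1), (nat_lit 2, nat_lit 1), (nat_lit 30, nat_lit 1), (nat_lit 3, nat_lit 0), (nat_lit 18, nat_lit 1)],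
    [[nat_lit 0, nat_lit 0, nat_lit 2, nat_lit 2, nat_lit 2, nat_lit 0], [nat_lit 2, nat_lit 4, nat_lit 2, nat_lit 4, nat_lit 4, nat_lit 2, nat_lit 4, nat_lit 4]],
    [nat_lit 0x1ead44891a63aa825f3f6d66e5f59b08a373020, nat_lit 0x998e75f7dba9369a3acdab052fc83c8a919020]⟩
def certL2 : Lev := ⟨nat_lit 2, nat_lit 0x7fffffdc, (.node (nat_lit 17) (.node (nat_lit 10) (.node (nat_lit 6) (.node (nat_lit 3) (.leaf (nat_lit 0x7bbcdeb38bdab49ca307b9ac5a928398a418820)) (.node (nat_lit 4) (.leaf (nat_lit 0x6574b13ae6ce583478a8577e38d974a0af16820)) (.leaf (nat_lit 0x275bbc1fcc39b5a1a2ccda7d52c883c8a21f820)))) (.node (nat_lit 8) (.node (nat_lit 7) (.leaf (nat_lit 0x1ead44891a63aa825f3f6d66e5f59b08a373020)) (.leaf (nat_lit 0x668ab790e59d9bd76ed88f04accdc140af4c820))) (.node (nat_lit 9) (.leaf (nat_lit 0x396c793b9d4e5831d2a8577e8a282e0cb6bb420)) (.leaf (nat_lit 0x1217c333be5a6daca3d7ba9a5a848398be1a420)))))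 (.node (nat_lit 13) (.node (nat_lit 11) (.leaf (nat_lit 0x34c764c9a1e15d5f2d2f6e1548a2e7dcb4ca020)) (.node (nat_lit 12) (.leaf (nat_lit 0x466c1cbc7d6e0aeded5261661268e7f0a8cb420)) (.leaf (nat_lit 0x5babca46f546b79ebd03a3826d244c30aed9820)))) (.node (nat_lit 15) (.node (nat_lit 14) (.leaf (nat_lit 0x435eadcd322da9a386c9285ccbf07458bd8ec20)) (.leaf (nat_lit 0x4247ab2f31a56d511c6e0a9ade236cf8bd7a020))) (.node (nat_lit 16) (.leaf (nat_lit 0x1e95419319dd8bd7b2d17152c6faf710a3b4020)) (.leaf (nat_lit 0x4d2fea990cb792b8c82d50cb446ded9cb5c3820)))))) (.node (nat_lit 24) (.node (nat_lit 20) (.node (nat_lit 18) (.leaf (nat_lit 0x398a7f8795c69b6f45a3a304accc9bc0b6e4820)) (.node (nat_lit 19) (.leaf (nat_lit 0x30d16d7d446d50589f2263b3bf0f9b24ba70c20)) (.leaf (nat_lit 0x6f86f0ea49413115b579f5077e54c6b8b8a2c20)))) (.node (nat_lit 22) (.node (nat_lit 21) (.leaf (nat_lit 0x2ce437272f762243b43ac137cbf6c6d8aaa6020))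 (.leaf (nat_lit 0x62f52325e9a84d4d87c32e9a7e7a7438bb8c020))) (.node (nat_lit 23) (.leaf (nat_lit 0x459519b8798a8b6f9daba552c6fb6c90a87c020)) (.leaf (nat_lit 0x7869dc9d813d0a8b607b6566d339d9d0a4adc20))))) (.node (nat_lit 27) (.node (nat_lit 25) (.leaf (nat_lit 0x5e984f6c2de593d18ed73eb052fc38c8bc41020)) (.node (nat_lit 26) (.leaf (nat_lit 0x4251ad0534717a513264dd8dde0ef778bdb0c20)) (.leaf (nat_lit 0x595dc8b4f850dc91c8b636e98a2bed8caec4c20)))) (.node (nat_lit 29) (.node (nat_lit 28) (.leaf (nat_lit 0x725b11ec9c65685520673e236689d9b4b7af820)) (.leaf (nat_lit 0x1202c51db4be7aac8fdb658d5aae3898be47020))) (.node (nat_lit 30) (.leaf (nat_lit 0x184f5f4eaca2f3e33c91c6b0a36c4c68b2db820)) (.leaf (nat_lit 0x998e75f7dba9369a3acdab052fc83c8a919020)))))))⟩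
def certC2 : LevCert := ⟨certL2,
    [(nat_lit 6, nat_lit 0), (nat_lit 30, nat_lit 1), (nat_lit 12, nat_lit 0), (nat_lit 18, nat_lit 1), (nat_lit 15, nat_lit 0), (nat_lit 9, nat_lit 1), (nat_lit 29, nat_lit 1), (nat_lit 26, nat_lit 0), (nat_lit 17, nat_lit 0), (nat_lit 25, nat_lit 1), (nat_lit 4, nat_lit 1), (nat_lit 21, nat_lit 0), (nat_lit 16, nat_lit 1), (nat_lit 24, nat_lit 0), (nat_lit 8, nat_lit 0), (nat_lit 13, nat_lit 1), (nat_lit 19, nat_lit 0), (nat_lit 22, nat_lit 0), (nat_lit 28, nat_lit 1), (nat_lit 27, nat_lit 0), (nat_lit 20, nat_lit 1), (nat_lit 7, nat_lit 0), (nat_lit 14, nat_lit 1), (nat_lit 11, nat_lit 0), (nat_lit 23, nat_lit 1), (nat_lit 3, nat_lit 0), (nat_lit 10, nat_lit 1)],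
    [[nat_lit 2, nat_lit 0, nat_lit 0, nat_lit 0, nat_lit 0, nat_lit 2, nat_lit 0, nat_lit 2, nat_lit 2, nat_lit 2, nat_lit 2, nat_lit 2, nat_lit 0, nat_lit 2], [nat_lit 2, nat_lit 4, nat_lit 2, nat_lit 4, nat_lit 2, nat_lit 2, nat_lit 2, nat_lit 2, nat_lit 2, nat_lit 2, nat_lit 4, nat_lit 2], [nat_lit 6, nat_lit 4, nat_lit 4, nat_lit 4, nat_lit 6, nat_lit 4, nat_lit 6, nat_lit 4, nat_lit 6, nat_lit 4, nat_lit 6, nat_lit 4, nat_lit 6, nat_lit 6, nat_lit 4, nat_lit 4, nat_lit 6, nat_lit 6, nat_lit 6, nat_lit 6, nat_lit 4]],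
    [nat_lit 0x2a3c96346bd0e41bfa8637dbb3930ae4ab98820, nat_lit 0x6e5cf1ec4be56854d8673e238753aa54b868820, nat_lit 0x351c63cdabac6e3e21192ad9f113d9ecb4a8820]⟩
def certL3 : Lev := ⟨nat_lit 3, nat_lit 0x6f7ffdd8, (.node (nat_lit 17) (.node (nat_lit 11) (.node (nat_lit 7) (.node (nat_lit 4) (.leaf (nat_lit 0x7bbcdeb38bdab49ca307b9ac5a928398a418820)) (.node (nat_lit 6) (.leaf (nat_lit 0x1d5c47bb1bccdb959ab857047e534d38a360820)) (.leaf (nat_lit 0x331c6cd74b9bdd21f3b54a158a12f70cbab0820)))) (.node (nat_lit 8) (.leaf (nat_lit 0x7a1cdb338bda6da991d7ba9a52d311c8a438820)) (.node (nat_lit 10) (.leaf (nat_lit 0x6ebcf32c4be7ad818f373e9a52d238c8b840820)) (.leaf (nat_lit 0x49dc5428bbeb357c7d66b27d38d24c20a6d8820))))) (.node (nat_lit 14) (.node (nat_lit 12) (.leaf (nat_lit 0x371c674dabafd32233b92ab019d2f744b4b0820)) (.node (nat_lit 13) (.leaf (nat_lit 0x6e5cf1ec4be56854d8673e238753aa54b868820)) (.leaf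 (nat_lit 0x6d5cf22c4be4c7975ab73c71acd34d40b860820)))) (.node (nat_lit 15) (.leaf (nat_lit 0x4ddcead10b9f267b7d688e4ad3124c50b5d8820)) (.node (nat_lit 16) (.leaf (nat_lit 0x759c990f5ba2986ba5a1c77ecbd265d8b050820)) (.leaf (nat_lit 0x30fc6bd74b9a2e462a354ad9f1133eecba80820)))))) (.node (nat_lit 24) (.node (nat_lit 20) (.node (nat_lit 18) (.leaf (nat_lit 0x7a7cdd338bda1aea8757b98d3492742ca488820)) (.node (nat_lit 19) (.leaf (nat_lit 0x49fc5568bbead070f796b3b34453821ca6f0820)) (.leaf (nat_lit 0x2a3c96346bd0e41bfa8637dbb3930ae4ab98820)))) (.node (nat_lit 21) (.leaf (nat_lit 0x489c5468bbeb63c42de6b0e89d52e7f4a6c8820)) (.node (nat_lit 22) (.leaf (nat_lit 0x351c63cdabac6e3e21192ad9f113d9ecb4a8820)) (.leaf (nat_lit 0x569c8123db8d98d396d41f7ecbd2a958b330820))))) (.node (nat_lit 27) (.node (nat_lit 25) (.leaf (nat_lit 0x233c3d263bf5dab2b0fac18d3493bf2cb120820)) (.node (nat_lit 26) (.leaf (nat_lit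 0x41fcaa873bc6d2753793a0cb66938234bdf0820)) (.leaf (nat_lit 0x6cdcf0ec4be5515d75273d07ec12c6ccb8a0820)))) (.node (nat_lit 29) (.leaf (nat_lit 0x475c1baa7bc1afa10cc9f736de132578a858820)) (.node (nat_lit 30) (.leaf (nat_lit 0x287c91346bd1188ba676377ecbd35858abe8820)) (.leaf (nat_lit 0xc9c8aa08bd772c52deecccb6692e7b4a7c8820)))))))⟩
def certC3 : LevCert := ⟨certL3,
    [(nat_lit 19, nat_lit 0), (nat_lit 12, nat_lit 1), (nat_lit 21, nat_lit 2), (nat_lit 18, nat_lit 1), (nat_lit 7, nat_lit 2), (nat_lit 15, nat_lit 0), (nat_lit 17, nat_lit 1), (nat_lit 27, nat_lit 2), (nat_lit 6, nat_lit 1), (nat_lit 29, nat_lit 1), (nat_lit 26, nat_lit 1), (nat_lit 14, nat_lit 1), (nat_lit 13, nat_lit 1), (nat_lit 16, nat_lit 2), (nat_lit 30, nat_lit 1), (nat_lit 24, nat_lit 0), (nat_lit 25, nat_lit 2), (nat_lit 10, nat_lit 1), (nat_lit 8, nat_lit 2), (nat_lit 20, nat_lit 2), (nat_lit 11, nat_lit 1), (nat_lit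 4, nat_lit 1), (nat_lit 22, nat_lit 1)],
    [[nat_lit 0, nat_lit 4, nat_lit 2, nat_lit 4, nat_lit 0, nat_lit 4, nat_lit 2, nat_lit 4, nat_lit 0, nat_lit 0, nat_lit 0, nat_lit 4, nat_lit 2, nat_lit 0, nat_lit 4], [nat_lit 6, nat_lit 6], [nat_lit 4, nat_lit 6, nat_lit 4, nat_lit 8, nat_lit 4, nat_lit 8, nat_lit 8, nat_lit 4, nat_lit 8, nat_lit 6, nat_lit 8, nat_lit 8, nat_lit 6, nat_lit 6, nat_lit 8, nat_lit 6, nat_lit 4], [nat_lit 6, nat_lit 8, nat_lit 8, nat_lit 8, nat_lit 8, nat_lit 10, nat_lit 10, nat_lit 6]],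
    [nat_lit 0x53bcd6e4cbaabe9e63032c98759283bcad18820, nat_lit 0x5bbcccb6fbfaaa9ea30c11666d1283b0ae18820, nat_lit 0x6bbca794dbcabb9da3059b047e5283b8ac18820, nat_lit 0x13bcc31fbbbaad99a30cda9a52d283c8be18820]⟩
def certL4 : Lev := ⟨nat_lit 4, nat_lit 0x4f54fc50, (.node (nat_lit 18) (.node (nat_lit 12) (.node (nat_lit 10) (.node (nat_lit 6) (.leaf (nat_lit 0x7bbcdeb38bdab49ca307b9ac5a928398a418820)) (.leaf (nat_lit 0x4bbc55a8bbeab99fa306b1eec6d28390a618820))) (.node (nat_lit 11) (.leaf (nat_lit 0x2fbc33d92bb6ae9e230d52d9f11283ecaa18820)) (.leaf (nat_lit 0x2bbc96746bd2b69ee30635cf279283e0ab18820)))) (.node (nat_lit 14) (.node (nat_lit 13) (.leaf (nat_lit 0x6bbca794dbcabb9da3059b047e5283b8ac18820)) (.leaf (nat_lit 0x53bcd6e4cbaabe9e63032c98759283bcad18820))) (.node (nat_lit 15) (.leaf (nat_lit 0x5bbcccb6fbfaaa9ea30c11666d1283b0ae18820)) (.leaf (nat_lit 0x67bcb2bcebeeb29d230260cb669283b4af18820)))))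 (.node (nat_lit 25) (.node (nat_lit 22) (.node (nat_lit 20) (.leaf (nat_lit 0x1bbc5b9aabb2af99230a6b36de1283f8b218820)) (.leaf (nat_lit 0x37bc660dabaea49be3092bdbb39283e4b418820))) (.node (nat_lit 24) (.leaf (nat_lit 0x3bbc79b19b92ab9b230df952a35283e8b618820)) (.leaf (nat_lit 0x6fbcf52c4be6ba9aa3073d8d349283acb818820)))) (.node (nat_lit 27) (.node (nat_lit 26) (.leaf (nat_lit 0x3fbc72c96be2a69b630f6e4ad31283d0b918820)) (.leaf (nat_lit 0x33bc69174b9ab89ba3054b7ecbd283d8ba18820))) (.node (nat_lit 30) (.leaf (nat_lit 0x63bc235debbeac9ae30b6754919283a8bb18820)) (.leaf (nat_lit 0x13bcc31fbbbaad99a30cda9a52d283c8be18820))))))⟩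
def certC4 : LevCert := ⟨certL4,
    [(nat_lit 13, nat_lit 0), (nat_lit 14, nat_lit 1), (nat_lit 12, nat_lit 2), (nat_lit 30, nat_lit 3), (nat_lit 11, nat_lit 1), (nat_lit 24, nat_lit 2), (nat_lit 20, nat_lit 3), (nat_lit 6, nat_lit 2), (nat_lit 22, nat_lit 3), (nat_lit 26, nat_lit 3), (nat_lit 15, nat_lit 2), (nat_lit 10, nat_lit 3), (nat_lit 27, nat_lit 3), (nat_lit 18, nat_lit 3), (nat_lit 25, nat_lit 3)],
    [],
    []⟩
def cert : List LevCert := [certC0, certC1, certC2, certC3, certC4]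
def certL : List Lev := [certL0, certL1, certL2, certL3, certL4]
/-- the numbering of the points -/
abbrev E : Enc (Fin 31) 31 5 32 := finEnc 31 5 32 rfl (by decide)
theorem ok : modelOK F2 5 31 5 32 VT R false gs cert 9999360 = true := by
  decide +kernel

/-- the permutation group -/
abbrev K : Subgroup (Equiv.Perm (Fin 31)) := E.grp gens

theorem model {F : Type*} [Field F] [Fintype F] (hF : Fintype.card F = 2) (ι : TF F2 →+* F) :
    ∃ φ, IsModel E (slToMat 5 F) (ptv ι (Equiv.refl _) E VT) false ⊥ gens certL φ :=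
  model_SL ι E hF (m := 29) (by decide) ok (by decide +kernel) (by decide +kernel)

theorem equiv {F : Type*} [Field F] [Fintype F] (hF : Fintype.card F = 2) :
    Nonempty (Matrix.SpecialLinearGroup (Fin 5) F ≃* K) :=
  let ⟨ι, _⟩ := exists_hom F2 hF; let ⟨_, h⟩ := model hF ι; h.equiv

theorem chain : E.IsChain certL K := let ⟨_, h⟩ := model (TF.card F2) (RingHom.id _); h.chain

theorem card : Nat.card K = 9999360 := chain.card.trans (modelOK_card ok)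

def tv : Cls := ⟨nat_lit 0x62a9de9debdbac9acf07e5b492b88898a418801, 21504, [nat_lit 0x73365a83, nat_lit 2, nat_lit 0xcc9a55c, nat_lit 0xc49a558, nat_lit 0xc40a450]⟩
def tvGens : List ℕ := [nat_lit 0x70ee7a009b922c6aebad847494f26ec0b650bd8, nat_lit 0x2f29b5f12869dd3018a6f85508f84a20afdccf1]
def tvCL0 : Lev := ⟨nat_lit 0, nat_lit 0x73365a83, (.node (nat_lit 18) (.node (nat_lit 11) (.node (nat_lit 7) (.node (nat_lit 1) (.leaf (nat_lit 0x7bbcdeb38bdab49ca307b9ac5a928398a418820)) (.leaf (nat_lit 0x62a9de9debdbac9acf07e5b492b88898a418801))) (.node (nat_lit 9) (.leaf (nat_lit 0x659c1daaed6e9117837275e7c412604ca85364b)) (.leaf (nat_lit 0x3ba1d9b19bdab41ca287f94c5b4103e8a498b89)))) (.node (nat_lit 14) (.node (nat_lit 12) (.leaf (nat_lit 0x269e6923c83d95105d7b1f7d01b08ca8ba1cd72)) (.leaf (nat_lit 0x38f216e9998e216f79a43080a99764a8b77c3d8))) (.node (nat_lit 17) (.leaf (nat_lit 0x2f9e25c32341314398398047cb716a68bb7aabd))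 (.leaf (nat_lit 0x568b1cf3dd6d875600623a11f3e570d8a81353c))))) (.node (nat_lit 25) (.node (nat_lit 21) (.node (nat_lit 20) (.leaf (nat_lit 0x2f29b5f12869dd3018a6f85508f84a20afdccf1)) (.leaf (nat_lit 0x792e469789df803562a149a1ebf3b3d8a324194))) (.node (nat_lit 24) (.leaf (nat_lit 0x643881a4e1dc1cd74ed12d49abfdb8d8b32228c)) (.leaf (nat_lit 0x71cd424055fd9446a312e6e3ed2fe90adb1a8c)))) (.node (nat_lit 29) (.node (nat_lit 28) (.leaf (nat_lit 0x70ee7a009b922c6aebad847494f26ec0b650bd8)) (.leaf (nat_lit 0x2f00b5f3241bddd258d53855e4c24a40afd8cf1))) (.node (nat_lit 30) (.leaf (nat_lit 0x481925d2bd2027862931f051f29d6618bb7b7b5)) (.leaf (nat_lit 0x2387c381b90f454ba6da66c58fdaaa0b668b2e))))))⟩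
def tvCC0 : LevCert := ⟨tvCL0,
    [(nat_lit 25, nat_lit 0), (nat_lit 18, nat_lit 1), (nat_lit 9, nat_lit 0), (nat_lit 29, nat_lit 1), (nat_lit 11, nat_lit 0), (nat_lit 24, nat_lit 1), (nat_lit 28, nat_lit 1), (nat_lit 7, nat_lit 0), (nat_lit 20, nat_lit 1), (nat_lit 30, nat_lit 1), (nat_lit 1, nat_lit 1), (nat_lit 12, nat_lit 0), (nat_lit 14, nat_lit 1), (nat_lit 17, nat_lit 1), (nat_lit 21, nat_lit 1)],
    [[nat_lit 2, nat_lit 0, nat_lit 2, nat_lit 2, nat_lit 2, nat_lit 0, nat_lit 2], [nat_lit 4, nat_lit 2, nat_lit 4, nat_lit 4, nat_lit 4, nat_lit 2, nat_lit 4, nat_lit 4, nat_lit 4, nat_lit 2]],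
    [nat_lit 0x759298fd536e916bb9a26107cbd774d8b012820, nat_lit 0x4999510eb7a2986a7ba1c77ee5dd0a88a69d820]⟩
def tvCL1 : Lev := ⟨nat_lit 2, nat_lit 0xcc9a55c, (.node (nat_lit 15) (.node (nat_lit 6) (.node (nat_lit 3) (.leaf (nat_lit 0x7bbcdeb38bdab49ca307b9ac5a928398a418820)) (.node (nat_lit 4) (.leaf (nat_lit 0x759298fd536e916bb9a26107cbd774d8b012820)) (.leaf (nat_lit 0x27c7b9abc1c30bdb9849f552cbe3aa58a26a020)))) (.node (nat_lit 10) (.node (nat_lit 8) (.leaf (nat_lit 0x4999510eb7a2986a7ba1c77ee5dd0a88a69d820)) (.leaf (nat_lit 0x7ab1dd998437b982d33d51ee918e2e28a4b8c20))) (.node (nat_lit 13) (.leaf (nat_lit 0x1fab435d153eac9f3d0b675448a44c5ca3d9820)) (.leaf (nat_lit 0x55cb85fdd56f297d2362605c66a483b4b319820))))) (.node (nat_lit 22) (.node (nat_lit 16) (.leaf (nat_lit 0x38fe7c13925e3542d831727d91b1aa28b66ec20)) (.node (nat_lit 19) (.leaf (nat_lit 0x1d3842991db792bd5c2d50cbec3d6ccca379020))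 (.leaf (nat_lit 0x3b9478eb96c131161779f507f118a96cb636820)))) (.node (nat_lit 26) (.node (nat_lit 23) (.leaf (nat_lit 0x2dcc31392d0b3879eb6ba77e8a293e8caa83420)) (.leaf (nat_lit 0x33c96ce5412b1ddc72432e1538f8f720bab5c20))) (.node (nat_lit 27) (.leaf (nat_lit 0x30ee68bb4b4e3c46243856e9f13265ecba53c20)) (.leaf (nat_lit 0x728e10f09b1191d4baddf9075ab30a98b79bc20))))))⟩
def tvCC1 : LevCert := ⟨tvCL1,
    [(nat_lit 3, nat_lit 0), (nat_lit 6, nat_lit 1), (nat_lit 26, nat_lit 0), (nat_lit 15, nat_lit 1), (nat_lit 23, nat_lit 0), (nat_lit 4, nat_lit 1), (nat_lit 16, nat_lit 0), (nat_lit 10, nat_lit 0), (nat_lit 8, nat_lit 0), (nat_lit 27, nat_lit 1), (nat_lit 13, nat_lit 0), (nat_lit 22, nat_lit 1), (nat_lit 19, nat_lit 0)],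
    [[nat_lit 0, nat_lit 2, nat_lit 0, nat_lit 2, nat_lit 2, nat_lit 2, nat_lit 2, nat_lit 2, nat_lit 2, nat_lit 0, nat_lit 2, nat_lit 2], [nat_lit 2, nat_lit 4, nat_lit 2, nat_lit 4, nat_lit 2, nat_lit 4, nat_lit 2, nat_lit 4, nat_lit 2, nat_lit 2]],
    [nat_lit 0x47dc19aa7bc30bdb1c49f552a3536ce8a878820, nat_lit 0x559c86e3db8e9e6e65a41c98759265bcb350820]⟩
def tvCL2 : Lev := ⟨nat_lit 3, nat_lit 0xc49a558, (.node (nat_lit 15) (.node (nat_lit 8) (.node (nat_lit 4) (.leaf (nat_lit 0x7bbcdeb38bdab49ca307b9ac5a928398a418820)) (.node (nat_lit 6) (.leaf (nat_lit 0x1d9c43fb1bce8e6e25a856d9f11265eca350820)) (.leaf (nat_lit 0x331c6cd74b9bdd21f3b54a158a12f70cbab0820)))) (.node (nat_lit 10) (.leaf (nat_lit 0x4abc53e8bbebae860f36b2d9f11238eca640820)) (.node (nat_lit 13) (.leaf (nat_lit 0x531cd424cbabd52473b32e7d38d2f720adb0820)) (.leaf (nat_lit 0x669cb23cebed87d756d26071acd2a940af30820))))) (.node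 (nat_lit 22) (.node (nat_lit 16) (.leaf (nat_lit 0x75dc998f5ba32b7b3d61c552a3524c68b0d8820)) (.node (nat_lit 19) (.leaf (nat_lit 0x2cfc31192bb63843aa3d537ecbd33ed8aa80820)) (.leaf (nat_lit 0x3a3c7eb19b90f41cba8df9ac5a930a98b698820)))) (.node (nat_lit 26) (.leaf (nat_lit 0x559c86e3db8e9e6e65a41c98759265bcb350820)) (.node (nat_lit 27) (.leaf (nat_lit 0x625c20ddebbd7155586b6507ec13aa4cbb68820)) (.leaf (nat_lit 0x47dc19aa7bc30bdb1c49f552a3536ce8a878820))))))⟩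
def tvCC2 : LevCert := ⟨tvCL2,
    [(nat_lit 27, nat_lit 0), (nat_lit 22, nat_lit 1), (nat_lit 19, nat_lit 0), (nat_lit 26, nat_lit 1), (nat_lit 8, nat_lit 0), (nat_lit 10, nat_lit 1), (nat_lit 15, nat_lit 0), (nat_lit 4, nat_lit 1), (nat_lit 6, nat_lit 0), (nat_lit 16, nat_lit 1), (nat_lit 13, nat_lit 0)],
    [[nat_lit 0, nat_lit 2, nat_lit 0, nat_lit 2, nat_lit 0, nat_lit 0, nat_lit 0, nat_lit 2, nat_lit 2], [nat_lit 4, nat_lit 4, nat_lit 2, nat_lit 4, nat_lit 4, nat_lit 4, nat_lit 2, nat_lit 4], [nat_lit 4, nat_lit 6, nat_lit 4, nat_lit 6, nat_lit 6, nat_lit 4]],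
    [nat_lit 0x4bbc55a8bbeab99fa306b1eec6d28390a618820, nat_lit 0x3bbc79b19b92ab9b230df952a35283e8b618820, nat_lit 0x2fbc33d92bb6ae9e230d52d9f11283ecaa18820]⟩
def tvCL3 : Lev := ⟨nat_lit 4, nat_lit 0xc40a450, (.node (nat_lit 15) (.node (nat_lit 10) (.node (nat_lit 6) (.leaf (nat_lit 0x7bbcdeb38bdab49ca307b9ac5a928398a418820)) (.leaf (nat_lit 0x4bbc55a8bbeab99fa306b1eec6d28390a618820))) (.node (nat_lit 13) (.leaf (nat_lit 0x2fbc33d92bb6ae9e230d52d9f11283ecaa18820)) (.leaf (nat_lit 0x53bcd6e4cbaabe9e63032c98759283bcad18820)))) (.node (nat_lit 26) (.node (nat_lit 22) (.leaf (nat_lit 0x67bcb2bcebeeb29d230260cb669283b4af18820)) (.leaf (nat_lit 0x3bbc79b19b92ab9b230df952a35283e8b618820))) (.node (nat_lit 27) (.leaf (nat_lit 0x33bc69174b9ab89ba3054b7ecbd283d8ba18820)) (.leaf (nat_lit 0x63bc235debbeac9ae30b6754919283a8bb18820)))))⟩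
def tvCC3 : LevCert := ⟨tvCL3,
    [(nat_lit 6, nat_lit 0), (nat_lit 22, nat_lit 1), (nat_lit 10, nat_lit 2), (nat_lit 26, nat_lit 1), (nat_lit 27, nat_lit 2), (nat_lit 13, nat_lit 2), (nat_lit 15, nat_lit 2)],
    [],
    []⟩
def tvC : List LevCert := [tvCC0, tvCC1, tvCC2, tvCC3]
def tvCL : List Lev := [tvCL0, tvCL1, tvCL2, tvCL3]
theorem tv_ok : clsOK 5 32 31 certL 0 tv = true := by decide +kernel
theorem tvC_ok : centOK 5 32 31 certL [tv.X] tvC tvGens = true := by decide +kernel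
theorem tv_inG : E.InG K tv.X := (chain.of_clsOK (E.fixes_zero _) tv_ok).1
/-- chain and generators of the centraliser of the transvection -/
theorem tvC_spec : E.IsChain tvCL (K ⊓ Subgroup.centralizer {E.perm tv.X}) ∧
    K ⊓ Subgroup.centralizer {E.perm tv.X} = E.grp tvGens :=
  chain.of_centOK tvC_ok (by simp [tv_inG.pk_perm])
    ((chain.of_clsOK (E.fixes_zero _) tv_ok).2.trans (by decide +kernel))
theorem tv_act : actOK F2 5 31 5 32 VT false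
    (mkM F2.b 5 fun i j => ifEq i j 1 (ifEq i 0 (ifEq j 1 1 0) 0), tv.X) = true := by decide +kernel

end Cfsg.Agent.H14.L52
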