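/-
Centralisers of involutions in the Mathieu groups: chains, generators, and the largest normal 2-subgroups
(generated by tools_h14/searchcert.py).
-/
import Cfsg.Agent.H14.Local
import Cfsg.Agent.H14.MClasses

set_option autoImplicit false

namespace Cfsg.Agent.H14

def m11_2ACGens : List ℕ := [nat_lit 0x7ba71a9a89bd9ac5aa083c8a110c80, nat_lit 0x995d45a0e9b54907c583536f230440]
def m11_2ACL0 : Lev := ⟨nat_lit 1, nat_lit 0x4215e, (.node (nat_lit 6) (.node (nat_lit 3) (.node (nat_lit 2) (.leaf (nat_lit 0xbdab49ca307b9ac5a928398a418820)) (.leaf (nat_lit 0x995d45a0e9b54907c583536f230440))) (.node (nat_lit 4) (.leaf (nat_lit 0xb55677368c994907c523522e209a40)) (.leaf (nat_lit 0x7ba71a9a89bd9ac5aa083c8a110c80)))) (.node (nat_lit 13) (.node (nat_lit 8) (.leaf (nat_lit 0x5be71b894c2d8d071d32a06a868c80)) (.leaf (nat_lit 0x75ca778d49aac4c9d201892cd448c0))) (.node (nat_lit 18) (.leaf (nat_lit 0xa96d15a0f074c29bd182535e691060))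 (.leaf (nat_lit 0x2daea986295bcd071d92a0aa41b500)))))⟩
def m11_2ACC0 : LevCert := ⟨m11_2ACL0,
    [(nat_lit 4, nat_lit 0), (nat_lit 2, nat_lit 1), (nat_lit 13, nat_lit 1), (nat_lit 3, nat_lit 0), (nat_lit 6, nat_lit 1), (nat_lit 8, nat_lit 1), (nat_lit 18, nat_lit 0)],
    [[nat_lit 2, nat_lit 2], [nat_lit 2, nat_lit 4, nat_lit 2, nat_lit 2, nat_lit 4, nat_lit 2, nat_lit 4, nat_lit 2, nat_lit 2, nat_lit 2]],
    [nat_lit 0x5deb478d4c2ba49b1e068926868820, nat_lit 0xb5dd4799509d4895c5833c8ad40820]⟩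
def m11_2ACL1 : Lev := ⟨nat_lit 3, nat_lit 0x42158, (.node (nat_lit 8) (.node (nat_lit 4) (.leaf (nat_lit 0xbdab49ca307b9ac5a928398a418820)) (.node (nat_lit 6) (.leaf (nat_lit 0x5d9d49a2292d4ccb9e12535e320820)) (.leaf (nat_lit 0xbadd4290ec7d510b292d88e7230820)))) (.node (nat_lit 13) (.leaf (nat_lit 0xb5dd4799509d4895c5833c8ad40820)) (.node (nat_lit 18) (.leaf (nat_lit 0xb2eb42b4e99b870bc584521e690820)) (.leaf (nat_lit 0x5deb478d4c2ba49b1e068926868820)))))⟩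
def m11_2ACC1 : LevCert := ⟨m11_2ACL1,
    [(nat_lit 18, nat_lit 0), (nat_lit 8, nat_lit 1), (nat_lit 13, nat_lit 0), (nat_lit 6, nat_lit 1), (nat_lit 4, nat_lit 0)],
    [],
    []⟩
def m11_2AC : List LevCert := [m11_2ACC0, m11_2ACC1]
def m11_2ACL : List Lev := [m11_2ACL0, m11_2ACL1]
def m11_2AQGens : List ℕ := [nat_lit 0x2d671736905d8ccb9d32521e111060, nat_lit 0xaadea290f075c4c9d12188ec6921a0]
def m11_2AQL0 : Lev := ⟨nat_lit 1, nat_lit 0x4215e, (.node (nat_lit 6) (.node (nat_lit 3) (.node (nat_lit 2) (.leaf (nat_lit 0xbdab49ca307b9ac5a928398a418820)) (.leaf (nat_lit 0x7cdd4b1a30bd50c2a92d3c96320440))) (.node (nat_lit 4) (.leaf (nat_lit 0x5bad1aa2902ce4c79d26536e208c80)) (.leaf (nat_lit 0x2d671736905d8ccb9d32521e111060)))) (.node (nat_lit 13) (.node (nat_lit 8) (.leaf (nat_lit 0xb3ca7b89509ac6cac524a05cd41a40)) (.leaf (nat_lit 0xaadea290f075c4c9d12188ec6921a0))) (.node (nat_lit 18) (.leaf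 (nat_lit 0x716ea58cf0abc2cb51228927233500)) (.leaf (nat_lit 0x9dd6778550b148c74523a0aa86c8c0)))))⟩
def m11_2AQC0 : LevCert := ⟨m11_2AQL0,
    [(nat_lit 4, nat_lit 0), (nat_lit 8, nat_lit 1), (nat_lit 2, nat_lit 0), (nat_lit 18, nat_lit 1), (nat_lit 6, nat_lit 0), (nat_lit 3, nat_lit 0), (nat_lit 13, nat_lit 1)],
    [],
    []⟩
def m11_2AQ : List LevCert := [m11_2AQC0]
def m11_2AQL : List Lev := [m11_2AQL0]
theorem m11_2A_mem : m11_2A ∈ m11Cl := by simp [m11Cl]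
theorem m11_2AC_ok : centOK (nat_lit 5) (nat_lit 32) (nat_lit 24) m12CertL.tail [m11_2A.X] m11_2AC m11_2ACGens = true := by
  decide +kernel
theorem m11_2AQ_ok : charPOK (nat_lit 5) (nat_lit 32) (nat_lit 24) m12CertL.tail (nat_lit 1) (m11_2AC.map LevCert.L) m11_2ACGens
    m11_2AQ m11_2AQGens = true := by decide +kernel
/-- chain and generators of the centraliser of the involution `m11_2A` -/
theorem m11_2AC_spec : GE.IsChain (m11_2AC.map LevCert.L) (Spor.M11 ⊓ Subgroup.centralizer {GE.perm m11_2A.X}) ∧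
    Spor.M11 ⊓ Subgroup.centralizer {GE.perm m11_2A.X} = GE.grp m11_2ACGens :=
  m11_chain.of_centOK m11_2AC_ok (by simp [m11_classes.pk_perm m11_2A_mem])
    (by rw [m11_classes.card _ m11_2A_mem]; decide +kernel)
/-- a normal 2-subgroup of the centraliser containing its own centraliser -/
theorem m11_2AQ_spec : type_of% (m11_chain.of_charPOK fixes_M11 m11_2AC_spec.1 m11_2AC_spec.2 m11_2AQ_ok) :=
  m11_chain.of_charPOK fixes_M11 m11_2AC_spec.1 m11_2AC_spec.2 m11_2AQ_ok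
theorem m11_2AQ_card : Nat.card (GE.grp m11_2AQGens) = 2 ^ 3 := by rw [m11_2AQ_spec.1.card]; decide +kernel

def m12_2BCGens : List ℕ := [nat_lit 0x2d9f3aa1d2a5e045a8cd3a62c00462, nat_lit 0x53ab3a40e87de402ac8db322132462]
def m12_2BCL0 : Lev := ⟨nat_lit 0, nat_lit 0x125f, (.node (nat_lit 4) (.node (nat_lit 2) (.node (nat_lit 1) (.leaf (nat_lit 0xbdab49ca307b9ac5a928398a418820)) (.leaf (nat_lit 0x8da957b6e89964c5a930399c410c01))) (.node (nat_lit 3) (.leaf (nat_lit 0x75a6fa40adac5045a8d23a6ec08043)) (.leaf (nat_lit 0x2d9f3aa1d2a5e045a8cd3a62c00462)))) (.node (nat_lit 9) (.node (nat_lit 6) (.leaf (nat_lit 0x8b9f4ab6f09a9012ad92b10e010cc9)) (.leaf (nat_lit 0x5deb49a2cd7aa0289432700e3610c9))) (.node (nat_lit 12) (.leaf (nat_lit 0x5a9f5a42d29c5a939408706e623043)) (.leaf (nat_lit 0x53ab3a40e87de402ac8db322132462)))))⟩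
def m12_2BCC0 : LevCert := ⟨m12_2BCL0,
    [(nat_lit 3, nat_lit 0), (nat_lit 12, nat_lit 1), (nat_lit 1, nat_lit 0), (nat_lit 4, nat_lit 0), (nat_lit 6, nat_lit 1), (nat_lit 2, nat_lit 0), (nat_lit 9, nat_lit 1)],
    [[nat_lit 0, nat_lit 0, nat_lit 0, nat_lit 2], [nat_lit 4, nat_lit 4, nat_lit 2, nat_lit 4, nat_lit 2]],
    [nat_lit 0x546747b4f2aba03bad88b10a249820, nat_lit 0x52e937b4e8a960cb4472b89c432420]⟩
def m12_2BCL1 : Lev := ⟨nat_lit 2, nat_lit 0x125c, (.node (nat_lit 6) (.node (nat_lit 3) (.leaf (nat_lit 0xbdab49ca307b9ac5a928398a418820)) (.node (nat_lit 4) (.leaf (nat_lit 0x8da6fac2f2a390c59ccd524a410c20)) (.leaf (nat_lit 0x546747b4f2aba03bad88b10a249820)))) (.node (nat_lit 9) (.leaf (nat_lit 0x52e937b4e8a960cb4472b89c432420)) (.node (nat_lit 12) (.leaf (nat_lit 0x3adf5a214d9964cb5c5088dc449820)) (.leaf (nat_lit 0x3deafa21509ba428ad8db10a332420)))))⟩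
def m12_2BCC1 : LevCert := ⟨m12_2BCL1,
    [(nat_lit 4, nat_lit 0), (nat_lit 6, nat_lit 1), (nat_lit 3, nat_lit 1), (nat_lit 12, nat_lit 0), (nat_lit 9, nat_lit 1)],
    [[nat_lit 2, nat_lit 2, nat_lit 0, nat_lit 0, nat_lit 2, nat_lit 0, nat_lit 0, nat_lit 0], [nat_lit 2, nat_lit 4, nat_lit 4, nat_lit 2, nat_lit 2]],
    [nat_lit 0x89df3ac2eda150655992591c918820, nat_lit 0xbae957b6289ba44b1cd0524ac18820]⟩
def m12_2BCL2 : Lev := ⟨nat_lit 4, nat_lit 0x1250, (.node (nat_lit 9) (.node (nat_lit 6) (.leaf (nat_lit 0xbdab49ca307b9ac5a928398a418820)) (.leaf (nat_lit 0x89df3ac2eda150655992591c918820))) (.node (nat_lit 12) (.leaf (nat_lit 0x8aa6fa22f2a96093ac8db31c618820)) (.leaf (nat_lit 0xbae957b6289ba44b1cd0524ac18820))))⟩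
def m12_2BCC2 : LevCert := ⟨m12_2BCL2,
    [(nat_lit 6, nat_lit 0), (nat_lit 12, nat_lit 1), (nat_lit 9, nat_lit 1)],
    [],
    []⟩
def m12_2BC : List LevCert := [m12_2BCC0, m12_2BCC1, m12_2BCC2]
def m12_2BCL : List Lev := [m12_2BCL0, m12_2BCL1, m12_2BCL2]
def m12_2BQGens : List ℕ := [nat_lit 0x8da6fac2f2a390c59ccd524a410c20, nat_lit 0x2aa6faa1cda46063d8925b2e908062, nat_lit 0xb5e957c17299d028942d7014323126, nat_lit 0xbd9f3a222da960c59cd2525c418801]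
def m12_2BQL0 : Lev := ⟨nat_lit 2, nat_lit 0x125f, (.node (nat_lit 4) (.node (nat_lit 2) (.node (nat_lit 1) (.leaf (nat_lit 0x2aa6faa1cda46063d8925b2e908062)) (.leaf (nat_lit 0x29eb49b5c87de49558905b22608043))) (.node (nat_lit 3) (.leaf (nat_lit 0xbdab49ca307b9ac5a928398a418820)) (.leaf (nat_lit 0x8da6fac2f2a390c59ccd524a410c20)))) (.node (nat_lit 9) (.node (nat_lit 6) (.leaf (nat_lit 0xb45f3a4970aa9a3b9428700e2230c9)) (.leaf (nat_lit 0x515f3a34e8aae4075c7088ac14988c))) (.node (nat_lit 12) (.leaf (nat_lit 0x396957a14d9ae0074452b8ec13248c)) (.leaf (nat_lit 0xb5e957c17299d028942d7014323126)))))⟩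
def m12_2BQC0 : LevCert := ⟨m12_2BQL0,
    [(nat_lit 3, nat_lit 0), (nat_lit 0, nat_lit 1), (nat_lit 12, nat_lit 2), (nat_lit 1, nat_lit 1), (nat_lit 4, nat_lit 2), (nat_lit 6, nat_lit 2), (nat_lit 9, nat_lit 2)],
    [[nat_lit 0, nat_lit 2, nat_lit 6, nat_lit 2, nat_lit 4, nat_lit 4, nat_lit 0, nat_lit 0], [nat_lit 2, nat_lit 4, nat_lit 2, nat_lit 4, nat_lit 2]],
    [nat_lit 0xbae957b6289ba44b1cd0524ac18820, nat_lit 0xbae6fac232a1504b292d399cc18801]⟩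
def m12_2BQL1 : Lev := ⟨nat_lit 0, nat_lit 3, (.node (nat_lit 1) (.leaf (nat_lit 0xbdab49ca307b9ac5a928398a418820)) (.leaf (nat_lit 0xbae6fac232a1504b292d399cc18801)))⟩
def m12_2BQC1 : LevCert := ⟨m12_2BQL1,
    [(nat_lit 1, nat_lit 1)],
    [[nat_lit 2, nat_lit 2, nat_lit 2, nat_lit 0, nat_lit 0, nat_lit 2, nat_lit 0]],
    [nat_lit 0xbae957b6289ba44b1cd0524ac18820]⟩
def m12_2BQL2 : Lev := ⟨nat_lit 4, nat_lit 0x1010, (.node (nat_lit 12) (.leaf (nat_lit 0xbdab49ca307b9ac5a928398a418820)) (.leaf (nat_lit 0xbae957b6289ba44b1cd0524ac18820)))⟩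
def m12_2BQC2 : LevCert := ⟨m12_2BQL2,
    [(nat_lit 12, nat_lit 0)],
    [],
    []⟩
def m12_2BQ : List LevCert := [m12_2BQC0, m12_2BQC1, m12_2BQC2]
def m12_2BQL : List Lev := [m12_2BQL0, m12_2BQL1, m12_2BQL2]
theorem m12_2B_mem : m12_2B ∈ m12Cl := by simp [m12Cl]
theorem m12_2BC_ok : centOK (nat_lit 5) (nat_lit 32) (nat_lit 24) m12CertL [m12_2B.X] m12_2BC m12_2BCGens = true := by
  decide +kernel
theorem m12_2BQ_ok : charPOK (nat_lit 5) (nat_lit 32) (nat_lit 24) m12CertL (nat_lit 0) (m12_2BC.map LevCert.L) m12_2BCGens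
    m12_2BQ m12_2BQGens = true := by decide +kernel
/-- chain and generators of the centraliser of the involution `m12_2B` -/
theorem m12_2BC_spec : GE.IsChain (m12_2BC.map LevCert.L) (Spor.M12 ⊓ Subgroup.centralizer {GE.perm m12_2B.X}) ∧
    Spor.M12 ⊓ Subgroup.centralizer {GE.perm m12_2B.X} = GE.grp m12_2BCGens :=
  m12_chain.of_centOK m12_2BC_ok (by simp [m12_classes.pk_perm m12_2B_mem])
    (by rw [m12_classes.card _ m12_2B_mem]; decide +kernel)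
/-- a normal 2-subgroup of the centraliser containing its own centraliser -/
theorem m12_2BQ_spec : type_of% (m12_chain.of_charPOK (GE.fixes_zero _) m12_2BC_spec.1 m12_2BC_spec.2 m12_2BQ_ok) :=
  m12_chain.of_charPOK (GE.fixes_zero _) m12_2BC_spec.1 m12_2BC_spec.2 m12_2BQ_ok
theorem m12_2BQ_card : Nat.card (GE.grp m12_2BQGens) = 2 ^ 5 := by rw [m12_2BQ_spec.1.card]; decide +kernel

def m22_2ACGens : List ℕ := [nat_lit 0xbd6491360324ecea44c742caf53020, nat_lit 0xb8d82ab6c9452513394522de19c0e0]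
def m22_2ACL0 : Lev := ⟨nat_lit 2, nat_lit 0x7f7e4c, (.node (nat_lit 14) (.node (nat_lit 10) (.node (nat_lit 6) (.node (nat_lit 3) (.leaf (nat_lit 0xbdab49ca307b9ac5a928398a418820)) (.leaf (nat_lit 0xba9cc95aa63a5b05ce257d08110d00))) (.node (nat_lit 9) (.leaf (nat_lit 0xbb64b88e6e44195524c5209e1b50e0)) (.leaf (nat_lit 0xbb06a9da302bab24984f0d1076ac80)))) (.node (nat_lit 12) (.node (nat_lit 11) (.leaf (nat_lit 0xbc66e6d64b41ac3a0a05225e1628e0)) (.leaf (nat_lit 0xbb1aa849330d47415964299e8744e0))) (.node (nat_lit 13) (.leaf (nat_lit 0xbb6cb755512324230e87424af84c20)) (.leaf (nat_lit 0xbc1b335a324384c1a961250e54d5e0))))) (.node (nat_lit 19) (.node (nat_lit 17) (.node (nat_lit 16) (.leaf (nat_lit 0xbc9a66586a78ab34c1683d0a48b820)) (.leaf (nat_lit 0xbbad11b4c20c9496568f2ac879c100))) (.node (nat_lit 18) (.leaf (nat_lit 0xbd9b48285338dd2899657b081aa500)) (.leaf (nat_lit 0xbb6cba8a4929a0e9c68408ce8531e0))))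 (.node (nat_lit 21) (.node (nat_lit 20) (.leaf (nat_lit 0xbd6491360324ecea44c742caf53020)) (.leaf (nat_lit 0xb8d82ab6c9452513394522de19c0e0))) (.node (nat_lit 22) (.leaf (nat_lit 0xbc053b49b43aeaa4b0657988174500)) (.leaf (nat_lit 0xb8a03735512b2d5a26640ace8919e0))))))⟩
def m22_2ACC0 : LevCert := ⟨m22_2ACL0,
    [(nat_lit 19, nat_lit 0), (nat_lit 20, nat_lit 1), (nat_lit 14, nat_lit 0), (nat_lit 3, nat_lit 1), (nat_lit 11, nat_lit 0), (nat_lit 12, nat_lit 0), (nat_lit 10, nat_lit 1), (nat_lit 16, nat_lit 0), (nat_lit 22, nat_lit 1), (nat_lit 6, nat_lit 0), (nat_lit 21, nat_lit 1), (nat_lit 9, nat_lit 1), (nat_lit 17, nat_lit 0), (nat_lit 13, nat_lit 0), (nat_lit 18, nat_lit 0)],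
    [[nat_lit 0, nat_lit 2, nat_lit 2, nat_lit 2, nat_lit 2, nat_lit 0], [nat_lit 2, nat_lit 2, nat_lit 4, nat_lit 4, nat_lit 2, nat_lit 4, nat_lit 4, nat_lit 2, nat_lit 2, nat_lit 4]],
    [nat_lit 0xba9ac9d9300d5c68c96f2d08718900, nat_lit 0xb99d2642aa3a5766d2217cd0518880]⟩
def m22_2ACL1 : Lev := ⟨nat_lit 1, nat_lit 0x81b2, (.node (nat_lit 7) (.node (nat_lit 4) (.leaf (nat_lit 0xbdab49ca307b9ac5a928398a418820)) (.node (nat_lit 5) (.leaf (nat_lit 0xbb22a351323d5736c1c57d88118900)) (.leaf (nat_lit 0xbcd30b29d47c5a65caa43b028188a0)))) (.node (nat_lit 8) (.leaf (nat_lit 0xbd2b6341b22ae2a731280cde4188e0)) (.node (nat_lit 15) (.leaf (nat_lit 0xb99d2642aa3a5766d2217cd0518880)) (.leaf (nat_lit 0xba9ac9d9300d5c68c96f2d08718900)))))⟩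
def m22_2ACC1 : LevCert := ⟨m22_2ACL1,
    [(nat_lit 15, nat_lit 0), (nat_lit 8, nat_lit 1), (nat_lit 7, nat_lit 1), (nat_lit 5, nat_lit 1), (nat_lit 4, nat_lit 0)],
    [[nat_lit 0, nat_lit 2, nat_lit 0, nat_lit 0, nat_lit 2, nat_lit 2], [nat_lit 2, nat_lit 2, nat_lit 2, nat_lit 4, nat_lit 2]],
    [nat_lit 0xb99b28523343aaa4b16f258a718820, nat_lit 0xbd17661a2a23933ac1a7448af18820]⟩
def m22_2ACL2 : Lev := ⟨nat_lit 4, nat_lit 0x8190, (.node (nat_lit 8) (.node (nat_lit 7) (.leaf (nat_lit 0xbdab49ca307b9ac5a928398a418820)) (.leaf (nat_lit 0xb99b28523343aaa4b16f258a718820))) (.node (nat_lit 15) (.leaf (nat_lit 0xbc92655a2c3b9706cea47d0a818820)) (.leaf (nat_lit 0xbd17661a2a23933ac1a7448af18820))))⟩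
def m22_2ACC2 : LevCert := ⟨m22_2ACL2,
    [(nat_lit 7, nat_lit 0), (nat_lit 15, nat_lit 1), (nat_lit 8, nat_lit 1)],
    [],
    []⟩
def m22_2AC : List LevCert := [m22_2ACC0, m22_2ACC1, m22_2ACC2]
def m22_2ACL : List Lev := [m22_2ACL0, m22_2ACL1, m22_2ACL2]
def m22_2AQGens : List ℕ := [nat_lit 0xb9ab2651ca3c5b35c1247d8a810c20, nat_lit 0xbd6c98b66e7c24330a883aca462820, nat_lit 0xbcd30b29d47c5a65caa43b028188a0]
def m22_2AQL0 : Lev := ⟨nat_lit 2, nat_lit 0x7f7e4c, (.node (nat_lit 14) (.node (nat_lit 10) (.node (nat_lit 6) (.node (nat_lit 3) (.leaf (nat_lit 0xbdab49ca307b9ac5a928398a418820)) (.leaf (nat_lit 0xb9ab2651ca3c5b35c1247d8a810c20))) (.node (nat_lit 9) (.leaf (nat_lit 0xbba51a8d493b28bb34c8788249c0a0)) (.leaf (nat_lit 0xbd0769c9703b5ca8b04879824aa4a0)))) (.node (nat_lit 12) (.node (nat_lit 11) (.leaf (nat_lit 0xbd6c98b66e7c24330a883aca462820)) (.leaf (nat_lit 0xbc9c6552ac3a473142287d8245b4a0)))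 (.node (nat_lit 13) (.leaf (nat_lit 0xbd4c9735913aa82b0e447aca89c020)) (.leaf (nat_lit 0xbd23684ab37a44c1a9c4398285b4a0))))) (.node (nat_lit 19) (.node (nat_lit 17) (.node (nat_lit 16) (.leaf (nat_lit 0xbd974848733892aab1a4798a88b820)) (.leaf (nat_lit 0xbaecd1a6023ce5133a847d4a853020))) (.node (nat_lit 18) (.leaf (nat_lit 0xb99725504c78d30acda83d8a474420)) (.leaf (nat_lit 0xbc68ea8a097ce4b336c438c28628a0)))) (.node (nat_lit 21) (.node (nat_lit 20) (.leaf (nat_lit 0xbaccd125437b28eb46483d4a484c20)) (.leaf (nat_lit 0xb8e825ba6d3c255326c87c424530a0))) (.node (nat_lit 22) (.leaf (nat_lit 0xbc8466516a7b63074c643d828aa4a0)) (.leaf (nat_lit 0xb8a435c58d7aa95b24c43b82884ca0))))))⟩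
def m22_2AQC0 : LevCert := ⟨m22_2AQL0,
    [(nat_lit 3, nat_lit 0), (nat_lit 10, nat_lit 1), (nat_lit 12, nat_lit 1), (nat_lit 16, nat_lit 0), (nat_lit 18, nat_lit 2), (nat_lit 19, nat_lit 0), (nat_lit 6, nat_lit 2), (nat_lit 14, nat_lit 1), (nat_lit 20, nat_lit 2), (nat_lit 13, nat_lit 1), (nat_lit 17, nat_lit 1), (nat_lit 22, nat_lit 2), (nat_lit 11, nat_lit 1), (nat_lit 9, nat_lit 1), (nat_lit 21, nat_lit 1)],
    [[nat_lit 2, nat_lit 4, nat_lit 2, nat_lit 4, nat_lit 2, nat_lit 4, nat_lit 2], [nat_lit 2, nat_lit 4, nat_lit 2, nat_lit 6, nat_lit 4, nat_lit 6, nat_lit 4, nat_lit 6, nat_lit 2, nat_lit 4, nat_lit 6]],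
    [nat_lit 0xbcd30b29d47c5a65caa43b028188a0, nat_lit 0xbc92655a2c3b9706cea47d0a818820]⟩
def m22_2AQL1 : Lev := ⟨nat_lit 1, nat_lit 34, (.node (nat_lit 5) (.leaf (nat_lit 0xbdab49ca307b9ac5a928398a418820)) (.leaf (nat_lit 0xbcd30b29d47c5a65caa43b028188a0)))⟩
def m22_2AQC1 : LevCert := ⟨m22_2AQL1,
    [(nat_lit 5, nat_lit 0)],
    [[nat_lit 0, nat_lit 0, nat_lit 0, nat_lit 2, nat_lit 0]],
    [nat_lit 0xbc92655a2c3b9706cea47d0a818820]⟩
def m22_2AQL2 : Lev := ⟨nat_lit 4, nat_lit 272, (.node (nat_lit 8) (.leaf (nat_lit 0xbdab49ca307b9ac5a928398a418820)) (.leaf (nat_lit 0xbc92655a2c3b9706cea47d0a818820)))⟩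
def m22_2AQC2 : LevCert := ⟨m22_2AQL2,
    [(nat_lit 8, nat_lit 0)],
    [],
    []⟩
def m22_2AQ : List LevCert := [m22_2AQC0, m22_2AQC1, m22_2AQC2]
def m22_2AQL : List Lev := [m22_2AQL0, m22_2AQL1, m22_2AQL2]
theorem m22_2A_mem : m22_2A ∈ m22Cl := by simp [m22Cl]
theorem m22_2AC_ok : centOK (nat_lit 5) (nat_lit 32) (nat_lit 24) m24CertL.tail.tail [m22_2A.X] m22_2AC m22_2ACGens = true := by
  decide +kernel
theorem m22_2AQ_ok : charPOK (nat_lit 5) (nat_lit 32) (nat_lit 24) m24CertL.tail.tail (nat_lit 8388609) (m22_2AC.map LevCert.L) m22_2ACGens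
    m22_2AQ m22_2AQGens = true := by decide +kernel
/-- chain and generators of the centraliser of the involution `m22_2A` -/
theorem m22_2AC_spec : GE.IsChain (m22_2AC.map LevCert.L) (Spor.M22 ⊓ Subgroup.centralizer {GE.perm m22_2A.X}) ∧
    Spor.M22 ⊓ Subgroup.centralizer {GE.perm m22_2A.X} = GE.grp m22_2ACGens :=
  m22_chain.of_centOK m22_2AC_ok (by simp [m22_classes.pk_perm m22_2A_mem])
    (by rw [m22_classes.card _ m22_2A_mem]; decide +kernel)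
/-- a normal 2-subgroup of the centraliser containing its own centraliser -/
theorem m22_2AQ_spec : type_of% (m22_chain.of_charPOK fixes_M22 m22_2AC_spec.1 m22_2AC_spec.2 m22_2AQ_ok) :=
  m22_chain.of_charPOK fixes_M22 m22_2AC_spec.1 m22_2AC_spec.2 m22_2AQ_ok
theorem m22_2AQ_card : Nat.card (GE.grp m22_2AQGens) = 2 ^ 6 := by rw [m22_2AQ_spec.1.card]; decide +kernel

def m23_2ACGens : List ℕ := [nat_lit 0xb817015883a3a670c64d6554543d26, nat_lit 0xbb422980b07c467a32a8549c4b2d26]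
def m23_2ACL0 : Lev := ⟨nat_lit 0, nat_lit 0x7dab4f, (.node (nat_lit 13) (.node (nat_lit 6) (.node (nat_lit 2) (.node (nat_lit 1) (.leaf (nat_lit 0xbdab49ca307b9ac5a928398a418820)) (.leaf (nat_lit 0xbc936799c884567a91b3550ac18801))) (.node (nat_lit 3) (.leaf (nat_lit 0xbbdb015083b326742aab74a25080c9)) (.leaf (nat_lit 0xbcd2f11943a110c81d6d8d9c500655)))) (.node (nat_lit 9) (.node (nat_lit 8) (.leaf (nat_lit 0xb8d2b999d0796ca11c28602246d2b2)) (.leaf (nat_lit 0xbd9e3820b30a8475baa08c9846d126))) (.node (nat_lit 11) (.leaf (nat_lit 0xb9a905b4961466a494033858e43eb2)) (.leaf (nat_lit 0xb86a814983b45ea038cb3a4859c1b4))))) (.node (nat_lit 19) (.node (nat_lit 16) (.node (nat_lit 15) (.leaf (nat_lit 0xba241155c3a28117b12d398859c176)) (.leaf (nat_lit 0xba56d7d8e80129133aa1648aa10e70))) (.node (nat_lit 18) (.leaf (nat_lit 0xbd6030cca079051928c8624ee6d176)) (.leaf (nat_lit 0xbb422980b07c467a32a8549c4b2d26))))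 (.node (nat_lit 21) (.node (nat_lit 20) (.leaf (nat_lit 0xba50303ca18304e312933b5515dab2)) (.leaf (nat_lit 0xbda40a55cd1902c596628c14743cc9))) (.node (nat_lit 22) (.leaf (nat_lit 0xbac02784a88386ab1d3321a2c955b4)) (.leaf (nat_lit 0xb817015883a3a670c64d6554543d26))))))⟩
def m23_2ACC0 : LevCert := ⟨m23_2ACL0,
    [(nat_lit 22, nat_lit 0), (nat_lit 18, nat_lit 1), (nat_lit 3, nat_lit 1), (nat_lit 9, nat_lit 0), (nat_lit 6, nat_lit 1), (nat_lit 16, nat_lit 0), (nat_lit 13, nat_lit 1), (nat_lit 1, nat_lit 0), (nat_lit 20, nat_lit 0), (nat_lit 8, nat_lit 0), (nat_lit 11, nat_lit 0), (nat_lit 21, nat_lit 1), (nat_lit 15, nat_lit 0), (nat_lit 2, nat_lit 1), (nat_lit 19, nat_lit 0)],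
    [[nat_lit 2, nat_lit 0, nat_lit 2, nat_lit 2, nat_lit 0, nat_lit 0], [nat_lit 4, nat_lit 4, nat_lit 2]],
    [nat_lit 0xbca9313483b3205ab90b53e2732420, nat_lit 0xbc850a0c8d5966cab8d6524f143c20]⟩
def m23_2ACL1 : Lev := ⟨nat_lit 2, nat_lit 0x7dab4c, (.node (nat_lit 15) (.node (nat_lit 8) (.node (nat_lit 3) (.leaf (nat_lit 0xbdab49ca307b9ac5a928398a418820)) (.node (nat_lit 6) (.leaf (nat_lit 0xbb6c97adc8844c4a1e53654aa10c20)) (.leaf (nat_lit 0xba51493e3599dae3107060945b2c20)))) (.node (nat_lit 11) (.node (nat_lit 9) (.leaf (nat_lit 0xbce8f3354919d04832a22ca2e5d820)) (.leaf (nat_lit 0xbb5e6b21cb99131a1c5060d4595420))) (.node (nat_lit 13) (.leaf (nat_lit 0xb8e147ce28931a7116d572c8a49820)) (.leaf (nat_lit 0xbb523998f0ac445a31f2721445d820))))) (.node (nat_lit 19) (.node (nat_lit 16) (.leaf (nat_lit 0xbccc8a254d111e7831632d9d1ac820)) (.node (nat_lit 18) (.leaf (nat_lit 0xb9ad01ac82a2a654c50d63dc795420))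 (.leaf (nat_lit 0xb9873b088b6960a4c654654ee43c20)))) (.node (nat_lit 21) (.node (nat_lit 20) (.leaf (nat_lit 0xbca9313483b3205ab90b53e2732420)) (.leaf (nat_lit 0xbb6624c0e691471a31757588a7a020))) (.node (nat_lit 22) (.leaf (nat_lit 0xbc850a0c8d5966cab8d6524f143c20)) (.leaf (nat_lit 0xb8a767c1c832967196898b48cac820))))))⟩
def m23_2ACC1 : LevCert := ⟨m23_2ACL1,
    [(nat_lit 19, nat_lit 0), (nat_lit 21, nat_lit 1), (nat_lit 20, nat_lit 0), (nat_lit 13, nat_lit 1), (nat_lit 11, nat_lit 0), (nat_lit 18, nat_lit 0), (nat_lit 16, nat_lit 1), (nat_lit 8, nat_lit 0), (nat_lit 15, nat_lit 1), (nat_lit 22, nat_lit 0), (nat_lit 9, nat_lit 0), (nat_lit 3, nat_lit 1), (nat_lit 6, nat_lit 0)],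
    [[nat_lit 0, nat_lit 0, nat_lit 2, nat_lit 2, nat_lit 0, nat_lit 0, nat_lit 0, nat_lit 2], [nat_lit 2, nat_lit 4, nat_lit 2, nat_lit 2, nat_lit 2, nat_lit 4]],
    [nat_lit 0xbb5135bdd63160aa1ea964a2418820, nat_lit 0xbae957b6289ba44b1cd0524ac18820]⟩
def m23_2ACL2 : Lev := ⟨nat_lit 5, nat_lit 0x24020, (.node (nat_lit 14) (.leaf (nat_lit 0xbdab49ca307b9ac5a928398a418820)) (.node (nat_lit 17) (.leaf (nat_lit 0xbb5135bdd63160aa1ea964a2418820)) (.leaf (nat_lit 0xbc12ba18ad946c79b11553dc418820))))⟩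
def m23_2ACC2 : LevCert := ⟨m23_2ACL2,
    [(nat_lit 14, nat_lit 0), (nat_lit 17, nat_lit 0)],
    [[nat_lit 2, nat_lit 2, nat_lit 0, nat_lit 2, nat_lit 0, nat_lit 0], [nat_lit 2, nat_lit 2, nat_lit 4, nat_lit 2, nat_lit 4, nat_lit 2, nat_lit 4, nat_lit 2, nat_lit 4, nat_lit 2]],
    [nat_lit 0xba64d4562f83a87312d362caa18820, nat_lit 0xb99b28523343aaa4b16f258a718820]⟩
def m23_2ACL3 : Lev := ⟨nat_lit 4, nat_lit 0x1490, (.node (nat_lit 10) (.node (nat_lit 7) (.leaf (nat_lit 0xbdab49ca307b9ac5a928398a418820)) (.leaf (nat_lit 0xb99b28523343aaa4b16f258a718820))) (.node (nat_lit 12) (.leaf (nat_lit 0xba64d4562f83a87312d362caa18820)) (.leaf (nat_lit 0xbae957b6289ba44b1cd0524ac18820))))⟩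
def m23_2ACC3 : LevCert := ⟨m23_2ACL3,
    [(nat_lit 10, nat_lit 0), (nat_lit 7, nat_lit 1), (nat_lit 12, nat_lit 1)],
    [],
    []⟩
def m23_2AC : List LevCert := [m23_2ACC0, m23_2ACC1, m23_2ACC2, m23_2ACC3]
def m23_2ACL : List Lev := [m23_2ACL0, m23_2ACL1, m23_2ACL2, m23_2ACL3]
def m23_2AQGens : List ℕ := [nat_lit 0xb9a954362f83a4c4a9733d8a400443, nat_lit 0xbae4d8563343a8cb28cf3a4a410c01, nat_lit 0xb8d13a3e2d93a0c12835380a4b2d26, nat_lit 0xbc9690da201b8ccaaa823b4a47a270]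
def m23_2AQL0 : Lev := ⟨nat_lit 0, nat_lit 0x7dab4f, (.node (nat_lit 13) (.node (nat_lit 6) (.node (nat_lit 2) (.node (nat_lit 1) (.leaf (nat_lit 0xbdab49ca307b9ac5a928398a418820)) (.leaf (nat_lit 0xbae4d8563343a8cb28cf3a4a410c01))) (.node (nat_lit 3) (.leaf (nat_lit 0xba5b27d2289baac32ad03aca408062)) (.leaf (nat_lit 0xb9a954362f83a4c4a9733d8a400443)))) (.node (nat_lit 9) (.node (nat_lit 8) (.leaf (nat_lit 0xb8d13a3e2d93a0c12835380a4b2d26)) (.leaf (nat_lit 0xbd0d61a6220b96c6aa403d4a49c1e8))) (.node (nat_lit 11) (.leaf (nat_lit 0xb89f06a234aba6c1a812384a45d8c9)) (.leaf (nat_lit 0xb860f94e35a390c0286d388a449acb))))) (.node (nat_lit 19) (.node (nat_lit 16) (.node (nat_lit 15) (.leaf (nat_lit 0xbbc4148e26b380c42a6b3c0a49568d)) (.leaf (nat_lit 0xbb52b11a2303acca2aa13c8a484d0f))) (.node (nat_lit 18) (.leaf (nat_lit 0xbc9690da201b8ccaaa823b4a47a270)) (.leaf (nat_lit 0xbc022582363386c9a9093bca46d2b2))))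 (.node (nat_lit 21) (.node (nat_lit 20) (.leaf (nat_lit 0xbd6c602e211392c929a33d0a443e13)) (.leaf (nat_lit 0xba06030a295b82c7aa163cca4ac9b4))) (.node (nat_lit 22) (.leaf (nat_lit 0xbcc03b062b4b84c829e63a0a4a3655)) (.leaf (nat_lit 0xb8268ac2326b9ec0a85438ca432576))))))⟩
def m23_2AQC0 : LevCert := ⟨m23_2AQL0,
    [(nat_lit 3, nat_lit 0), (nat_lit 1, nat_lit 1), (nat_lit 6, nat_lit 2), (nat_lit 16, nat_lit 3), (nat_lit 2, nat_lit 1), (nat_lit 22, nat_lit 2), (nat_lit 15, nat_lit 3), (nat_lit 9, nat_lit 2), (nat_lit 19, nat_lit 3), (nat_lit 13, nat_lit 3), (nat_lit 11, nat_lit 2), (nat_lit 8, nat_lit 3), (nat_lit 18, nat_lit 3), (nat_lit 20, nat_lit 3), (nat_lit 21, nat_lit 3)],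
    [],
    []⟩
def m23_2AQ : List LevCert := [m23_2AQC0]
def m23_2AQL : List Lev := [m23_2AQL0]
theorem m23_2A_mem : m23_2A ∈ m23Cl := by simp [m23Cl]
theorem m23_2AC_ok : centOK (nat_lit 5) (nat_lit 32) (nat_lit 24) m24CertL.tail [m23_2A.X] m23_2AC m23_2ACGens = true := by
  decide +kernel
theorem m23_2AQ_ok : charPOK (nat_lit 5) (nat_lit 32) (nat_lit 24) m24CertL.tail (nat_lit 8388608) (m23_2AC.map LevCert.L) m23_2ACGens
    m23_2AQ m23_2AQGens = true := by decide +kernel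
/-- chain and generators of the centraliser of the involution `m23_2A` -/
theorem m23_2AC_spec : GE.IsChain (m23_2AC.map LevCert.L) (Spor.M23 ⊓ Subgroup.centralizer {GE.perm m23_2A.X}) ∧
    Spor.M23 ⊓ Subgroup.centralizer {GE.perm m23_2A.X} = GE.grp m23_2ACGens :=
  m23_chain.of_centOK m23_2AC_ok (by simp [m23_classes.pk_perm m23_2A_mem])
    (by rw [m23_classes.card _ m23_2A_mem]; decide +kernel)
/-- a normal 2-subgroup of the centraliser containing its own centraliser -/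
theorem m23_2AQ_spec : type_of% (m23_chain.of_charPOK fixes_M23 m23_2AC_spec.1 m23_2AC_spec.2 m23_2AQ_ok) :=
  m23_chain.of_charPOK fixes_M23 m23_2AC_spec.1 m23_2AC_spec.2 m23_2AQ_ok
theorem m23_2AQ_card : Nat.card (GE.grp m23_2AQGens) = 2 ^ 4 := by rw [m23_2AQ_spec.1.card]; decide +kernel

def m24_2ACGens : List ℕ := [nat_lit 0x3cd72459cf112a583023b822a6d0c9, nat_lit 0x8d6637c1c80304795d21299445da8d]
def m24_2ACL0 : Lev := ⟨nat_lit 0, nat_lit 0x7dab4f, (.node (nat_lit 13) (.node (nat_lit 6) (.node (nat_lit 2) (.node (nat_lit 1) (.leaf (nat_lit 0xbdab49ca307b9ac5a928398a418820)) (.leaf (nat_lit 0xba2161cc82a2971794cd3a5ccac801))) (.node (nat_lit 3) (.leaf (nat_lit 0x3c296ab4924dd6e9a866608b10810f)) (.leaf (nat_lit 0x221731dae2a3a057c4cd62547006b2)))) (.node (nat_lit 9) (.node (nat_lit 8) (.leaf (nat_lit 0x3cd72459cf112a583023b822a6d0c9)) (.leaf (nat_lit 0x24075a094d0c6479dcc0724ac7a2cb)))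 (.node (nat_lit 11) (.leaf (nat_lit 0x38df36a1549320e14415b84855d926)) (.leaf (nat_lit 0x885155bc961de4e028c22a5879c1b4))))) (.node (nat_lit 19) (.node (nat_lit 16) (.node (nat_lit 15) (.leaf (nat_lit 0xbb5011bca299011a2970658eeac8c9)) (.leaf (nat_lit 0x8d6637c1c80304795d21299445da8d))) (.node (nat_lit 18) (.leaf (nat_lit 0x2be500d580b126a41e8b8b5d710cc9)) (.leaf (nat_lit 0x64822b008b4a871a9686734f743e13)))) (.node (nat_lit 21) (.node (nat_lit 20) (.leaf (nat_lit 0x74deb0218169ec58453451ae495462)) (.leaf (nat_lit 0x75aa0349497dc275c60864c85189b4))) (.node (nat_lit 22) (.leaf (nat_lit 0x63c12684f4116aa43923b9a2484d76)) (.leaf (nat_lit 0x50208a4ceda91f70947270991b2cc9))))))⟩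
def m24_2ACC0 : LevCert := ⟨m24_2ACL0,
    [(nat_lit 6, nat_lit 0), (nat_lit 15, nat_lit 1), (nat_lit 1, nat_lit 0), (nat_lit 16, nat_lit 0), (nat_lit 19, nat_lit 1), (nat_lit 9, nat_lit 0), (nat_lit 8, nat_lit 1), (nat_lit 11, nat_lit 0), (nat_lit 18, nat_lit 1), (nat_lit 22, nat_lit 0), (nat_lit 21, nat_lit 1), (nat_lit 3, nat_lit 1), (nat_lit 20, nat_lit 0), (nat_lit 2, nat_lit 1), (nat_lit 13, nat_lit 0)],
    [[nat_lit 2, nat_lit 2, nat_lit 2, nat_lit 0, nat_lit 2], [nat_lit 2, nat_lit 2, nat_lit 2, nat_lit 4, nat_lit 2]],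
    [nat_lit 0x2a075988904c64c7dd663d94ea3420, nat_lit 0x249144bdc6195b1ade6254187b2c20]⟩
def m24_2ACL1 : Lev := ⟨nat_lit 2, nat_lit 0x7dab4c, (.node (nat_lit 15) (.node (nat_lit 8) (.node (nat_lit 3) (.leaf (nat_lit 0xbdab49ca307b9ac5a928398a418820)) (.node (nat_lit 6) (.leaf (nat_lit 0x3a5b59d150432513396f2d89710c20)) (.leaf (nat_lit 0x635065bcf69c524a3870b88aaac820)))) (.node (nat_lit 11) (.node (nat_lit 9) (.leaf (nat_lit 0x249144bdc6195b1ade6254187b2c20)) (.leaf (nat_lit 0x755eb4a2e69b2c59285020cf1a3420))) (.node (nat_lit 13) (.leaf (nat_lit 0x50d744d986945a511e75241d77a020)) (.leaf (nat_lit 0x51a839b5d05904c495f63a2f1ac820))))) (.node (nat_lit 19) (.node (nat_lit 16) (.leaf (nat_lit 0xbd1f55a1961124a69e637422549820)) (.node (nat_lit 18) (.leaf (nat_lit 0x53e061ce22a952743172758976d020)) (.leaf (nat_lit 0x2a075988904c64c7dd663d94ea3420)))) (.node (nat_lit 21) (.node (nat_lit 20) (.leaf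 (nat_lit 0x8a20b14d83a1ed77b92d518a4ac820)) (.leaf (nat_lit 0x8ae429d5504946eb1d06bbc8ca3420))) (.node (nat_lit 22) (.leaf (nat_lit 0x3bc5498cb0b31ae4112bb9a2a95420)) (.leaf (nat_lit 0x708d55a636a2a441966dbc18743c20))))))⟩
def m24_2ACC1 : LevCert := ⟨m24_2ACL1,
    [(nat_lit 18, nat_lit 0), (nat_lit 8, nat_lit 1), (nat_lit 13, nat_lit 0), (nat_lit 22, nat_lit 1), (nat_lit 21, nat_lit 1), (nat_lit 6, nat_lit 0), (nat_lit 3, nat_lit 1), (nat_lit 20, nat_lit 0), (nat_lit 11, nat_lit 1), (nat_lit 16, nat_lit 1), (nat_lit 15, nat_lit 1), (nat_lit 9, nat_lit 0), (nat_lit 19, nat_lit 1)],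
    [[nat_lit 0, nat_lit 0, nat_lit 2, nat_lit 0, nat_lit 2, nat_lit 2, nat_lit 2, nat_lit 2], [nat_lit 2, nat_lit 4, nat_lit 4, nat_lit 4, nat_lit 2, nat_lit 4, nat_lit 2, nat_lit 2, nat_lit 4, nat_lit 2]],
    [nat_lit 0x648d67a4e89916eac6902b55718820, nat_lit 0x2cec6aaef26b927831f45222418820]⟩
def m24_2ACL2 : Lev := ⟨nat_lit 4, nat_lit 0x8254b0, (.node (nat_lit 12) (.node (nat_lit 7) (.node (nat_lit 5) (.leaf (nat_lit 0xbdab49ca307b9ac5a928398a418820)) (.leaf (nat_lit 0x51913abcf26b2174b9742d89118820))) (.node (nat_lit 10) (.leaf (nat_lit 0x2b6684c226b5de7a2aab249cc18820)) (.leaf (nat_lit 0x8cd2b699d4adeca811f23a0ac18820)))) (.node (nat_lit 17) (.node (nat_lit 14) (.leaf (nat_lit 0x725b29d0b07dea431ec852e2c18820)) (.leaf (nat_lit 0x648d67a4e89916eac6902b55718820))) (.node (nat_lit 23) (.leaf (nat_lit 0x3be955b4963325145e692c14e18820)) (.leaf (nat_lit 0x251697d9489b0d7696508d4ee18820)))))⟩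
def m24_2ACC2 : LevCert := ⟨m24_2ACL2,
    [(nat_lit 14, nat_lit 0), (nat_lit 12, nat_lit 0), (nat_lit 23, nat_lit 0), (nat_lit 10, nat_lit 1), (nat_lit 17, nat_lit 1), (nat_lit 5, nat_lit 0), (nat_lit 7, nat_lit 1)],
    [[nat_lit 0, nat_lit 0, nat_lit 2, nat_lit 2, nat_lit 2, nat_lit 2, nat_lit 2, nat_lit 2, nat_lit 0, nat_lit 0, nat_lit 2], [nat_lit 2, nat_lit 2, nat_lit 4, nat_lit 2, nat_lit 4, nat_lit 2]],
    [nat_lit 0x2cec6aaef26b927831f45222418820, nat_lit 0x2a695835d34464c32acf3aee418820]⟩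
def m24_2ACL3 : Lev := ⟨nat_lit 5, nat_lit 0x824020, (.node (nat_lit 17) (.node (nat_lit 14) (.leaf (nat_lit 0xbdab49ca307b9ac5a928398a418820)) (.leaf (nat_lit 0xbb5135bdd63160aa1ea964a2418820))) (.node (nat_lit 23) (.leaf (nat_lit 0x8d668b40ab4b9ea91da6652e418820)) (.leaf (nat_lit 0x2cec6aaef26b927831f45222418820))))⟩
def m24_2ACC3 : LevCert := ⟨m24_2ACL3,
    [(nat_lit 23, nat_lit 0), (nat_lit 17, nat_lit 0), (nat_lit 14, nat_lit 1)],
    [[nat_lit 2, nat_lit 0, nat_lit 2, nat_lit 0, nat_lit 0, nat_lit 2, nat_lit 0]],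
    [nat_lit 0x8bcd6925d5a5d674326d540a418820]⟩
def m24_2ACL4 : Lev := ⟨nat_lit 6, nat_lit 0x210040, (.node (nat_lit 16) (.leaf (nat_lit 0xbdab49ca307b9ac5a928398a418820)) (.node (nat_lit 21) (.leaf (nat_lit 0x7520f4cee6b450a69e4b654a418820)) (.leaf (nat_lit 0x8bcd6925d5a5d674326d540a418820))))⟩
def m24_2ACC4 : LevCert := ⟨m24_2ACL4,
    [(nat_lit 21, nat_lit 0), (nat_lit 16, nat_lit 0)],
    [],
    []⟩
def m24_2AC : List LevCert := [m24_2ACC0, m24_2ACC1, m24_2ACC2, m24_2ACC3, m24_2ACC4]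
def m24_2ACL : List Lev := [m24_2ACL0, m24_2ACL1, m24_2ACL2, m24_2ACL3, m24_2ACL4]
def m24_2AQGens : List ℕ := [nat_lit 0x3d5660d9401312e94683bb4857a213, nat_lit 0x609f3a208da9e1719432701515d926, nat_lit 0x8da4d856f34168459d2f519cc18820, nat_lit 0x75a4d9d4b07de875912861a2a10c01, nat_lit 0x226927b58882ab1339732d8f708043, nat_lit 0x8c003b06eb4944499d0653dcc6d2b2]
def m24_2AQL0 : Lev := ⟨nat_lit 0, nat_lit 0x7dab4f, (.node (nat_lit 13) (.node (nat_lit 6) (.node (nat_lit 2) (.node (nat_lit 1) (.leaf (nat_lit 0xbdab49ca307b9ac5a928398a418820)) (.leaf (nat_lit 0x75a4d9d4b07de875912861a2a10c01))) (.node (nat_lit 3) (.leaf (nat_lit 0x226927b58882ab1339732d8f708043)) (.leaf (nat_lit 0x525b57d0e88124535d738d98e00462)))) (.node (nat_lit 9) (.node (nat_lit 8) (.leaf (nat_lit 0x609f3a208da9e1719432701515d926)) (.leaf (nat_lit 0x234cb125830aad1a3a402d4f784de8))) (.node (nat_lit 11) (.leaf (nat_lit 0x38df36a1549320e14415b84855d926))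 (.leaf (nat_lit 0x88668ac2f2695e401c74509cc49acb))))) (.node (nat_lit 19) (.node (nat_lit 16) (.node (nat_lit 15) (.leaf (nat_lit 0x7204130ca95dc077921664e2a9568d)) (.leaf (nat_lit 0x2d0d6125c30456a6b241256e784d0f))) (.node (nat_lit 18) (.leaf (nat_lit 0x3d5660d9401312e94683bb4857a213)) (.leaf (nat_lit 0x2c022b01cb4c46a9b10623ee7a3655)))) (.node (nat_lit 21) (.node (nat_lit 20) (.leaf (nat_lit 0x556c902ce1190c595e828b58e7a213)) (.leaf (nat_lit 0x73c60488a6b5c274126b6422aac9b4))) (.node (nat_lit 22) (.leaf (nat_lit 0x8c003b06eb4944499d0653dcc6d2b2)) (.leaf (nat_lit 0x5026fac0f2a11050dc6d8898e49976))))))⟩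
def m24_2AQC0 : LevCert := ⟨m24_2AQL0,
    [(nat_lit 16, nat_lit 0), (nat_lit 6, nat_lit 1), (nat_lit 1, nat_lit 3), (nat_lit 2, nat_lit 4), (nat_lit 21, nat_lit 5), (nat_lit 13, nat_lit 1), (nat_lit 19, nat_lit 2), (nat_lit 15, nat_lit 4), (nat_lit 22, nat_lit 5), (nat_lit 20, nat_lit 0), (nat_lit 11, nat_lit 4), (nat_lit 8, nat_lit 5), (nat_lit 9, nat_lit 1), (nat_lit 3, nat_lit 4), (nat_lit 18, nat_lit 5)],
    [[nat_lit 0, nat_lit 8, nat_lit 10, nat_lit 4, nat_lit 6, nat_lit 0, nat_lit 2, nat_lit 0], [nat_lit 2, nat_lit 4, nat_lit 10, nat_lit 12], [nat_lit 14, nat_lit 6, nat_lit 12, nat_lit 14, nat_lit 8, nat_lit 4, nat_lit 8, nat_lit 4, nat_lit 8, nat_lit 6, nat_lit 12]],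
    [nat_lit 0x22ead849937aa91b3928298f710c20, nat_lit 0x3da54855537b1ae5c4c8ba48510c20, nat_lit 0x8da4d856f34168459d2f519cc18820]⟩
def m24_2AQL1 : Lev := ⟨nat_lit 4, nat_lit 0x8254b0, (.node (nat_lit 12) (.node (nat_lit 7) (.node (nat_lit 5) (.leaf (nat_lit 0xbdab49ca307b9ac5a928398a418820)) (.leaf (nat_lit 0x3da54855537b1ae5c4c8ba48510c20))) (.node (nat_lit 10) (.leaf (nat_lit 0x2ae4d9d5d07c68ab30c8226e718820)) (.leaf (nat_lit 0x72eb4848b345da7b10cf6262a18820)))) (.node (nat_lit 17) (.node (nat_lit 14) (.leaf (nat_lit 0x8da4d856f34168459d2f519cc18820)) (.leaf (nat_lit 0x55aad9c8f0412855dccf8a58e10c20))) (.node (nat_lit 23) (.leaf (nat_lit 0x62e549d49041db7b152f7195110c20)) (.leaf (nat_lit 0x22ead849937aa91b3928298f710c20)))))⟩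
def m24_2AQC1 : LevCert := ⟨m24_2AQL1,
    [(nat_lit 23, nat_lit 0), (nat_lit 5, nat_lit 1), (nat_lit 12, nat_lit 2), (nat_lit 7, nat_lit 1), (nat_lit 17, nat_lit 2), (nat_lit 14, nat_lit 2), (nat_lit 10, nat_lit 2)],
    [],
    []⟩
def m24_2AQ : List LevCert := [m24_2AQC0, m24_2AQC1]
def m24_2AQL : List Lev := [m24_2AQL0, m24_2AQL1]
theorem m24_2A_mem : m24_2A ∈ m24Cl := by simp [m24Cl]
theorem m24_2AC_ok : centOK (nat_lit 5) (nat_lit 32) (nat_lit 24) m24CertL [m24_2A.X] m24_2AC m24_2ACGens = true := by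
  decide +kernel
theorem m24_2AQ_ok : charPOK (nat_lit 5) (nat_lit 32) (nat_lit 24) m24CertL (nat_lit 0) (m24_2AC.map LevCert.L) m24_2ACGens
    m24_2AQ m24_2AQGens = true := by decide +kernel
/-- chain and generators of the centraliser of the involution `m24_2A` -/
theorem m24_2AC_spec : GE.IsChain (m24_2AC.map LevCert.L) (M24 ⊓ Subgroup.centralizer {GE.perm m24_2A.X}) ∧
    M24 ⊓ Subgroup.centralizer {GE.perm m24_2A.X} = GE.grp m24_2ACGens :=
  m24_chain.of_centOK m24_2AC_ok (by simp [m24_classes.pk_perm m24_2A_mem])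
    (by rw [m24_classes.card _ m24_2A_mem]; decide +kernel)
/-- a normal 2-subgroup of the centraliser containing its own centraliser -/
theorem m24_2AQ_spec : type_of% (m24_chain.of_charPOK (GE.fixes_zero _) m24_2AC_spec.1 m24_2AC_spec.2 m24_2AQ_ok) :=
  m24_chain.of_charPOK (GE.fixes_zero _) m24_2AC_spec.1 m24_2AC_spec.2 m24_2AQ_ok
theorem m24_2AQ_card : Nat.card (GE.grp m24_2AQGens) = 2 ^ 7 := by rw [m24_2AQ_spec.1.card]; decide +kernel

def m24_2BCGens : List ℕ := [nat_lit 0x1a1c06dd543a59330aa12156f946d0, nat_lit 0x884952cc541b12083aed5bce692916]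
def m24_2BCL0 : Lev := ⟨nat_lit 0, nat_lit 0xffffff, (.node (nat_lit 12) (.node (nat_lit 6) (.node (nat_lit 3) (.node (nat_lit 1) (.leaf (nat_lit 0xbdab49ca307b9ac5a928398a418820)) (.node (nat_lit 2) (.leaf (nat_lit 0x120e33414c8d24db15c4acdeb4dc01)) (.leaf (nat_lit 0x7246f82d862844825951ace92382ed)))) (.node (nat_lit 4) (.leaf (nat_lit 0x91528628973ceaf3096180ed1039b4)) (.node (nat_lit 5) (.leaf (nat_lit 0x8ccb2252b0139a909d867aee01a916)) (.leaf (nat_lit 0x1cda170aa92ca86244f65bc1762910))))) (.node (nat_lit 9) (.node (nat_lit 7) (.leaf (nat_lit 0x65a50a0e2159cce7a9a8b808515669)) (.node (nat_lit 8) (.leaf (nat_lit 0x5596779a291d2418344e05ca465668)) (.leaf (nat_lit 0x7046c8245699494ade407acc78a90d)))) (.node (nat_lit 10) (.leaf (nat_lit 0x2b635b4dc1798f75a8089507013124)) (.node (nat_lit 11) (.leaf (nat_lit 0x535e659dc49da21a8057a4a032b128)) (.leaf (nat_lit 0x120e933150bb5d405653291eb1c6c1))))))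 (.node (nat_lit 18) (.node (nat_lit 15) (.node (nat_lit 13) (.leaf (nat_lit 0x884952cc541b12083aed5bce692916)) (.node (nat_lit 14) (.leaf (nat_lit 0x935964c5d55dc057a88831e0398834)) (.leaf (nat_lit 0x120c439555902f6a322980d6f9b9a1)))) (.node (nat_lit 16) (.leaf (nat_lit 0x63a88929a70082fbd57321603346c9)) (.node (nat_lit 17) (.leaf (nat_lit 0x9053060c402566d2c5d67acc7ba914)) (.leaf (nat_lit 0x2dec88a806a082b931e91c2b33b9a4))))) (.node (nat_lit 21) (.node (nat_lit 19) (.leaf (nat_lit 0x53577781d48a595b12653987090828)) (.node (nat_lit 20) (.leaf (nat_lit 0x9a2f404956310a9389811c1eb8b9b5)) (.leaf (nat_lit 0x1a1c06dd543a59330aa12156f946d0)))) (.node (nat_lit 22) (.leaf (nat_lit 0x9a401b8984846c71b8cd7ae922a915)) (.node (nat_lit 23) (.leaf (nat_lit 0x880ad23aec7ca905a86839ab348836)) (.leaf (nat_lit 0x3676ac5c83ade4308a19507053137)))))))⟩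
def m24_2BCC0 : LevCert := ⟨m24_2BCL0,
    [(nat_lit 20, nat_lit 0), (nat_lit 12, nat_lit 1), (nat_lit 16, nat_lit 0), (nat_lit 13, nat_lit 0), (nat_lit 14, nat_lit 1), (nat_lit 11, nat_lit 1), (nat_lit 19, nat_lit 0), (nat_lit 8, nat_lit 1), (nat_lit 21, nat_lit 0), (nat_lit 10, nat_lit 1), (nat_lit 5, nat_lit 0), (nat_lit 7, nat_lit 1), (nat_lit 18, nat_lit 1), (nat_lit 22, nat_lit 0), (nat_lit 1, nat_lit 1), (nat_lit 9, nat_lit 0), (nat_lit 17, nat_lit 0), (nat_lit 2, nat_lit 1), (nat_lit 6, nat_lit 0), (nat_lit 15, nat_lit 0), (nat_lit 3, nat_lit 0), (nat_lit 23, nat_lit 1), (nat_lit 4, nat_lit 1)],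
    [[nat_lit 2, nat_lit 0, nat_lit 2, nat_lit 2, nat_lit 0, nat_lit 2, nat_lit 2, nat_lit 2], [nat_lit 4, nat_lit 2, nat_lit 4, nat_lit 2, nat_lit 4]],
    [nat_lit 0xbb6af9add1910a8a314908870b18e0, nat_lit 0xb8665a904d4c07664a345bce672900]⟩
def m24_2BCL1 : Lev := ⟨nat_lit 1, nat_lit 0x57fffe, (.node (nat_lit 11) (.node (nat_lit 6) (.node (nat_lit 3) (.node (nat_lit 2) (.leaf (nat_lit 0xbdab49ca307b9ac5a928398a418820)) (.leaf (nat_lit 0xbb270a8d2b2290e2d9b139a9278440))) (.node (nat_lit 4) (.leaf (nat_lit 0xb8e69ab202218f42da51429cd0bd60)) (.node (nat_lit 5) (.leaf (nat_lit 0xb9eab9bcd22b12a2591173441a4060)) (.leaf (nat_lit 0xb9e63ac0c5546cd42dcfa482223120))))) (.node (nat_lit 8) (.node (nat_lit 7) (.leaf (nat_lit 0xba264a95491ca9183acd105eb618e0)) (.leaf (nat_lit 0xbb6af9add1910a8a314908870b18e0))) (.node (nat_lit 9) (.leaf (nat_lit 0xbbe74ac96435a29389816b90a2c060)) (.node (nat_lit 10)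 (.leaf (nat_lit 0xbaea699dedb0e02894246250a74a80)) (.leaf (nat_lit 0xbbab19d9aa33d6538482a4a0342580)))))) (.node (nat_lit 16) (.node (nat_lit 13) (.node (nat_lit 12) (.leaf (nat_lit 0xbd26babe4e10e0809947b4589690a0)) (.leaf (nat_lit 0xba2a7999438b5c1b10456256f84a80))) (.node (nat_lit 14) (.leaf (nat_lit 0xbda6aaa2268082f1b56e4b0853ca80)) (.node (nat_lit 15) (.leaf (nat_lit 0xbba69ab1a788454b16447ac7032140)) (.leaf (nat_lit 0xbd268aaa500b5cb11de68d98919480))))) (.node (nat_lit 18) (.node (nat_lit 17) (.leaf (nat_lit 0xbd2a499641598f67a22a1c12c135c0)) (.leaf (nat_lit 0xb8ab49c8286adec70d30290e655a20))) (.node (nat_lit 20) (.leaf (nat_lit 0xbc262a84727a5875a0ca291aea46c0)) (.node (nat_lit 22) (.leaf (nat_lit 0xba6a198996714876c0c342a928ade0)) (.leaf (nat_lit 0xb8665a904d4c07664a345bce672900)))))))⟩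
def m24_2BCC1 : LevCert := ⟨m24_2BCL1,
    [(nat_lit 7, nat_lit 0), (nat_lit 22, nat_lit 1), (nat_lit 5, nat_lit 1), (nat_lit 3, nat_lit 0), (nat_lit 12, nat_lit 1), (nat_lit 13, nat_lit 0), (nat_lit 20, nat_lit 1), (nat_lit 10, nat_lit 0), (nat_lit 11, nat_lit 1), (nat_lit 16, nat_lit 1), (nat_lit 8, nat_lit 1), (nat_lit 9, nat_lit 0), (nat_lit 2, nat_lit 1), (nat_lit 18, nat_lit 0), (nat_lit 4, nat_lit 0), (nat_lit 14, nat_lit 1), (nat_lit 15, nat_lit 1), (nat_lit 6, nat_lit 0), (nat_lit 17, nat_lit 1)],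
    [[nat_lit 2, nat_lit 2, nat_lit 0, nat_lit 0, nat_lit 0, nat_lit 2], [nat_lit 4, nat_lit 4, nat_lit 2, nat_lit 2, nat_lit 4, nat_lit 2, nat_lit 4, nat_lit 4]],
    [nat_lit 0xbb26eab5282bd702447631e9250820, nat_lit 0xbbe64a95746b131742c331d0a90820]⟩
def m24_2BCL2 : Lev := ⟨nat_lit 3, nat_lit 0x57ff38, (.node (nat_lit 13) (.node (nat_lit 9) (.node (nat_lit 5) (.node (nat_lit 4) (.leaf (nat_lit 0xbdab49ca307b9ac5a928398a418820)) (.leaf (nat_lit 0xbbaab9bda595a2aa310939a0320820))) (.node (nat_lit 8) (.leaf (nat_lit 0xbb6aa9a1c44c6cb651f23987028820)) (.leaf (nat_lit 0xbbe64a95746b131742c331d0a90820)))) (.node (nat_lit 11) (.node (nat_lit 10) (.leaf (nat_lit 0xbb26eab5282bd702447631e9250820)) (.leaf (nat_lit 0xba265a914c7525668e3031deb48820))) (.node (nat_lit 12) (.leaf (nat_lit 0xbaa76ac50984a851b48e31d6f60820)) (.leaf (nat_lit 0xbd26daba4f221432da1131d8958820))))) (.node (nat_lit 17) (.node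 (nat_lit 15) (.node (nat_lit 14) (.leaf (nat_lit 0xb96b29d08e5c0697a18a39ad168820)) (.leaf (nat_lit 0xb92a99b0ad50e1243e8b39a3670820))) (.node (nat_lit 16) (.leaf (nat_lit 0xbae71ad9f21a584838ad31d48a0820)) (.leaf (nat_lit 0xbc6ac9a6c3435d452e4f3988580820)))) (.node (nat_lit 20) (.node (nat_lit 18) (.leaf (nat_lit 0xbc2af9ac76a14889254c399cd88820)) (.leaf (nat_lit 0xba670a8d8ab2dee891a531e5440820))) (.node (nat_lit 22) (.leaf (nat_lit 0xbca63ac28b8a90db15c431d2c78820)) (.leaf (nat_lit 0xb8ea89aa11610af4c974399aeb0820))))))⟩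
def m24_2BCC2 : LevCert := ⟨m24_2BCL2,
    [(nat_lit 9, nat_lit 0), (nat_lit 8, nat_lit 1), (nat_lit 17, nat_lit 0), (nat_lit 13, nat_lit 1), (nat_lit 16, nat_lit 0), (nat_lit 5, nat_lit 1), (nat_lit 10, nat_lit 0), (nat_lit 12, nat_lit 1), (nat_lit 18, nat_lit 0), (nat_lit 15, nat_lit 1), (nat_lit 4, nat_lit 1), (nat_lit 22, nat_lit 0), (nat_lit 14, nat_lit 1), (nat_lit 11, nat_lit 0), (nat_lit 20, nat_lit 1)],
    [],
    []⟩
def m24_2BC : List LevCert := [m24_2BCC0, m24_2BCC1, m24_2BCC2]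
def m24_2BCL : List Lev := [m24_2BCL0, m24_2BCL1, m24_2BCL2]
def m24_2BQGens : List ℕ := [nat_lit 0xbc6b49cace5406c43d2b31c8568440, nat_lit 0xadaec0262e5407443e4b398a468833, nat_lit 0x99012bd0ad58e097a18a1063671cd5, nat_lit 0x466caa6cd50e1443e4b1048571cd7, nat_lit 0xbdaa99b22e4407252e8f088a4698e0, nat_lit 0xadae90322d78e125aa88104a471cd3]
def m24_2BQL0 : Lev := ⟨nat_lit 1, nat_lit 198, (.node (nat_lit 6) (.node (nat_lit 2) (.leaf (nat_lit 0xbdab49ca307b9ac5a928398a418820)) (.leaf (nat_lit 0xbc6b49cace5406c43d2b31c8568440))) (.node (nat_lit 7) (.leaf (nat_lit 0x99012bd0ad58e097a18a1063671cd5)) (.leaf (nat_lit 0xbdaa99b22e4407252e8f088a4698e0))))⟩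
def m24_2BQC0 : LevCert := ⟨m24_2BQL0,
    [(nat_lit 2, nat_lit 0), (nat_lit 6, nat_lit 2), (nat_lit 7, nat_lit 4)],
    [[nat_lit 4, nat_lit 2, nat_lit 8, nat_lit 10, nat_lit 8, nat_lit 0, nat_lit 2, nat_lit 0, nat_lit 2, nat_lit 4, nat_lit 8, nat_lit 0, nat_lit 0, nat_lit 0, nat_lit 4, nat_lit 10, nat_lit 10, nat_lit 10], [nat_lit 10, nat_lit 10, nat_lit 6, nat_lit 6, nat_lit 12, nat_lit 8, nat_lit 6, nat_lit 8, nat_lit 12, nat_lit 8], [nat_lit 4, nat_lit 8, nat_lit 14, nat_lit 14, nat_lit 10, nat_lit 8, nat_lit 8, nat_lit 12, nat_lit 10, nat_lit 14, nat_lit 10, nat_lit 4, nat_lit 6, nat_lit 10, nat_lit 14, nat_lit 8, nat_lit 14, nat_lit 14, nat_lit 4, nat_lit 14], [nat_lit 14, nat_lit 12, nat_lit 6, nat_lit 8, nat_lit 8]],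
    [nat_lit 0x1674ac883535cc43d2b39ad180837, nat_lit 0xa96e903090439b252e8f39ad118833, nat_lit 0xbc6ac9a6c3435d452e4f3988580820, nat_lit 0x5a72ad22d40e0952d8f398a470837]⟩
def m24_2BQL1 : Lev := ⟨nat_lit 0, nat_lit 0xa80001, (.node (nat_lit 21) (.node (nat_lit 19) (.leaf (nat_lit 0xbdab49ca307b9ac5a928398a418820)) (.leaf (nat_lit 0xa96e903090439b252e8f39ad118833))) (.node (nat_lit 23) (.leaf (nat_lit 0x9d809bb2235b5d27a28a398a480835)) (.leaf (nat_lit 0x1674ac883535cc43d2b39ad180837))))⟩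
def m24_2BQC1 : LevCert := ⟨m24_2BQL1,
    [(nat_lit 23, nat_lit 0), (nat_lit 19, nat_lit 1), (nat_lit 21, nat_lit 1)],
    [[nat_lit 0, nat_lit 2, nat_lit 4, nat_lit 6, nat_lit 2, nat_lit 0, nat_lit 6], [nat_lit 6, nat_lit 2, nat_lit 8, nat_lit 2, nat_lit 6, nat_lit 2]],
    [nat_lit 0xbc6ac9a6c3435d452e4f3988580820, nat_lit 0xb96b29d08e5c0697a18a39ad168820]⟩
def m24_2BQL2 : Lev := ⟨nat_lit 3, nat_lit 0x16008, (.node (nat_lit 14) (.node (nat_lit 13) (.leaf (nat_lit 0xbdab49ca307b9ac5a928398a418820)) (.leaf (nat_lit 0xb96b29d08e5c0697a18a39ad168820))) (.node (nat_lit 16) (.leaf (nat_lit 0xb92a99b0ad50e1243e8b39a3670820)) (.leaf (nat_lit 0xbc6ac9a6c3435d452e4f3988580820))))⟩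
def m24_2BQC2 : LevCert := ⟨m24_2BQL2,
    [(nat_lit 16, nat_lit 0), (nat_lit 13, nat_lit 1), (nat_lit 14, nat_lit 1)],
    [],
    []⟩
def m24_2BQ : List LevCert := [m24_2BQC0, m24_2BQC1, m24_2BQC2]
def m24_2BQL : List Lev := [m24_2BQL0, m24_2BQL1, m24_2BQL2]
theorem m24_2B_mem : m24_2B ∈ m24Cl := by simp [m24Cl]
theorem m24_2BC_ok : centOK (nat_lit 5) (nat_lit 32) (nat_lit 24) m24CertL [m24_2B.X] m24_2BC m24_2BCGens = true := by
  decide +kernel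
theorem m24_2BQ_ok : charPOK (nat_lit 5) (nat_lit 32) (nat_lit 24) m24CertL (nat_lit 0) (m24_2BC.map LevCert.L) m24_2BCGens
    m24_2BQ m24_2BQGens = true := by decide +kernel
/-- chain and generators of the centraliser of the involution `m24_2B` -/
theorem m24_2BC_spec : GE.IsChain (m24_2BC.map LevCert.L) (M24 ⊓ Subgroup.centralizer {GE.perm m24_2B.X}) ∧
    M24 ⊓ Subgroup.centralizer {GE.perm m24_2B.X} = GE.grp m24_2BCGens :=
  m24_chain.of_centOK m24_2BC_ok (by simp [m24_classes.pk_perm m24_2B_mem])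
    (by rw [m24_classes.card _ m24_2B_mem]; decide +kernel)
/-- a normal 2-subgroup of the centraliser containing its own centraliser -/
theorem m24_2BQ_spec : type_of% (m24_chain.of_charPOK (GE.fixes_zero _) m24_2BC_spec.1 m24_2BC_spec.2 m24_2BQ_ok) :=
  m24_chain.of_charPOK (GE.fixes_zero _) m24_2BC_spec.1 m24_2BC_spec.2 m24_2BQ_ok
theorem m24_2BQ_card : Nat.card (GE.grp m24_2BQGens) = 2 ^ 6 := by rw [m24_2BQ_spec.1.card]; decide +kernel

end Cfsg.Agent.H14
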