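/-
Sylow 2-subgroups of the Mathieu groups (generated by tools_h14/searchcert.py).
-/
import Cfsg.Agent.H14.Fus
import Cfsg.Agent.H14.MClasses

set_option autoImplicit false

namespace Cfsg.Agent.H14

def m11SGens : List ℕ := [nat_lit 0xaadea290f075c4c9d12188ec6921a0, nat_lit 0x75ca778d49aac4c9d201892cd448c0]
def m11SL0 : Lev := ⟨nat_lit 1, nat_lit 0x4215e, (.node (nat_lit 6) (.node (nat_lit 3) (.node (nat_lit 2) (.leaf (nat_lit 0xbdab49ca307b9ac5a928398a418820)) (.leaf (nat_lit 0x7cdd4b1a30bd50c2a92d3c96320440))) (.node (nat_lit 4) (.leaf (nat_lit 0xbd6d174a897cd0c2aa0d3996209060)) (.leaf (nat_lit 0x7ba71a9a89bd9ac5aa083c8a110c80)))) (.node (nat_lit 13) (.node (nat_lit 8) (.leaf (nat_lit 0xb15ea588e99dc8c74603a06a693500)) (.leaf (nat_lit 0xaadea290f075c4c9d12188ec6921a0))) (.node (nat_lit 18) (.leaf (nat_lit 0x716ea58cf0abc2cb51228927233500)) (.leaf (nat_lit 0x9dd6778550b148c74523a0aa86c8c0)))))⟩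
def m11SC0 : LevCert := ⟨m11SL0,
    [(nat_lit 8, nat_lit 0), (nat_lit 2, nat_lit 0), (nat_lit 3, nat_lit 1), (nat_lit 13, nat_lit 0), (nat_lit 6, nat_lit 0), (nat_lit 18, nat_lit 1), (nat_lit 4, nat_lit 1)],
    [[nat_lit 0, nat_lit 0, nat_lit 0, nat_lit 2, nat_lit 2, nat_lit 2]],
    [nat_lit 0x5d9d49a2292d4ccb9e12535e320820]⟩
def m11SL1 : Lev := ⟨nat_lit 3, nat_lit 24, (.node (nat_lit 4) (.leaf (nat_lit 0xbdab49ca307b9ac5a928398a418820)) (.leaf (nat_lit 0x5d9d49a2292d4ccb9e12535e320820)))⟩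
def m11SC1 : LevCert := ⟨m11SL1,
    [(nat_lit 4, nat_lit 0)],
    [],
    []⟩
def m11S : List LevCert := [m11SC0, m11SC1]
def m11SL : List Lev := [m11SL0, m11SL1]
def m11SCos : List ℕ := [nat_lit 0xbdab49ca307b9ac5a928398a418820, nat_lit 0xbcca7b0a307ad097298da06a41c8c0, nat_lit 0xaceeab1a2c73c305d1223c8a41a1a0]
def m11SSteps : List (List ℕ × ℕ) := [([nat_lit 0], nat_lit 0x5bcf42c2ccba90274c328a6a669060), ([nat_lit 0], nat_lit 0x9aac7285628b8cdadc647ca8983100), ([nat_lit 0, nat_lit 2], nat_lit 0xb5dd4799509d4895c5833c8ad40820)]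
def m11SWs : List (List ℕ) := [[nat_lit 0], [nat_lit 2, nat_lit 4]]
theorem m11S_ok : fusOK (nat_lit 5) (nat_lit 32) (nat_lit 24) m12CertL.tail m11S m11SGens m11_2A.X
    m11SCos m11SSteps m11SWs = true := by decide +kernel
theorem m11S_card : chainCard (nat_lit 24) (m11S.map LevCert.L) = 2 ^ 4 := by decide +kernel
theorem m11S_cent : Nat.card ↥(Spor.M11 ⊓ Subgroup.centralizer {GE.perm m11_2A.X}) ≤
    m11SCos.length * 2 ^ 4 := by
  rw [m11_classes.card m11_2A (by simp [m11Cl])]; decide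
theorem m11S_fact : (Nat.card Spor.M11).factorization 2 = 4 :=
  factorization_eq (m := 495) Nat.prime_two card_M11 (by norm_num)
/-- the properties of the Sylow 2-subgroup `GE.grp m11SGens` of `Spor.M11` -/
theorem m11S_spec : type_of% (m11_chain.of_fusOK m11S_ok m11S_card (by norm_num) m11S_cent) :=
  m11_chain.of_fusOK m11S_ok m11S_card (by norm_num) m11S_cent
theorem m11_fusion_simple {G : Type*} [Group G] (ι : G →* Equiv.Perm GolayPt)
    (hι : Function.Injective ι) (hr : ι.range = Spor.M11) (S : Sylow 2 G) :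
    (groupFusionSystem (S : Subgroup G)).IsSimple 2 :=
  m11_chain.fusion_simple m11S_ok m11S_card (by norm_num) m11S_cent m11S_fact ι hι hr S

def m12SGens : List ℕ := [nat_lit 0xbae957b6289ba44b1cd0524ac18820, nat_lit 0x72ab49b4a87c6463ad90b12e900462, nat_lit 0x3ba8faa1509dda02d9925922149862]
def m12SL0 : Lev := ⟨nat_lit 4, nat_lit 0x125f, (.node (nat_lit 4) (.node (nat_lit 2) (.node (nat_lit 1) (.leaf (nat_lit 0x72a8fac8ad9ae093dc4888ec608184)) (.leaf (nat_lit 0x71eb3a34b27d90655c5088d690808c))) (.node (nat_lit 3) (.leaf (nat_lit 0xb468fac1689ba42ba8cd3a4a361001)) (.leaf (nat_lit 0x5c6b3a22d07b9a2b9d32518a323001)))) (.node (nat_lit 9) (.node (nat_lit 6) (.leaf (nat_lit 0xbdab49ca307b9ac5a928398a418820)) (.leaf (nat_lit 0x72ab49b4a87c6463ad90b12e900462))) (.node (nat_lit 12) (.leaf (nat_lit 0x71e957c8b09c5a9558885b2e600462)) (.leaf (nat_lit 0xbae957b6289ba44b1cd0524ac18820)))))⟩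
def m12SC0 : LevCert := ⟨m12SL0,
    [(nat_lit 12, nat_lit 0), (nat_lit 6, nat_lit 1), (nat_lit 9, nat_lit 1), (nat_lit 2, nat_lit 2), (nat_lit 3, nat_lit 2), (nat_lit 0, nat_lit 1), (nat_lit 1, nat_lit 1)],
    [[nat_lit 2, nat_lit 4, nat_lit 2, nat_lit 0, nat_lit 2, nat_lit 2, nat_lit 4], [nat_lit 2, nat_lit 4, nat_lit 6, nat_lit 6, nat_lit 6]],
    [nat_lit 0x8da957b6e89964c5a930399c410c01, nat_lit 0xbadf49a230aa9acb3832280e410d26]⟩
def m12SL1 : Lev := ⟨nat_lit 2, nat_lit 12, (.node (nat_lit 3) (.leaf (nat_lit 0xbdab49ca307b9ac5a928398a418820)) (.leaf (nat_lit 0x8da957b6e89964c5a930399c410c01)))⟩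
def m12SC1 : LevCert := ⟨m12SL1,
    [(nat_lit 3, nat_lit 0)],
    [[nat_lit 0, nat_lit 0, nat_lit 2, nat_lit 2, nat_lit 2, nat_lit 2, nat_lit 0, nat_lit 2], [nat_lit 2, nat_lit 4, nat_lit 2, nat_lit 4, nat_lit 4, nat_lit 4]],
    [nat_lit 0x8ae757c2e8a2a4cb140d704e418926, nat_lit 0xbd9f3a222da960c59cd2525c418801]⟩
def m12SL2 : Lev := ⟨nat_lit 0, nat_lit 579, (.node (nat_lit 6) (.node (nat_lit 1) (.leaf (nat_lit 0xbdab49ca307b9ac5a928398a418820)) (.leaf (nat_lit 0xbd9f3a222da960c59cd2525c418801))) (.node (nat_lit 9) (.leaf (nat_lit 0x8ae8fab6f299d0cb383028144188c9)) (.leaf (nat_lit 0x8ae757c2e8a2a4cb140d704e418926))))⟩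
def m12SC2 : LevCert := ⟨m12SL2,
    [(nat_lit 9, nat_lit 0), (nat_lit 1, nat_lit 1), (nat_lit 6, nat_lit 1)],
    [],
    []⟩
def m12S : List LevCert := [m12SC0, m12SC1, m12SC2]
def m12SL : List Lev := [m12SL0, m12SL1, m12SL2]
def m12SCos : List ℕ := [nat_lit 0xbdab49ca307b9ac5a928398a418820, nat_lit 0x8baaf9c2f2a59a02a8c83a5611888c, nat_lit 0x72e959b4b07de4cb28c83a62408062]
def m12SSteps : List (List ℕ × ℕ) := [([nat_lit 0], nat_lit 0xbd4ae5b220b288d9be01a48e832462), ([nat_lit 0], nat_lit 0xa5dd63c26d5c52c7a84028ea830644), ([nat_lit 0, nat_lit 2], nat_lit 0xacd6a3a68cb5c927944670e2d82020)]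
def m12SWs : List (List ℕ) := [[nat_lit 2, nat_lit 4, nat_lit 2, nat_lit 6], [nat_lit 2, nat_lit 4, nat_lit 6, nat_lit 4, nat_lit 8], [nat_lit 8, nat_lit 6, nat_lit 4, nat_lit 8]]
theorem m12S_ok : fusOK (nat_lit 5) (nat_lit 32) (nat_lit 24) m12CertL m12S m12SGens m12_2B.X
    m12SCos m12SSteps m12SWs = true := by decide +kernel
theorem m12S_card : chainCard (nat_lit 24) (m12S.map LevCert.L) = 2 ^ 6 := by decide +kernel
theorem m12S_cent : Nat.card ↥(Spor.M12 ⊓ Subgroup.centralizer {GE.perm m12_2B.X}) ≤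
    m12SCos.length * 2 ^ 6 := by
  rw [m12_classes.card m12_2B (by simp [m12Cl])]; decide
theorem m12S_fact : (Nat.card Spor.M12).factorization 2 = 6 :=
  factorization_eq (m := 1485) Nat.prime_two card_M12 (by norm_num)
/-- the properties of the Sylow 2-subgroup `GE.grp m12SGens` of `Spor.M12` -/
theorem m12S_spec : type_of% (m12_chain.of_fusOK m12S_ok m12S_card (by norm_num) m12S_cent) :=
  m12_chain.of_fusOK m12S_ok m12S_card (by norm_num) m12S_cent
theorem m12_fusion_simple {G : Type*} [Group G] (ι : G →* Equiv.Perm GolayPt)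
    (hι : Function.Injective ι) (hr : ι.range = Spor.M12) (S : Sylow 2 G) :
    (groupFusionSystem (S : Subgroup G)).IsSimple 2 :=
  m12_chain.fusion_simple m12S_ok m12S_card (by norm_num) m12S_cent m12S_fact ι hι hr S

def m22SGens : List ℕ := [nat_lit 0xbc64e4b5553b26280cc17ad05a5880, nat_lit 0xbd54972e5139a63809887b424a58a0, nat_lit 0xb89835a64d79acea45453d5019c080]
def m22SL0 : Lev := ⟨nat_lit 1, nat_lit 306, (.node (nat_lit 5) (.node (nat_lit 4) (.leaf (nat_lit 0xbdab49ca307b9ac5a928398a418820)) (.leaf (nat_lit 0xb89835a64d79acea45453d5019c080))) (.node (nat_lit 8) (.leaf (nat_lit 0xbd54972e5139a63809887b424a58a0)) (.leaf (nat_lit 0xbc64e4b5553b26280cc17ad05a5880))))⟩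
def m22SC0 : LevCert := ⟨m22SL0,
    [(nat_lit 8, nat_lit 0), (nat_lit 5, nat_lit 1), (nat_lit 4, nat_lit 2)],
    [[nat_lit 4, nat_lit 0, nat_lit 2, nat_lit 0, nat_lit 4, nat_lit 4, nat_lit 4], [nat_lit 4, nat_lit 4, nat_lit 2, nat_lit 6, nat_lit 2, nat_lit 6], [nat_lit 8, nat_lit 4, nat_lit 6, nat_lit 8, nat_lit 8, nat_lit 6]],
    [nat_lit 0xbb991a88c93ca6d82d4478ca8a5820, nat_lit 0xba84c341727b5d48d8683cca44d420, nat_lit 0xbd1b69985038eac4a9647c8a874420]⟩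
def m22SL1 : Lev := ⟨nat_lit 2, nat_lit 0x7f7e4c, (.node (nat_lit 14) (.node (nat_lit 10) (.node (nat_lit 6) (.node (nat_lit 3) (.leaf (nat_lit 0xbdab49ca307b9ac5a928398a418820)) (.leaf (nat_lit 0xb9ab2651ca3c5b35c1247d8a810c20))) (.node (nat_lit 9) (.leaf (nat_lit 0xbc66ea8ec97d18d52e08388a491820)) (.leaf (nat_lit 0xbb06a94da67ae36750483c0a4aa420)))) (.node (nat_lit 12) (.node (nat_lit 11) (.leaf (nat_lit 0xbd6c98b66e7c24330a883aca462820)) (.leaf (nat_lit 0xbaa2c941263d476151c47cca85b420))) (.node (nat_lit 13) (.leaf (nat_lit 0xba69572e117ccc290ec83b4a453020)) (.leaf (nat_lit 0xbb1ca34eb23a4541da247c0a86ac20))))) (.node (nat_lit 19) (.node (nat_lit 17) (.node (nat_lit 16) (.leaf (nat_lit 0xbc9a66586a78ab34c1683d0a48b820)) (.leaf (nat_lit 0xbaecd1a6023ce5133a847d4a853020))) (.node (nat_lit 18) (.leaf (nat_lit 0xbd1b69985038eac4a9647c8a874420)) (.leaf (nat_lit 0xbb991a88c93ca6d82d4478ca8a5820)))) (.node (nat_lit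 21) (.node (nat_lit 20) (.leaf (nat_lit 0xbb68b156633c0ce946c47a4a862820)) (.leaf (nat_lit 0xb8d826c64b79a75825483b8a4b5020))) (.node (nat_lit 22) (.leaf (nat_lit 0xba84c341727b5d48d8683cca44d420)) (.leaf (nat_lit 0xb8a636ba8b3d995526047c4a834820))))))⟩
def m22SC1 : LevCert := ⟨m22SL1,
    [(nat_lit 18, nat_lit 0), (nat_lit 21, nat_lit 1), (nat_lit 17, nat_lit 2), (nat_lit 14, nat_lit 0), (nat_lit 16, nat_lit 1), (nat_lit 6, nat_lit 2), (nat_lit 19, nat_lit 0), (nat_lit 13, nat_lit 2), (nat_lit 20, nat_lit 0), (nat_lit 11, nat_lit 1), (nat_lit 22, nat_lit 0), (nat_lit 3, nat_lit 2), (nat_lit 12, nat_lit 0), (nat_lit 10, nat_lit 0), (nat_lit 9, nat_lit 2)],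
    [[nat_lit 2, nat_lit 4, nat_lit 2, nat_lit 0, nat_lit 0]],
    [nat_lit 0xbc92655a2c3b9706cea47d0a818820]⟩
def m22SL2 : Lev := ⟨nat_lit 4, nat_lit 272, (.node (nat_lit 8) (.leaf (nat_lit 0xbdab49ca307b9ac5a928398a418820)) (.leaf (nat_lit 0xbc92655a2c3b9706cea47d0a818820)))⟩
def m22SC2 : LevCert := ⟨m22SL2,
    [(nat_lit 8, nat_lit 0)],
    [],
    []⟩
def m22S : List LevCert := [m22SC0, m22SC1, m22SC2]
def m22SL : List Lev := [m22SL0, m22SL1, m22SL2]
def m22SCos : List ℕ := [nat_lit 0xbdab49ca307b9ac5a928398a418820, nat_lit 0xbad4d8d6ce2526280d8f42427348a0, nat_lit 0xbd974929262d63074da70b08f18900]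
def m22SSteps : List (List ℕ × ℕ) := [([nat_lit 0], nat_lit 0xbb170a29e611d32ad9ae1ccb141020), ([nat_lit 0], nat_lit 0xb8d928c10ba96966a9c2324f379020), ([nat_lit 0], nat_lit 0xbce11b4a952a4cc58dc8235e750820), ([nat_lit 0, nat_lit 2, nat_lit 4], nat_lit 0xbb13269a032d222aadc1229e8b4ce0)]
def m22SWs : List (List ℕ) := [[nat_lit 6, nat_lit 0], [nat_lit 2, nat_lit 8, nat_lit 6, nat_lit 2], [nat_lit 6, nat_lit 10, nat_lit 4, nat_lit 10, nat_lit 6]]
theorem m22S_ok : fusOK (nat_lit 5) (nat_lit 32) (nat_lit 24) m24CertL.tail.tail m22S m22SGens m22_2A.X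
    m22SCos m22SSteps m22SWs = true := by decide +kernel
theorem m22S_card : chainCard (nat_lit 24) (m22S.map LevCert.L) = 2 ^ 7 := by decide +kernel
theorem m22S_cent : Nat.card ↥(Spor.M22 ⊓ Subgroup.centralizer {GE.perm m22_2A.X}) ≤
    m22SCos.length * 2 ^ 7 := by
  rw [m22_classes.card m22_2A (by simp [m22Cl])]; decide
theorem m22S_fact : (Nat.card Spor.M22).factorization 2 = 7 :=
  factorization_eq (m := 3465) Nat.prime_two card_M22 (by norm_num)
/-- the properties of the Sylow 2-subgroup `GE.grp m22SGens` of `Spor.M22` -/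
theorem m22S_spec : type_of% (m22_chain.of_fusOK m22S_ok m22S_card (by norm_num) m22S_cent) :=
  m22_chain.of_fusOK m22S_ok m22S_card (by norm_num) m22S_cent
theorem m22_fusion_simple {G : Type*} [Group G] (ι : G →* Equiv.Perm GolayPt)
    (hι : Function.Injective ι) (hr : ι.range = Spor.M22) (S : Sylow 2 G) :
    (groupFusionSystem (S : Subgroup G)).IsSimple 2 :=
  m22_chain.fusion_simple m22S_ok m22S_card (by norm_num) m22S_cent m22S_fact ι hι hr S

def m23SGens : List ℕ := [nat_lit 0xbb46130a29b1404a2a4b3d5cc9c10f, nat_lit 0xbb532198e2812aca2ad38acae005e8, nat_lit 0xbb4c01a62259025a2a763c18e9550f]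
def m23SL0 : Lev := ⟨nat_lit 0, nat_lit 0x7dab4f, (.node (nat_lit 13) (.node (nat_lit 6) (.node (nat_lit 2) (.node (nat_lit 1) (.leaf (nat_lit 0xbdab49ca307b9ac5a928398a418820)) (.leaf (nat_lit 0xbda09accf2130c45a9e38a1c56d001))) (.node (nat_lit 3) (.leaf (nat_lit 0xba130198e2932647a9758d9c50828d)) (.leaf (nat_lit 0xbb532198e2812aca2ad38acae005e8)))) (.node (nat_lit 9) (.node (nat_lit 8) (.leaf (nat_lit 0xba073488e6a920c7a832880ae5da8d)) (.leaf (nat_lit 0xbbc7630a290916542aa03c98e84e8d))) (.node (nat_lit 11) (.leaf (nat_lit 0xbbc5030ce99126c42815884aeb2db4)) (.leaf (nat_lit 0xb8648856336b1ee029343988518acb))))) (.node (nat_lit 19) (.node (nat_lit 16) (.node (nat_lit 15) (.leaf (nat_lit 0xbb46130a29b1404a2a4b3d5cc9c10f)) (.leaf (nat_lit 0xbbccb1a622016c442a013cdccaca8d))) (.node (nat_lit 18) (.leaf (nat_lit 0xbcecd0ace07968e828688888c326b2)) (.leaf (nat_lit 0xbcc34b00eb439a5828cf8a58418ab2)))) (.node (nat_lit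 21) (.node (nat_lit 20) (.leaf (nat_lit 0xbd6c602e211392c929a33d0a443e13)) (.leaf (nat_lit 0xbb4c01a62259025a2a763c18e9550f))) (.node (nat_lit 22) (.leaf (nat_lit 0xbd40f584f66950e928d48a48c18a70)) (.leaf (nat_lit 0xb8268ac2326b9ec0a85438ca432576))))))⟩
def m23SC0 : LevCert := ⟨m23SL0,
    [(nat_lit 13, nat_lit 0), (nat_lit 3, nat_lit 1), (nat_lit 20, nat_lit 2), (nat_lit 22, nat_lit 0), (nat_lit 21, nat_lit 0), (nat_lit 19, nat_lit 1), (nat_lit 11, nat_lit 0), (nat_lit 15, nat_lit 0), (nat_lit 9, nat_lit 1), (nat_lit 8, nat_lit 2), (nat_lit 6, nat_lit 0), (nat_lit 2, nat_lit 2), (nat_lit 1, nat_lit 1), (nat_lit 16, nat_lit 0), (nat_lit 18, nat_lit 2)],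
    [[nat_lit 0, nat_lit 0, nat_lit 4, nat_lit 4, nat_lit 0, nat_lit 2, nat_lit 4, nat_lit 0], [nat_lit 6, nat_lit 2, nat_lit 2, nat_lit 4, nat_lit 6, nat_lit 4, nat_lit 2, nat_lit 4]],
    [nat_lit 0xbae499d4f0110ccb2a838b4ae43c20, nat_lit 0xbae66940f51b124b29028bdc5a3420]⟩
def m23SL1 : Lev := ⟨nat_lit 2, nat_lit 0x10a34c, (.node (nat_lit 9) (.node (nat_lit 6) (.node (nat_lit 3) (.leaf (nat_lit 0xbdab49ca307b9ac5a928398a418820)) (.leaf (nat_lit 0xbda0894e35695e45a8d43a5cc10c20))) (.node (nat_lit 8) (.leaf (nat_lit 0xbda6dac2324328e5a86f3888549820)) (.leaf (nat_lit 0xbae66940f51b124b29028bdc5a3420)))) (.node (nat_lit 15) (.node (nat_lit 13) (.leaf (nat_lit 0xbda4f85633a11055a84d38d8e32420)) (.leaf (nat_lit 0xbae03accf23144eb29a98d08c7a020))) (.node (nat_lit 20) (.leaf (nat_lit 0xbae499d4f0110ccb2a838b4ae43c20)) (.leaf (nat_lit 0xbaea2848f34b865b29e68a1846d020)))))⟩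
def m23SC1 : LevCert := ⟨m23SL1,
    [(nat_lit 15, nat_lit 0), (nat_lit 8, nat_lit 1), (nat_lit 6, nat_lit 1), (nat_lit 3, nat_lit 0), (nat_lit 9, nat_lit 1), (nat_lit 13, nat_lit 0), (nat_lit 20, nat_lit 1)],
    [],
    []⟩
def m23S : List LevCert := [m23SC0, m23SC1]
def m23SL : List Lev := [m23SL0, m23SL1]
def m23SCos : List ℕ := [nat_lit 0xbdab49ca307b9ac5a928398a418820, nat_lit 0xbbec11ae223280e431a9250e59c2b2, nat_lit 0xb85f69a1d033164015a98d0ea95443, nat_lit 0xbac696895479cccb10287022595613, nat_lit 0xbceab1c982416d181c0f705446d126, nat_lit 0xb8ab604941815671b91323d9149a8d, nat_lit 0xb8a4b85553016ce19d018bd846d0c9, nat_lit 0xbc91003ca11ba6ca91a23d22ab2cc9, nat_lit 0xbc9ab0d0e0412d1ab8cf624aa84c62, nat_lit 0xbb5100bca013a6aa1e432562c49976, nat_lit 0xb8d09b3dcb990c5132903b55108255, nat_lit 0xba2405d556838317b0d32a4876d043, nat_lit 0xb883698150a9d6e1953261a246d1e8, nat_lit 0xb984d58c969ba874c5f062145ac820,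 nat_lit 0xbdaad0c9c01468c5a8c3224a743e70, nat_lit 0xb9ad30ad40a92054c5f23a1cc6d062, nat_lit 0xbd46908a205a8cc93a762c0e443e8d, nat_lit 0xbc8c20a6205a865a921664cee6d1e8, nat_lit 0xb9833180a242a044c68f73587acacb, nat_lit 0xbad21a98927b00eb146838a2a9c1b4, nat_lit 0xbd60904d816b8d19285428ce47a2cb]
def m23SSteps : List (List ℕ × ℕ) := [([nat_lit 0], nat_lit 0xbcc7492410745aba9cac092ca43cc2), ([nat_lit 0], nat_lit 0xbc12ba18ad946c79b11553dc418820), ([nat_lit 0, nat_lit 2], nat_lit 0xbba4b141890cde62aacd2507540227)]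
def m23SWs : List (List ℕ) := [[nat_lit 0], [nat_lit 2, nat_lit 4, nat_lit 6, nat_lit 8], [nat_lit 4, nat_lit 8]]
theorem m23S_ok : fusOK (nat_lit 5) (nat_lit 32) (nat_lit 24) m24CertL.tail m23S m23SGens m23_2A.X
    m23SCos m23SSteps m23SWs = true := by decide +kernel
theorem m23S_card : chainCard (nat_lit 24) (m23S.map LevCert.L) = 2 ^ 7 := by decide +kernel
theorem m23S_cent : Nat.card ↥(Spor.M23 ⊓ Subgroup.centralizer {GE.perm m23_2A.X}) ≤
    m23SCos.length * 2 ^ 7 := by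
  rw [m23_classes.card m23_2A (by simp [m23Cl])]; decide
theorem m23S_fact : (Nat.card Spor.M23).factorization 2 = 7 :=
  factorization_eq (m := 79695) Nat.prime_two card_M23 (by norm_num)
/-- the properties of the Sylow 2-subgroup `GE.grp m23SGens` of `Spor.M23` -/
theorem m23S_spec : type_of% (m23_chain.of_fusOK m23S_ok m23S_card (by norm_num) m23S_cent) :=
  m23_chain.of_fusOK m23S_ok m23S_card (by norm_num) m23S_cent
theorem m23_fusion_simple {G : Type*} [Group G] (ι : G →* Equiv.Perm GolayPt)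
    (hι : Function.Injective ι) (hr : ι.range = Spor.M23) (S : Sylow 2 G) :
    (groupFusionSystem (S : Subgroup G)).IsSimple 2 :=
  m23_chain.fusion_simple m23S_ok m23S_card (by norm_num) m23S_cent m23S_fact ι hι hr S

def m24SGens : List ℕ := [nat_lit 0x521691d8e20b0d17960074c976d2b2, nat_lit 0x3b403585563104ea5ea98c9859c1e8, nat_lit 0x554cb124e3092ce94680bb58543e70, nat_lit 0x38e954354f8124514433b818eb2d26]
def m24SL0 : Lev := ⟨nat_lit 0, nat_lit 0x7dab4f, (.node (nat_lit 13) (.node (nat_lit 6) (.node (nat_lit 2) (.node (nat_lit 1) (.leaf (nat_lit 0xbdab49ca307b9ac5a928398a418820)) (.leaf (nat_lit 0xba6959b6307ba4a332c822ca710c01))) (.node (nat_lit 3) (.leaf (nat_lit 0x52e0f6ccf4ab117b38d22a49108062)) (.leaf (nat_lit 0x2ae6fa41cdadd0cb1d3251a2400462)))) (.node (nat_lit 9) (.node (nat_lit 8) (.leaf (nat_lit 0x38e954354f8124514433b818eb2d26)) (.leaf (nat_lit 0x521691d8e20b0d17960074c976d2b2))) (.node (nat_lit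 11) (.leaf (nat_lit 0x88913a3eed9160419c15505cc5d8c9)) (.leaf (nat_lit 0x3864d85553412850446fb898e49acb))))) (.node (nat_lit 19) (.node (nat_lit 16) (.node (nat_lit 15) (.leaf (nat_lit 0x8cc41b0eeb4940a831e6221c79568d)) (.leaf (nat_lit 0xbc8d61262303964a9e81534ac43e13))) (.node (nat_lit 18) (.leaf (nat_lit 0x64ec60ac801a931815e2720f76d2b2)) (.leaf (nat_lit 0x248223018959c6eade968b5459c1e8)))) (.node (nat_lit 21) (.node (nat_lit 20) (.leaf (nat_lit 0x7352b018a115ec4a1ea354a2c43e13)) (.leaf (nat_lit 0x8cc6048ae6b142c829eb3a1c46d2b2))) (.node (nat_lit 22) (.leaf (nat_lit 0x3b403585563104ea5ea98c9859c1e8)) (.leaf (nat_lit 0x281f06a1d4ac6670905260eea32576))))))⟩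
def m24SC0 : LevCert := ⟨m24SL0,
    [(nat_lit 8, nat_lit 0), (nat_lit 21, nat_lit 1), (nat_lit 6, nat_lit 3), (nat_lit 22, nat_lit 0), (nat_lit 3, nat_lit 2), (nat_lit 19, nat_lit 3), (nat_lit 1, nat_lit 0), (nat_lit 9, nat_lit 1), (nat_lit 20, nat_lit 3), (nat_lit 13, nat_lit 0), (nat_lit 15, nat_lit 1), (nat_lit 18, nat_lit 0), (nat_lit 16, nat_lit 1), (nat_lit 2, nat_lit 0), (nat_lit 11, nat_lit 1)],
    [[nat_lit 0, nat_lit 0, nat_lit 2, nat_lit 2, nat_lit 4, nat_lit 0, nat_lit 4, nat_lit 4, nat_lit 4, nat_lit 2, nat_lit 4, nat_lit 6, nat_lit 2, nat_lit 6, nat_lit 0, nat_lit 2], [nat_lit 8, nat_lit 2, nat_lit 4, nat_lit 2, nat_lit 8, nat_lit 4, nat_lit 2, nat_lit 4, nat_lit 4, nat_lit 8, nat_lit 8, nat_lit 8, nat_lit 6], [nat_lit 6, nat_lit 6, nat_lit 8, nat_lit 4, nat_lit 8, nat_lit 6]],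
    [nat_lit 0xbda0894e35695e45a8d43a5cc10c20, nat_lit 0x39aad4494f9b297496d072c9110c20, nat_lit 0xba64d4562f83a87312d362caa18820]⟩
def m24SL1 : Lev := ⟨nat_lit 5, nat_lit 0x8254b0, (.node (nat_lit 12) (.node (nat_lit 7) (.node (nat_lit 5) (.leaf (nat_lit 0x3da54855537b1ae5c4c8ba48510c20)) (.leaf (nat_lit 0xbdab49ca307b9ac5a928398a418820))) (.node (nat_lit 10) (.leaf (nat_lit 0x3a60fa4d4d9111733ad52ad9118820)) (.leaf (nat_lit 0x39aad4494f9b297496d072c9110c20)))) (.node (nat_lit 17) (.node (nat_lit 14) (.leaf (nat_lit 0x3da68ac152691e55c534b998e18820)) (.leaf (nat_lit 0xbda0894e35695e45a8d43a5cc10c20))) (.node (nat_lit 23) (.leaf (nat_lit 0x72eb4848b345da7b10cf6262a18820)) (.leaf (nat_lit 0x2ae08acdd2a5de7b312d21a2a10c20)))))⟩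
def m24SC1 : LevCert := ⟨m24SL1,
    [(nat_lit 14, nat_lit 0), (nat_lit 10, nat_lit 1), (nat_lit 7, nat_lit 1), (nat_lit 17, nat_lit 1), (nat_lit 4, nat_lit 2), (nat_lit 23, nat_lit 1), (nat_lit 12, nat_lit 2)],
    [[nat_lit 0, nat_lit 2, nat_lit 4, nat_lit 4, nat_lit 2, nat_lit 0, nat_lit 2, nat_lit 2, nat_lit 0, nat_lit 0, nat_lit 0], [nat_lit 2, nat_lit 4, nat_lit 6, nat_lit 4, nat_lit 6, nat_lit 6, nat_lit 6, nat_lit 2, nat_lit 6]],
    [nat_lit 0x8da6fac2f2a390c59ccd524a410c20, nat_lit 0xba64d4562f83a87312d362caa18820]⟩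
def m24SL2 : Lev := ⟨nat_lit 2, nat_lit 12, (.node (nat_lit 3) (.leaf (nat_lit 0xbdab49ca307b9ac5a928398a418820)) (.leaf (nat_lit 0x8da6fac2f2a390c59ccd524a410c20)))⟩
def m24SC2 : LevCert := ⟨m24SL2,
    [(nat_lit 3, nat_lit 0)],
    [[nat_lit 0, nat_lit 2, nat_lit 0, nat_lit 2], [nat_lit 2, nat_lit 4, nat_lit 2, nat_lit 2, nat_lit 2, nat_lit 2, nat_lit 2]],
    [nat_lit 0xbae957b6289ba44b1cd0524ac18820, nat_lit 0xb99b28523343aaa4b16f258a718820]⟩
def m24SL3 : Lev := ⟨nat_lit 4, nat_lit 0x1490, (.node (nat_lit 10) (.node (nat_lit 7) (.leaf (nat_lit 0xbdab49ca307b9ac5a928398a418820)) (.leaf (nat_lit 0xb99b28523343aaa4b16f258a718820))) (.node (nat_lit 12) (.leaf (nat_lit 0xba64d4562f83a87312d362caa18820)) (.leaf (nat_lit 0xbae957b6289ba44b1cd0524ac18820))))⟩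
def m24SC3 : LevCert := ⟨m24SL3,
    [(nat_lit 12, nat_lit 0), (nat_lit 7, nat_lit 1), (nat_lit 10, nat_lit 1)],
    [],
    []⟩
def m24S : List LevCert := [m24SC0, m24SC1, m24SC2, m24SC3]
def m24SL : List Lev := [m24SL0, m24SL1, m24SL2, m24SL3]
def m24SCos : List ℕ := [nat_lit 0xbdab49ca307b9ac5a928398a418820, nat_lit 0xb8aa86ca34991e71bad02ad8a32420, nat_lit 0x61a436d4f40dc514aa60241c57a176, nat_lit 0x282c2a2ced9a86c090d0ba5d1955e8, nat_lit 0x7544d30c897aa8793028282f15da70, nat_lit 0x2ae81835534c417b1de67208c95443, nat_lit 0x380cb7a588812ce0947388957a36b2, nat_lit 0x8b470789c80aa65a1d602599795526, nat_lit 0x8b51003dc119667a2a42656e4326cb, nat_lit 0x70076788e8aa9770c532218ac6d270, nat_lit 0x61960a59cd414274a86f888979c2b2, nat_lit 0x750d01a582ade7169012284ea5d9e8, nat_lit 0x752404d546790256c46860ae784d76, nat_lit 0x882d2a2dcd312b70aa69640e510de8, nat_lit 0x74028a018db29e499c4bb8e2595526, nat_lit 0x3a2035ccb66dc4a7b0148848e95526,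 nat_lit 0x62c5400ce1a95b7b121254e2e7a126, nat_lit 0x5590333ee96b05159254754a700613, nat_lit 0x3cc2b3014915ec483a432d62c7a28d, nat_lit 0x382d542dcf1124a0de0364e25325b4, nat_lit 0x20e72041c1b32b711ccb8a4aa6d1e8]
def m24SSteps : List (List ℕ × ℕ) := [([nat_lit 0], nat_lit 0x524f336e964663a8a04720253a976), ([nat_lit 0], nat_lit 0x254ca105590ce85c2cd9982f2ba37), ([nat_lit 0], nat_lit 0x1a2d821721baeaa9e627a494604b6), ([nat_lit 0], nat_lit 0x28a4eabe33b80c762d164c0836d02a), ([nat_lit 0, nat_lit 2], nat_lit 0x232d26d4e64b961540b49de2010d0f), ([nat_lit 0, nat_lit 4, nat_lit 10], nat_lit 0x142292ed078d288cd8daa8d43b897)]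
def m24SWs : List (List ℕ) := [[nat_lit 8, nat_lit 10, nat_lit 0], [nat_lit 4, nat_lit 4, nat_lit 2, nat_lit 2, nat_lit 2], [nat_lit 8, nat_lit 10, nat_lit 12, nat_lit 4], [nat_lit 6, nat_lit 6, nat_lit 8, nat_lit 14, nat_lit 12]]
theorem m24S_ok : fusOK (nat_lit 5) (nat_lit 32) (nat_lit 24) m24CertL m24S m24SGens m24_2A.X
    m24SCos m24SSteps m24SWs = true := by decide +kernel
theorem m24S_card : chainCard (nat_lit 24) (m24S.map LevCert.L) = 2 ^ 10 := by decide +kernel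
theorem m24S_cent : Nat.card ↥(M24 ⊓ Subgroup.centralizer {GE.perm m24_2A.X}) ≤
    m24SCos.length * 2 ^ 10 := by
  rw [m24_classes.card m24_2A (by simp [m24Cl])]; decide
theorem m24S_fact : (Nat.card M24).factorization 2 = 10 :=
  factorization_eq (m := 239085) Nat.prime_two card_M24 (by norm_num)
/-- the properties of the Sylow 2-subgroup `GE.grp m24SGens` of `M24` -/
theorem m24S_spec : type_of% (m24_chain.of_fusOK m24S_ok m24S_card (by norm_num) m24S_cent) :=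
  m24_chain.of_fusOK m24S_ok m24S_card (by norm_num) m24S_cent
theorem m24_fusion_simple {G : Type*} [Group G] (ι : G →* Equiv.Perm GolayPt)
    (hι : Function.Injective ι) (hr : ι.range = M24) (S : Sylow 2 G) :
    (groupFusionSystem (S : Subgroup G)).IsSimple 2 :=
  m24_chain.fusion_simple m24S_ok m24S_card (by norm_num) m24S_cent m24S_fact ι hι hr S

end Cfsg.Agent.H14
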