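/-
Extensions of a permutation group by a subquotient of its permutation module over `ZMod 2`: a verified calculus
with the tails of relators.  Words are numbers (base 16, letter `0` is the identity); a symbolic vector is a number
with one row of `U` bits for each point.
-/
import Cfsg.Agent.H14.Chain2
import Cfsg.Agent.H63.Pc
import Cfsg.Agent.H2.Gaschutz

set_option autoImplicit false

namespace Cfsg.Agent.H14

/-! ### bit vectors -/

/-- the value of the linear form with coefficients the low `U` bits of `X` -/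
def bv (u : ℕ → ZMod 2) (U X : ℕ) : ZMod 2 := ∑ i ∈ Finset.range U, if X.testBit i then u i else 0

theorem bv_zero (u : ℕ → ZMod 2) (U : ℕ) : bv u U 0 = 0 := by simp [bv]

theorem bv_xor (u : ℕ → ZMod 2) (U X Y : ℕ) : bv u U (X ^^^ Y) = bv u U X + bv u U Y := by
  rw [bv, bv, bv, ← Finset.sum_add_distrib]
  refine Finset.sum_congr rfl fun i _ => ?_
  rw [Nat.testBit_xor]
  cases X.testBit i <;> cases Y.testBit i <;> simp [CharTwo.add_self_eq_zero]

theorem bv_add (u v : ℕ → ZMod 2) (U X : ℕ) : bv (u + v) U X = bv u U X + bv v U X := by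
  rw [bv, bv, bv, ← Finset.sum_add_distrib]
  refine Finset.sum_congr rfl fun i _ => ?_
  split <;> simp

theorem bv_congr {u v : ℕ → ZMod 2} {U X Y : ℕ} (h : ∀ i < U, X.testBit i = Y.testBit i)
    (h' : ∀ i < U, u i = v i) : bv u U X = bv v U Y :=
  Finset.sum_congr rfl fun i hi => by rw [h i (Finset.mem_range.1 hi), h' i (Finset.mem_range.1 hi)]

theorem bv_mod (u : ℕ → ZMod 2) (U X : ℕ) : bv u U (X % 2 ^ U) = bv u U X :=
  bv_congr (fun i hi => by simp [hi]) fun _ _ => rfl

theorem bv_two_pow (u : ℕ → ZMod 2) {U i : ℕ} (h : i < U) : bv u U (2 ^ i) = u i := by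
  simp [bv, Nat.testBit_two_pow, h]

theorem bv_shift (u : ℕ → ZMod 2) {U d s X : ℕ} (hX : X < 2 ^ d) (h : s + d ≤ U) :
    bv u U (X <<< s) = bv (fun b => u (s + b)) d X := by
  obtain ⟨e, rfl⟩ := Nat.exists_eq_add_of_le h
  rw [bv, Finset.sum_range_add, Finset.sum_range_add, Finset.sum_eq_zero, zero_add,
    Finset.sum_eq_zero (s := Finset.range e), add_zero]
  · exact Finset.sum_congr rfl fun i _ => by simp
  · intro i _
    rw [Nat.testBit_shiftLeft, Nat.testBit_lt_two_pow
      (hX.trans_le (Nat.pow_le_pow_right (by omega) (by omega)))]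
    simp
  · intro i hi
    simp [Nat.testBit_shiftLeft, Nat.not_le.2 (Finset.mem_range.1 hi)]

theorem bv_row (u : ℕ → ZMod 2) (U X s p : ℕ) :
    bv u U (((X % 2 ^ U) <<< (U * s)) >>> (U * p)) = if s = p then bv u U X else 0 := by
  split
  · subst s
    rw [Nat.shiftLeft_shiftRight, bv_mod]
  · refine (bv_congr (Y := 0) (fun i hi => ?_) fun _ _ => rfl).trans (bv_zero u U)
    rw [Nat.testBit_shiftRight, Nat.testBit_shiftLeft, Nat.testBit_mod_two_pow, Nat.zero_testBit]
    rcases Nat.lt_or_gt_of_ne ‹¬ s = p› with h | h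
    · have := Nat.mul_le_mul_left U (Nat.succ_le_of_lt h)
      rw [Nat.mul_succ] at this
      simp [show ¬ U * p + i - U * s < U by omega]
    · have := Nat.mul_le_mul_left U (Nat.succ_le_of_lt h)
      rw [Nat.mul_succ] at this
      simp [show ¬ U * s ≤ U * p + i by omega]

/-- xor of `f 0, …, f (n - 1)` -/
noncomputable def xorN (n : ℕ) (f : ℕ → ℕ) : ℕ := Nat.rec 0 (fun i acc => Nat.xor acc (f i)) n

theorem bv_xorN (u : ℕ → ZMod 2) (U n s : ℕ) (f : ℕ → ℕ) :
    bv u U (xorN n f >>> s) = ∑ i ∈ Finset.range n, bv u U (f i >>> s) := by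
  induction n with
  | zero => simp [xorN, bv_zero]
  | succ n ih =>
    have : xorN (n + 1) f = xorN n f ^^^ f n := rfl
    rw [this, Nat.shiftRight_xor_distrib, bv_xor, ih, Finset.sum_range_succ]

/-- xor of the `f i` with `i` a bit of `m` -/
noncomputable def selN (n m : ℕ) (f : ℕ → ℕ) : ℕ := xorN n fun i => Bool.rec 0 (f i) (tb m i)

theorem bv_selN (u : ℕ → ZMod 2) (U n m : ℕ) (f : ℕ → ℕ) :
    bv u U (selN n m f) = bv (fun i => bv u U (f i)) n m := by
  refine (bv_xorN u U n 0 _).trans (Finset.sum_congr rfl fun i _ => ?_)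
  rw [tb_eq]
  cases m.testBit i
  exacts [bv_zero u U, rfl]

/-- `Y` with 64 extra low bits (the kernel hashes numbers by their low bits) -/
def aug (Y : ℕ) : ℕ := Nat.add (Nat.shiftLeft Y 64) (Nat.mod Y 18446744073709551557)

theorem aug_shift (Y : ℕ) : aug Y >>> 64 = Y := by
  have : aug Y = Y <<< 64 + Y % 18446744073709551557 := rfl
  rw [this, Nat.shiftRight_eq_div_pow, Nat.shiftLeft_eq]
  omega

/-- xor of the members of a list selected by the bits of `c` from `i` on -/
noncomputable def selI (c : ℕ) (L : List ℕ) : ℕ → ℕ → ℕ :=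
  List.rec (fun _ acc => acc) (fun X _ ih i acc => force (Nat.succ i) fun i' =>
    Bool.rec (ih i' acc) (force (Nat.xor acc X) (ih i')) (tb c i)) L

/-- xor of the members of a list selected by a mask -/
noncomputable def selL (L : List ℕ) (c acc : ℕ) : ℕ :=
  force (aug c) fun c => force acc (selI c L (nat_lit 64))

theorem bv_selL {u : ℕ → ZMod 2} {U : ℕ} {L : List ℕ} (h : ∀ X ∈ L, bv u U (X >>> 64) = 0)
    (c acc : ℕ) : bv u U (selL L c acc >>> 64) = bv u U (acc >>> 64) := by
  rw [selL, force_eq, force_eq]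
  generalize aug c = c
  suffices ∀ i, bv u U (selI c L i acc >>> 64) = bv u U (acc >>> 64) from this _
  intro i
  induction L generalizing i acc with
  | nil => rfl
  | cons X L ih =>
    have ih := ih fun Y hY => h Y (List.mem_cons_of_mem _ hY)
    have : selI c (X :: L) i acc = force (Nat.succ i) fun i' => Bool.rec (selI c L i' acc)
      (force (Nat.xor acc X) (selI c L i')) (tb c i) := rfl
    rw [this, force_eq, force_eq]
    cases tb c i
    · exact ih _ _
    · exact (ih _ _).trans ((congrArg _ Nat.shiftRight_xor_distrib).trans ((bv_xor u U _ _).trans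
        (by rw [h X List.mem_cons_self, add_zero])))

/-! ### words -/

/-- the value of a word -/
def evW {G : Type*} [Group G] (x : ℕ → G) (W : ℕ) : G :=
  if W = 0 then 1 else x (W % 16) * evW x (W / 16)
decreasing_by omega

section

variable {G : Type*} [Group G] {x : ℕ → G}

theorem evW_zero : evW x 0 = 1 := by rw [evW, if_pos rfl]

theorem evW_step (hx : x 0 = 1) (W : ℕ) : evW x W = x (W % 16) * evW x (W / 16) := by
  by_cases h : W = 0
  · subst h; simp [evW_zero, hx]
  · rw [evW, if_neg h]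

theorem evW_add (hx : x 0 = 1) {p A : ℕ} (h : A < 16 ^ p) (B : ℕ) :
    evW x (A + 16 ^ p * B) = evW x A * evW x B := by
  induction p generalizing A with
  | zero => obtain rfl : A = 0 := by omega
            simp [evW_zero]
  | succ p ih =>
    rw [pow_succ] at h
    rw [evW_step hx, evW_step hx A, mul_assoc, ← ih (by omega), pow_succ, mul_right_comm]
    congr 2 <;> omega

theorem evW_split (hx : x 0 = 1) (p W : ℕ) : evW x W = evW x (W % 16 ^ p) * evW x (W / 16 ^ p) := by
  rw [← evW_add hx (Nat.mod_lt _ (by positivity)), Nat.mod_add_div]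

theorem evW_mem (hx : x 0 = 1) {H : Subgroup G} {L W : ℕ} (hW : W < 16 ^ L)
    (h : ∀ p < L, x (app 4 16 W p) ∈ H) : evW x W ∈ H := by
  induction L generalizing W with
  | zero => obtain rfl : W = 0 := by omega
            rw [evW_zero]; exact H.one_mem
  | succ L ih =>
    rw [pow_succ] at hW
    rw [evW_step hx]
    refine H.mul_mem (by simpa [app_def] using h 0 (by omega)) (ih (by omega) fun p hp => ?_)
    have := h (p + 1) (by omega)
    rwa [app_def, mul_add, add_comm, pow_add, ← Nat.div_div_eq_div_mul, ← app_def] at this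

theorem map_evW {H : Type*} [Group H] (f : G →* H) (W : ℕ) : f (evW x W) = evW (f ∘ x) W := by
  induction W using Nat.strong_induction_on with
  | _ W ih =>
    by_cases h : W = 0
    · subst h; simp [evW_zero]
    · rw [evW, if_neg h, map_mul, ih _ (by omega), eq_comm, evW, if_neg h]; rfl

end

/-- `P` times the value of the first `f` letters of `W` -/
noncomputable def pev (k M n : ℕ) (gens : List ℕ) (I f : ℕ) : ℕ → ℕ → ℕ :=
  Nat.rec (fun _ P => P) (fun _ ih W P => force (comp k M n P (nthD gens I (Nat.mod W 16))) fun P' =>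
    force (Nat.shiftRight W 4) fun W' => ih W' P') f

/-- the rows `f q` moved by the permutation `P` -/
noncomputable def actF (k M n U Z P : ℕ) (f : ℕ → ℕ) : ℕ :=
  xorN n fun q => Nat.shiftLeft (Nat.mod (f q) Z) (Nat.mul U (app k M P q))

/-- the data of the calculus: `U` unknowns (`Z = 2 ^ U`), the module (`d`, `D = 2 ^ d`, `BT`, `chk`), the letters
and `NR` rules -/
structure XD where
  U : ℕ
  Z : ℕ
  d : ℕ
  D : ℕ
  BT : ℕ
  chk : List ℕ
  gens : List ℕ
  NR : ℕ
  RT : ℕ

namespace XD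

variable (X : XD) (k M n : ℕ)

/-- side `s` of rule `j` -/
def side (j s : ℕ) : ℕ :=
  app 64 18446744073709551616 X.RT (Nat.add (Nat.mul 4 j) (Nat.mul 2 s))
/-- the length of side `s` of rule `j` -/
def slen (j s : ℕ) : ℕ :=
  app 64 18446744073709551616 X.RT (Nat.succ (Nat.add (Nat.mul 4 j) (Nat.mul 2 s)))
/-- row `q` of the tail of rule `j` -/
def trow (j q : ℕ) : ℕ := Nat.shiftLeft (app X.d X.D X.BT q) (Nat.mul X.d j)

/-- the rules hold for the permutations -/
noncomputable def rulesOK : Bool :=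
  force (idP k n) fun I => Nat.beq X.Z (Nat.pow 2 X.U) && Nat.beq X.D (Nat.pow 2 X.d) &&
    allN X.NR fun j => Nat.blt (X.side j 0) (Nat.pow 16 (X.slen j 0)) &&
      Nat.blt (X.side j 1) (Nat.pow 16 (X.slen j 1)) &&
      Nat.beq (pev k M n X.gens I (X.slen j 0) (X.side j 0) I)
        (pev k M n X.gens I (X.slen j 1) (X.side j 1) I)

/-- apply a list of rewriting steps -/
noncomputable def run (I : ℕ) (st : List ℕ) (κ : ℕ → ℕ → Bool) : ℕ → ℕ → Bool :=
  List.rec κ (fun c _ ih W T => force (Nat.mod c 2) fun s =>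
    force (Nat.mod (Nat.shiftRight c 1) 256) fun j => force (Nat.shiftRight c 9) fun p =>
    force (Nat.pow 16 p) fun B => force (Nat.div W B) fun V => force (Nat.pow 16 (X.slen j s)) fun C =>
      Nat.blt j X.NR && Nat.beq (Nat.mod V C) (X.side j s) &&
        force (Nat.add (Nat.mod W B) (Nat.mul B (Nat.add (X.side j (Nat.sub 1 s))
          (Nat.mul (Nat.pow 16 (X.slen j (Nat.sub 1 s))) (Nat.div V C))))) fun W' =>
        force (pev k M n X.gens I p W I) fun P =>
        force (Nat.xor T (actF k M n X.U X.Z P (X.trow j))) (ih W')) st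

theorem run_cons (I c : ℕ) (st : List ℕ) (κ : ℕ → ℕ → Bool) (W T : ℕ) :
    X.run k M n I (c :: st) κ W T = force (Nat.mod c 2) fun s =>
    force (Nat.mod (Nat.shiftRight c 1) 256) fun j => force (Nat.shiftRight c 9) fun p =>
    force (Nat.pow 16 p) fun B => force (Nat.div W B) fun V => force (Nat.pow 16 (X.slen j s)) fun C =>
      Nat.blt j X.NR && Nat.beq (Nat.mod V C) (X.side j s) &&
        force (Nat.add (Nat.mod W B) (Nat.mul B (Nat.add (X.side j (Nat.sub 1 s))
          (Nat.mul (Nat.pow 16 (X.slen j (Nat.sub 1 s))) (Nat.div V C))))) fun W' =>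
        force (pev k M n X.gens I p W I) fun P =>
        force (Nat.xor T (actF k M n X.U X.Z P (X.trow j))) (X.run k M n I st κ W') := rfl

/-- the check `m` of the symbolic vector `T` -/
noncomputable def crow (T m : ℕ) : ℕ :=
  Nat.mod (selN n m fun q => Nat.shiftRight T (Nat.mul X.U q)) X.Z

/-- add the checks of `T` to a list -/
noncomputable def addRows (T : ℕ) (ms : List ℕ) (κ : List ℕ → Bool) : List ℕ → Bool :=
  List.rec κ (fun m _ ih L => force (aug (X.crow n T m)) fun Y => ih (Y :: L)) ms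

/-- run the loops and collect the relations -/
noncomputable def loops (I : ℕ) (ls : List (ℕ × List ℕ)) (κ : List ℕ → Bool) : List ℕ → Bool :=
  List.rec κ (fun l _ ih L =>
    X.run k M n I l.2 (fun W T => Nat.beq W l.1 && X.addRows n T X.chk ih L) l.1 0) ls

/-- row `q` of the correction of letter `c` -/
noncomputable def mrow (CC c q : ℕ) : ℕ :=
  Nat.rec 0 (fun c' _ => selN X.d (app X.d X.D X.BT q) fun b =>
    app X.U X.Z CC (Nat.add (Nat.mul X.d c') b)) c

/-- the change of the value of a word caused by the corrections -/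
noncomputable def wt (I CC f : ℕ) : ℕ → ℕ → ℕ → ℕ :=
  Nat.rec (fun _ _ T => T) (fun _ ih W P T => force (Nat.mod W 16) fun c =>
    force (Nat.xor T (actF k M n X.U X.Z P (X.mrow CC c))) fun T' =>
    force (comp k M n P (nthD X.gens I c)) fun P' => force (Nat.shiftRight W 4) fun W' =>
      ih W' P' T') f

/-- the tail of rule `j` for the corrected letters; `f` gives the rows of the old tail -/
noncomputable def newT (I CC j : ℕ) (f : ℕ → ℕ) : ℕ :=
  Nat.xor (Nat.xor (X.wt k M n I CC (X.slen j 0) (X.side j 0) I 0) (actF k M n X.U X.Z I f))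
    (X.wt k M n I CC (X.slen j 1) (X.side j 1) I 0)

/-- the checks `ms` of `T` are combinations of the members of `L` -/
noncomputable def combOK (L : List ℕ) (T : ℕ) (ms : List ℕ) : List ℕ → Bool :=
  List.rec (fun _ => true) (fun m _ ih cs => List.rec false (fun c cs _ =>
    Nat.beq (Nat.shiftRight (selL L c (aug (X.crow n T m))) 64) 0 && ih cs) cs) ms

/-- the first rules form a polycyclic presentation on the letters `1, …, e` -/
noncomputable def pcOK (e : ℕ) : Bool :=
  Nat.ble e 15 && allN e fun i => force (Nat.div (Nat.mul i (Nat.succ i)) 2) fun r => Nat.blt (Nat.add r i) X.NR &&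
    Nat.beq (X.side r 0) (Nat.mul 17 (Nat.succ i)) &&
    allN 16 (fun p => Nat.ble (app 4 16 (X.side r 1) p) i) &&
    allN i fun j => force (Nat.succ (Nat.add r j)) fun r' =>
      Nat.beq (X.side r' 0) (Nat.add (Nat.succ j) (Nat.mul 16 (Nat.succ i))) &&
      Nat.beq (Nat.mod (X.side r' 1) 16) (Nat.succ i) &&
      allN 16 fun p => Nat.ble (app 4 16 (Nat.div (X.side r' 1) 16) p) i

/-- the certificate: modulo the relations from the loops and `lam`, the corrected letters satisfy the first `m` rules -/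
noncomputable def splitOK (lam : List ℕ) (ls : List (ℕ × List ℕ)) (CC : ℕ) (cs : List (List ℕ)) : Bool :=
  force (idP k n) fun I => Nat.ble (Nat.mul X.d X.NR) X.U &&
    X.loops k M n I ls (fun L => List.rec (motive := fun _ => ℕ → Bool) (fun _ => true)
      (fun c _ ih j => force (X.newT k M n I CC j (X.trow j)) (fun T => X.combOK n L T X.chk c) &&
        force (Nat.succ j) ih) cs 0) (lam.map aug)

/-- add the checks of the new tails of the rules `j` with old tails given by the masks `m` -/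
noncomputable def tgts (I CC : ℕ) (js : List (ℕ × ℕ)) (κ : List ℕ → Bool) : List ℕ → Bool :=
  List.rec κ (fun j _ ih L => Nat.blt j.1 X.NR &&
    force (X.newT k M n I CC j.1 fun q => Bool.rec 0 1 (tb j.2 q)) fun T => X.addRows n T X.chk ih L) js

/-- the certificate that no corrections of the letters `1, …, e` satisfy the rules `js` -/
noncomputable def nsOK (e CC : ℕ) (js : List (ℕ × ℕ)) (c : ℕ) : Bool :=
  force (idP k n) fun I => Nat.blt (Nat.mul X.d e) X.U &&
    allN (Nat.mul X.d e) (fun i => Nat.beq (app X.U X.Z CC i) (Nat.pow 2 (Nat.succ i))) &&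
    allL js (fun j => allN 2 fun s => allN 16 fun p => Nat.ble (app 4 16 (X.side j.1 s) p) e) &&
    X.tgts k M n I CC js (fun L => Nat.beq (Nat.shiftRight (selL L c 0) 64) 1) []

end XD

/-! ### soundness -/

section

variable {α : Type*} {n k M : ℕ} (E : Enc α n k M)

/-- the vector with rows `f` -/
def Enc.rowV (u : ℕ → ZMod 2) (U : ℕ) (f : ℕ → ℕ) : α → ZMod 2 := fun a => bv u U (f (E.ix a))

/-- the vector given by a packed symbolic vector -/
def Enc.symV (u : ℕ → ZMod 2) (U T : ℕ) : α → ZMod 2 := E.rowV u U fun q => T >>> (U * q)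

theorem Enc.symV_zero (u : ℕ → ZMod 2) (U : ℕ) : E.symV u U 0 = 0 :=
  funext fun a => by simp [Enc.symV, Enc.rowV, bv_zero]

theorem Enc.symV_xor (u : ℕ → ZMod 2) (U S T : ℕ) :
    E.symV u U (Nat.xor S T) = E.symV u U S + E.symV u U T :=
  funext fun _ => (congrArg (bv u U) Nat.shiftRight_xor_distrib).trans (bv_xor _ _ _ _)

theorem Enc.symV_actF (u : ℕ → ZMod 2) (U : ℕ) (g : Equiv.Perm α) (f : ℕ → ℕ) :
    E.symV u U (actF k M n U (2 ^ U) (E.pk g) f) = E.rowV u U f ∘ ⇑g⁻¹ := by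
  funext a
  obtain ⟨a, rfl⟩ := g.surjective a
  refine (bv_xorN u U n _ _).trans ((Finset.sum_eq_single (E.ix a) (fun q hq hne => ?_)
    fun h => absurd (Finset.mem_range.2 (E.ix_lt a)) h).trans ?_)
  · refine (bv_row u U _ _ _).trans (if_neg fun e => hne ?_)
    rw [E.app_pk_of_lt g (Finset.mem_range.1 hq), E.ix_inj, g.apply_eq_iff_eq] at e
    rw [← e, E.ix_pt _ (Finset.mem_range.1 hq)]
  · exact (bv_row u U _ _ _).trans ((if_pos (E.app_pk g a)).trans (by simp [Enc.rowV]))

variable {G : Type*} [Group G] (π : G →* Equiv.Perm α)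

/-- `R w x`: the vector `w` represents the element `x` of the kernel of `π` -/
structure Mod (d BT : ℕ) (chk : List ℕ) (R : (α → ZMod 2) → G → Prop) : Prop where
  zero : R 0 1
  add : ∀ {w w' x x'}, R w x → R w' x' → R (w + w') (x * x')
  conj : ∀ (g) {w x}, R w x → R (w ∘ ⇑(π g)⁻¹) (g * x * g⁻¹)
  ker : ∀ {w x}, R w x → π x = 1
  ex_ker : ∀ x, π x = 1 → ∃ c, R (E.rowV c d (app d (2 ^ d) BT)) x
  ex_lin : ∀ c, ∃ x, R (E.rowV c d (app d (2 ^ d) BT)) x
  eq_one : ∀ {w x}, R w x → (x = 1 ↔ ∀ m ∈ chk, bv (w ∘ E.pt) n m = 0)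

variable {E π} {R : (α → ZMod 2) → G → Prop} {x : ℕ → G} {X : XD} {u : ℕ → ZMod 2}

theorem Mod.mul_self {d BT : ℕ} {chk : List ℕ} (h : Mod E π d BT chk R) {w : α → ZMod 2} {a : G}
    (ha : R w a) : a * a = 1 :=
  (h.eq_one (h.add ha ha)).2 fun m _ => by simp [bv, CharTwo.add_self_eq_zero]

theorem Mod.inv_eq {d BT : ℕ} {chk : List ℕ} (h : Mod E π d BT chk R) {w : α → ZMod 2} {a : G}
    (ha : R w a) : a⁻¹ = a := inv_eq_of_mul_eq_one_right (h.mul_self ha)

theorem pev_spec (hx0 : x 0 = 1) {gens : List ℕ} {I : ℕ} (hx : ∀ c, E.pk (π (x c)) = nthD gens I c)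
    (f W : ℕ) (g : G) : pev k M n gens I f W (E.pk (π g)) = E.pk (π (g * evW x (W % 16 ^ f))) := by
  induction f generalizing W g with
  | zero => rw [pow_zero, Nat.mod_one, evW_zero, mul_one]; rfl
  | succ f ih =>
    have : pev k M n gens I (f + 1) W (E.pk (π g)) =
      force (comp k M n (E.pk (π g)) (nthD gens I (W % 16))) fun P' =>
        force (W >>> 4) fun W' => pev k M n gens I f W' P' := rfl
    rw [this, force_eq, force_eq, ← hx, ← E.pk_mul, ← map_mul, ih, Nat.shiftRight_eq_div_pow,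
      evW_step hx0 (W % 16 ^ (f + 1)), pow_succ' 16, Nat.mod_mul_right_div_self,
      Nat.mod_mod_of_dvd _ (dvd_mul_right _ _), mul_assoc]

/-- the tail of rule `j` -/
def XD.tail (X : XD) (x : ℕ → G) (j : ℕ) : G := evW x (X.side j 0) * (evW x (X.side j 1))⁻¹

/-- the hypotheses on the letters -/
structure Lift (E : Enc α n k M) (π : G →* Equiv.Perm α) (X : XD) (x : ℕ → G) : Prop where
  zero : x 0 = 1
  pk : ∀ c, E.pk (π (x c)) = nthD X.gens (idP k n) c
  ok : X.rulesOK k M n = true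

theorem Lift.spec (h : Lift E π X x) : X.Z = 2 ^ X.U ∧ X.D = 2 ^ X.d ∧ ∀ j < X.NR,
    (∀ s < 2, X.side j s < 16 ^ X.slen j s) ∧ π (evW x (X.side j 0)) = π (evW x (X.side j 1)) := by
  have := h.ok
  simp only [XD.rulesOK, force_eq, Bool.and_eq_true, beq_iff, allN_iff, Nat.blt_eq] at this
  refine ⟨this.1.1, this.1.2, fun j hj => ?_⟩
  obtain ⟨⟨h1, h2⟩, h3⟩ := this.2 j hj
  refine ⟨fun s hs => by interval_cases s <;> assumption, E.pk_injective ?_⟩
  have e : ∀ f W, pev k M n X.gens (idP k n) f W (idP k n) = _ := fun f W => by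
    simpa only [map_one, E.pk_one, one_mul] using pev_spec h.zero h.pk f W 1
  rwa [e, e, Nat.mod_eq_of_lt (b := 16 ^ _) h1, Nat.mod_eq_of_lt (b := 16 ^ _) h2] at h3

theorem Lift.tail_ker (h : Lift E π X x) {j : ℕ} (hj : j < X.NR) : π (X.tail x j) = 1 := by
  rw [XD.tail, map_mul, map_inv, (h.spec.2.2 j hj).2, mul_inv_cancel]

theorem rowV_trow (hl : Lift E π X x) {j : ℕ} (hj : X.d * j + X.d ≤ X.U) :
    E.rowV u X.U (X.trow j) = E.rowV (fun b => u (X.d * j + b)) X.d (app X.d (2 ^ X.d) X.BT) :=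
  funext fun a => by
    rw [Enc.rowV, XD.trow, hl.spec.2.1]
    exact bv_shift u (Nat.mod_lt _ (by positivity)) hj

theorem run_spec (h : Mod E π X.d X.BT X.chk R) (hl : Lift E π X x)
    (hu : ∀ j < X.NR, R (E.rowV u X.U (X.trow j)) (X.tail x j)) (st : List ℕ) {κ : ℕ → ℕ → Bool}
    {W T : ℕ} {a : G} (ha : R (E.symV u X.U T) a)
    (hr : X.run k M n (idP k n) st κ W T = true) :
    ∃ W' T' a', R (E.symV u X.U T') a' ∧ a * evW x W = a' * evW x W' ∧ κ W' T' = true := by
  induction st generalizing W T a with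
  | nil => exact ⟨W, T, a, ha, rfl, hr⟩
  | cons c st ih =>
    rw [XD.run_cons] at hr
    simp only [force_eq, Bool.and_eq_true, beq_iff, Nat.blt_eq] at hr
    obtain ⟨⟨h1, h2⟩, h3⟩ := hr
    have hs : Nat.mod c 2 < 2 := Nat.mod_lt _ (by decide)
    generalize Nat.mod c 2 = s at *
    generalize Nat.mod (Nat.shiftRight c 1) 256 = j at *
    generalize Nat.shiftRight c 9 = p at *
    have e := pev_spec hl.zero hl.pk p W 1
    rw [map_one, E.pk_one, one_mul] at e
    rw [e, hl.spec.1] at h3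
    have h4 := h.add ha (h.conj (evW x (W % 16 ^ p)) (hu j h1))
    rw [← E.symV_actF, ← E.symV_xor] at h4
    obtain ⟨W', T', a', h5, h6, h7⟩ := ih h4 h3
    refine ⟨W', T', a', h5, Eq.trans ?_ h6, h7⟩
    have h8 : evW x (X.side j s) = X.tail x j * evW x (X.side j (1 - s)) := by
      interval_cases s
      · simp [XD.tail]
      · rw [← h.inv_eq (hu j h1)]; simp [XD.tail]
    have h9 : W / 16 ^ p % 16 ^ X.slen j s = X.side j s := h2
    have h10 := evW_add hl.zero (Nat.mod_lt W (by positivity : 0 < 16 ^ p)) (X.side j (1 - s) +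
      16 ^ X.slen j (1 - s) * (W / 16 ^ p / 16 ^ X.slen j s))
    rw [evW_add hl.zero ((hl.spec.2.2 j h1).1 _ (by omega))] at h10
    rw [evW_split hl.zero p W, evW_split hl.zero (X.slen j s) (W / 16 ^ p), h9, h8]
    refine Eq.trans ?_ (congrArg _ h10.symm)
    simp only [mul_assoc, inv_mul_cancel_left]

theorem crow_spec (hZ : X.Z = 2 ^ X.U) (T m : ℕ) :
    bv u X.U (X.crow n T m) = bv (E.symV u X.U T ∘ E.pt) n m := by
  rw [XD.crow, hZ]
  exact (bv_mod _ _ _).trans ((bv_selN _ _ _ _ _).trans (bv_congr (fun _ _ => rfl) fun i hi => by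
    simp [Enc.symV, Enc.rowV, E.ix_pt i hi]))

theorem addRows_spec {T : ℕ} {ms : List ℕ} (h : ∀ m ∈ ms, bv u X.U (X.crow n T m) = 0)
    {κ : List ℕ → Bool} {L : List ℕ} (hL : ∀ Y ∈ L, bv u X.U (Y >>> 64) = 0)
    (hr : X.addRows n T ms κ L = true) : ∃ L', (∀ Y ∈ L', bv u X.U (Y >>> 64) = 0) ∧ κ L' = true := by
  induction ms generalizing L with
  | nil => exact ⟨L, hL, hr⟩
  | cons m ms ih =>
    have hr : force (aug (X.crow n T m)) (fun Y => X.addRows n T ms κ (Y :: L)) = true := hr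
    rw [force_eq] at hr
    exact ih (fun m hm => h m (List.mem_cons_of_mem _ hm))
      (List.forall_mem_cons.2 ⟨by rw [aug_shift, h m List.mem_cons_self], hL⟩) hr

theorem loops_spec (h : Mod E π X.d X.BT X.chk R) (hl : Lift E π X x)
    (hu : ∀ j < X.NR, R (E.rowV u X.U (X.trow j)) (X.tail x j)) (ls : List (ℕ × List ℕ))
    {κ : List ℕ → Bool} {L : List ℕ} (hL : ∀ Y ∈ L, bv u X.U (Y >>> 64) = 0)
    (hr : X.loops k M n (idP k n) ls κ L = true) :
    ∃ L', (∀ Y ∈ L', bv u X.U (Y >>> 64) = 0) ∧ κ L' = true := by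
  induction ls generalizing L with
  | nil => exact ⟨L, hL, hr⟩
  | cons l ls ih =>
    obtain ⟨W, T, a, h1, h2, h3⟩ := run_spec h hl hu l.2 (E.symV_zero u X.U ▸ h.zero) hr
    rw [Bool.and_eq_true, beq_iff] at h3
    rw [h3.1, mul_left_inj] at h2
    obtain ⟨L', h4, h5⟩ := addRows_spec (fun m hm => (crow_spec hl.spec.1 T m).trans
      ((h.eq_one h1).1 h2.symm m hm)) hL h3.2
    exact ih h4 h5

theorem wt_spec (h : Mod E π X.d X.BT X.chk R) (hl : Lift E π X x) {CC : ℕ} {m : ℕ → G} (h0 : m 0 = 1)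
    {e : ℕ} (hm : ∀ c ≤ e, R (E.rowV u X.U (X.mrow CC c)) (m c)) (f : ℕ) {W T : ℕ} (hW : W < 16 ^ f)
    (he : ∀ p, app 4 16 W p ≤ e) (g : G) {a : G} (ha : R (E.symV u X.U T) a) :
    ∃ a', R (E.symV u X.U (X.wt k M n (idP k n) CC f W (E.pk (π g)) T)) a' ∧
      a * g * evW (m * x) W = a' * g * evW x W := by
  induction f generalizing W T g a with
  | zero =>
    obtain rfl : W = 0 := by omega
    exact ⟨a, ha, by rw [evW_zero, evW_zero]⟩
  | succ f ih =>
    have : X.wt k M n (idP k n) CC (f + 1) W (E.pk (π g)) T = force (W % 16) fun c =>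
      force (Nat.xor T (actF k M n X.U X.Z (E.pk (π g)) (X.mrow CC c))) fun T' =>
      force (comp k M n (E.pk (π g)) (nthD X.gens (idP k n) c)) fun P' => force (W >>> 4) fun W' =>
        X.wt k M n (idP k n) CC f W' P' T' := rfl
    rw [this, force_eq, force_eq, force_eq, force_eq, ← hl.pk, ← E.pk_mul, ← map_mul, hl.spec.1,
      Nat.shiftRight_eq_div_pow]
    have h4 := h.add ha (h.conj g (hm (W % 16) (by simpa [app_def] using he 0)))
    rw [← E.symV_actF, ← E.symV_xor] at h4
    rw [pow_succ] at hW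
    obtain ⟨a', h5, h6⟩ := ih (W := W / 16) (by omega) (fun p => by
      have := he (p + 1)
      rwa [app_def, mul_add, add_comm, pow_add, ← Nat.div_div_eq_div_mul, ← app_def] at this) _ h4
    refine ⟨a', h5, ?_⟩
    rw [evW_step (x := m * x) (by simp [h0, hl.zero]), evW_step hl.zero W]
    simpa [mul_assoc] using h6

theorem newT_spec (h : Mod E π X.d X.BT X.chk R) (hl : Lift E π X x) {CC : ℕ} {m : ℕ → G}
    (h0 : m 0 = 1) {e : ℕ} (hm : ∀ c ≤ e, R (E.rowV u X.U (X.mrow CC c)) (m c)) {j : ℕ} (hj : j < X.NR)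
    (he : ∀ s < 2, ∀ p, app 4 16 (X.side j s) p ≤ e) {f : ℕ → ℕ}
    (hf : R (E.rowV u X.U f) (X.tail x j)) :
    evW (m * x) (X.side j 0) = evW (m * x) (X.side j 1) ↔
      ∀ c ∈ X.chk, bv u X.U (X.crow n (X.newT k M n (idP k n) CC j f) c) = 0 := by
  have z := E.symV_zero u X.U ▸ h.zero
  obtain ⟨a, h1, h2⟩ := wt_spec h hl h0 hm _ ((hl.spec.2.2 j hj).1 0 (by decide)) (he 0 (by decide)) 1 z
  obtain ⟨b, h3, h4⟩ := wt_spec h hl h0 hm _ ((hl.spec.2.2 j hj).1 1 (by decide)) (he 1 (by decide)) 1 z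
  have h5 : R (E.symV u X.U (actF k M n X.U X.Z (idP k n) f)) (X.tail x j) := by
    rw [hl.spec.1, ← E.pk_one, E.symV_actF]; exact hf
  rw [map_one, E.pk_one] at h1 h3
  have h6 := h.add (h.add h1 h5) h3
  rw [← E.symV_xor, ← E.symV_xor] at h6
  simp only [crow_spec (E := E) hl.spec.1]
  refine Iff.trans ?_ (h.eq_one h6)
  simp only [one_mul, mul_one] at h2 h4
  rw [h2, h4, XD.tail, mul_eq_one_iff_eq_inv, h.inv_eq h3, ← mul_assoc, mul_inv_eq_iff_eq_mul]

theorem combOK_spec {L : List ℕ} (hL : ∀ Y ∈ L, bv u X.U (Y >>> 64) = 0) {T : ℕ} {ms cs : List ℕ}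
    (h : X.combOK n L T ms cs = true) : ∀ m ∈ ms, bv u X.U (X.crow n T m) = 0 := by
  induction ms generalizing cs with
  | nil => simp
  | cons m ms ih =>
    cases cs with
    | nil => exact absurd h Bool.false_ne_true
    | cons c cs =>
      have : (Nat.beq (selL L c (aug (X.crow n T m)) >>> 64) 0 && X.combOK n L T ms cs) = true := h
      rw [Bool.and_eq_true, beq_iff] at this
      exact List.forall_mem_cons.2 ⟨by rw [← aug_shift (X.crow n T m), ← bv_selL hL c, this.1, bv_zero], ih this.2⟩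

theorem app16_le {W : ℕ} (hW : W < 16 ^ 16) {e : ℕ} (h : ∀ p < 16, app 4 16 W p ≤ e) (p : ℕ) :
    app 4 16 W p ≤ e := by
  by_cases hp : p < 16
  · exact h p hp
  · rw [app_def, Nat.div_eq_of_lt (hW.trans_le (by
      rw [pow_mul]; exact Nat.pow_le_pow_right (by decide) (by omega)))]
    exact Nat.zero_le _

theorem XD.side_lt (X : XD) (j s : ℕ) : X.side j s < 16 ^ 16 := Nat.mod_lt _ (by decide)

theorem rowV_mrow (hl : Lift E π X x) (CC c : ℕ) : E.rowV u X.U (X.mrow CC (c + 1)) =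
    E.rowV (fun b => bv u X.U (app X.U X.Z CC (X.d * c + b))) X.d (app X.d (2 ^ X.d) X.BT) :=
  funext fun a => by rw [← hl.spec.2.1]; exact bv_selN _ _ _ _ _

/-- corrected letters satisfy the first rules -/
theorem exists_rules (h : Mod E π X.d X.BT X.chk R) (hl : Lift E π X x)
    (hu : ∀ j < X.NR, R (E.rowV (fun b => u (X.d * j + b)) X.d (app X.d (2 ^ X.d) X.BT)) (X.tail x j))
    {lam : List ℕ} (hlam : ∀ Y ∈ lam, bv u X.U Y = 0) {ls : List (ℕ × List ℕ)} {CC : ℕ}
    {cs : List (List ℕ)} (hc : X.splitOK k M n lam ls CC cs = true) :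
    ∃ y : ℕ → G, y 0 = 1 ∧ (∀ c, π (y c) = π (x c)) ∧
      ∀ j < X.NR, j < cs.length → evW y (X.side j 0) = evW y (X.side j 1) := by
  simp only [XD.splitOK, force_eq, Bool.and_eq_true, ble_iff] at hc
  have hu' : ∀ j < X.NR, R (E.rowV u X.U (X.trow j)) (X.tail x j) := fun j hj => by
    rw [rowV_trow hl (le_trans (Nat.mul_le_mul_left X.d (Nat.succ_le_of_lt hj)) hc.1)]
    exact hu j hj
  obtain ⟨L, hL, h1⟩ := loops_spec h hl hu' ls (List.forall_mem_map.2 fun Y hY => by
    rw [aug_shift, hlam Y hY]) hc.2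
  have : ∀ c, ∃ m, R (E.rowV u X.U (X.mrow CC c)) m ∧ (c = 0 → m = 1) := fun c => by
    cases c with
    | zero => exact ⟨1, by convert h.zero; exact funext fun _ => bv_zero _ _, fun _ => rfl⟩
    | succ c => rw [rowV_mrow hl]; exact (h.ex_lin _).imp fun m hm => ⟨hm, by omega⟩
  choose m hm h0 using this
  refine ⟨m * x, by simp [h0, hl.zero], fun c => by simp [h.ker (hm c)], fun j hj hj' => ?_⟩
  refine (newT_spec h hl (h0 0 rfl) (e := 16) (fun c _ => hm c) hj
    (fun _ _ _ => (Nat.mod_lt _ (by decide)).le) (hu' j hj)).2 ?_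
  have key : ∀ (cs : List (List ℕ)) (i : ℕ), List.rec (motive := fun _ => ℕ → Bool) (fun _ => true)
      (fun c _ ih j => X.combOK n L (X.newT k M n (idP k n) CC j (X.trow j)) X.chk c &&
        ih (Nat.succ j)) cs i = true → ∀ j < cs.length, ∀ c ∈ X.chk,
      bv u X.U (X.crow n (X.newT k M n (idP k n) CC (i + j) (X.trow (i + j))) c) = 0 := by
    intro cs
    induction cs with
    | nil => simp
    | cons c cs ih =>
      intro i hi j hj
      rw [Bool.and_eq_true] at hi
      cases j with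
      | zero => exact combOK_spec hL hi.1
      | succ j => rw [add_comm j, ← add_assoc]; exact ih _ hi.2 j (by simpa using hj)
  simpa using key cs 0 h1 j hj'

theorem card_dvd_of_pcOK [Finite G] {y : ℕ → G} (h0 : y 0 = 1) {e : ℕ} (hp : X.pcOK e = true)
    (hy : ∀ j < X.NR, j < e * (e + 1) / 2 → evW y (X.side j 0) = evW y (X.side j 1)) :
    ∃ A : Subgroup G, Nat.card A ∣ 2 ^ e ∧ ∀ i < e, y (i + 1) ∈ A := by
  simp only [XD.pcOK, force_eq, allN_iff, Bool.and_eq_true, beq_iff, ble_iff, Nat.blt_eq] at hp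
  have mem : ∀ i W, W < 16 ^ 16 → (∀ p < 16, app 4 16 W p ≤ i) →
      evW y W ∈ H63.pcS (fun i => y (i + 1)) ⊥ i := fun i W hW h => evW_mem h0 hW fun p hp => by
    have := h p hp
    generalize app 4 16 W p = c at this
    cases c with
    | zero => rw [h0]; exact one_mem _
    | succ c => exact H63.mem_pcS (t := fun i => y (i + 1)) this
  have two : ∀ a b, a < 16 → b < 16 → evW y (a + 16 * b) = y a * y b := fun a b ha hb => by
    rw [evW_step h0, evW_step h0 (_ / _), show (a + 16 * b) % 16 = a by omega,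
      show (a + 16 * b) / 16 = b by omega, Nat.mod_eq_of_lt hb, Nat.div_eq_of_lt hb, evW_zero, mul_one]
  have bd : ∀ i < e, i * (i + 1) / 2 + i < e * (e + 1) / 2 := fun i hi => by
    have h1 : (i + 1) * (i + 2) ≤ e * (e + 1) := Nat.mul_le_mul hi (by omega)
    have h2 : (i + 1) * (i + 2) = i * (i + 1) + (i + 1) * 2 := by ring
    omega
  obtain ⟨he, hp⟩ := hp
  refine ⟨H63.pcS (fun i => y (i + 1)) ⊥ e, ?_, fun i hi => H63.mem_pcS (t := fun i => y (i + 1)) hi⟩
  have := H63.card_pcS_dvd (t := fun i => y (i + 1)) (W := ⊥) bot_le (p := 2) (k := e)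
    (fun i hi => ?_) fun i hi j hj => ?_
  · simpa using this
  · obtain ⟨⟨⟨h1, h2⟩, h3⟩, -⟩ := hp i hi
    have h4 := hy (i * (i + 1) / 2) (Nat.lt_of_le_of_lt (Nat.le_add_right _ _) h1)
      (Nat.lt_of_le_of_lt (Nat.le_add_right _ _) (bd i hi))
    have h2 : X.side (i * (i + 1) / 2) 0 = (i + 1) + 16 * (i + 1) := h2.trans (by simp; omega)
    rw [h2, two _ _ (by omega) (by omega)] at h4
    rw [pow_two, h4]
    exact mem _ _ (X.side_lt _ _) h3
  · obtain ⟨⟨⟨h1, -⟩, -⟩, h2⟩ := hp i hi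
    obtain ⟨⟨h2, h3⟩, h5⟩ := h2 j hj
    have h1 : i * (i + 1) / 2 + i < X.NR := h1
    have := bd i hi
    have h4 := hy (i * (i + 1) / 2 + j + 1) (by omega) (by omega)
    have h2 : X.side (i * (i + 1) / 2 + j + 1) 0 = (j + 1) + 16 * (i + 1) := h2
    have h3 : X.side (i * (i + 1) / 2 + j + 1) 1 % 16 = i + 1 := h3
    rw [h2, two _ _ (by omega) (by omega), evW_step h0, h3] at h4
    rw [mul_assoc, h4, inv_mul_cancel_left]
    exact mem _ _ ((Nat.div_le_self _ _).trans_lt (X.side_lt _ _)) h5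

theorem Mod.sq {d BT : ℕ} {chk : List ℕ} (h : Mod E π d BT chk R) {a : G} (ha : a ∈ π.ker) :
    a * a = 1 := let ⟨_, hc⟩ := h.ex_ker a ha; h.mul_self hc

/-- the extension splits -/
theorem Mod.split [Finite G] (h : Mod E π X.d X.BT X.chk R) (hl : Lift E π X x)
    (hu : ∀ j < X.NR, R (E.rowV (fun b => u (X.d * j + b)) X.d (app X.d (2 ^ X.d) X.BT)) (X.tail x j))
    {lam : List ℕ} (hlam : ∀ Y ∈ lam, bv u X.U Y = 0) {ls : List (ℕ × List ℕ)} {CC : ℕ}
    {cs : List (List ℕ)} (hc : X.splitOK k M n lam ls CC cs = true) {e : ℕ} (hp : X.pcOK e = true)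
    (he : e * (e + 1) / 2 ≤ cs.length) {S : Subgroup (Equiv.Perm α)} {m : ℕ}
    (hS : S = E.grp ((List.range e).map fun i => nthD X.gens (idP k n) (i + 1)))
    (h1 : Nat.card S = 2 ^ e) (h2 : Nat.card π.range = 2 ^ e * m) (hm : Odd m) :
    ∃ H : Subgroup G, H ⊓ π.ker = ⊥ ∧ H ⊔ π.ker = ⊤ := by
  obtain ⟨y, h0, hy, hr⟩ := exists_rules h hl hu hlam hc
  obtain ⟨A, hA, hA'⟩ := card_dvd_of_pcOK h0 hp fun j hj hj' => hr j hj (hj'.trans_le he)
  have hS' : S ≤ A.map π := hS ▸ Enc.grp_le fun P hP => by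
    obtain ⟨i, hi, rfl⟩ := List.mem_map.1 hP
    exact ⟨_, ⟨_, hA' i (List.mem_range.1 hi), rfl⟩, by rw [hy, hl.pk]⟩
  have := E.finite
  have c1 : Nat.card A ≤ Nat.card (A.map π) :=
    (Nat.le_of_dvd (by positivity) hA).trans (h1 ▸ Subgroup.card_le_of_le hS')
  have c2 : Nat.card (A.map π) ≤ Nat.card A := Nat.card_le_card_of_surjective _ (π.subgroupMap_surjective A)
  have e1 : S = A.map π := Subgroup.eq_of_le_of_card_ge hS' (c2.trans (h1 ▸ Nat.le_of_dvd (by positivity) hA))
  have inj := ((Nat.bijective_iff_surjective_and_card _).2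
    ⟨π.subgroupMap_surjective A, le_antisymm c1 c2⟩).1
  have : IsMulCommutative π.ker := ⟨⟨fun a b => Subtype.ext (by
    have := h.sq (mul_mem a.2 b.2)
    rw [← inv_eq_iff_mul_eq_one, mul_inv_rev, inv_eq_of_mul_eq_one_right (h.sq a.2),
      inv_eq_of_mul_eq_one_right (h.sq b.2)] at this
    exact this.symm)⟩⟩
  have : Fact (Nat.Prime 2) := ⟨Nat.prime_two⟩
  obtain ⟨j, hj⟩ := IsPGroup.iff_card.1 (show IsPGroup 2 π.ker from fun a =>
    ⟨1, Subtype.ext (by simpa [pow_two] using h.sq a.2)⟩)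
  have hi : (S.comap π).index = m := by
    have hle : S ≤ π.range := e1 ▸ Subgroup.map_le_range π A
    have := (S.subgroupOf π.range).card_mul_index
    rw [Nat.card_congr (Subgroup.subgroupOfEquivOfLe hle).toEquiv, h1, h2] at this
    rw [Subgroup.index_comap]
    exact Nat.eq_of_mul_eq_mul_left (by positivity) this
  obtain ⟨H, hH⟩ := H2.gaschutz_exists π.ker (S.comap π) (fun a ha => by
      rw [Subgroup.mem_comap, ha]; exact one_mem _)
    (by rw [hj, hi]; exact (Nat.coprime_two_left.2 hm).pow_left j) A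
    (e1 ▸ Subgroup.le_comap_map π A) ((Subgroup.eq_bot_iff_forall _).2 fun a ha =>
      congrArg Subtype.val (inj (a₁ := ⟨a, ha.1⟩) (a₂ := 1) (Subtype.ext (ha.2.trans (map_one π).symm))))
    (by rw [e1, Subgroup.comap_map_eq, sup_comm])
  exact ⟨H, disjoint_iff.1 hH.disjoint.symm, hH.symm.sup_eq_top⟩

theorem exists_tails (h : Mod E π X.d X.BT X.chk R) (hl : Lift E π X x) (hd : 0 < X.d) :
    ∃ u : ℕ → ZMod 2, (∀ j < X.NR, R (E.rowV (fun b => u (X.d * j + b)) X.d (app X.d (2 ^ X.d) X.BT))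
      (X.tail x j)) := by
  have : ∀ j, ∃ c, j < X.NR → R (E.rowV c X.d (app X.d (2 ^ X.d) X.BT)) (X.tail x j) := fun j => by
    by_cases hj : j < X.NR
    · exact (h.ex_ker _ (hl.tail_ker hj)).imp fun c hc _ => hc
    · exact ⟨0, fun h => absurd h hj⟩
  choose c hc using this
  refine ⟨fun i => c (i / X.d) (i % X.d), fun j hj => ?_⟩
  convert hc j hj using 1
  exact funext fun a => bv_congr (fun _ _ => rfl) fun b hb => by
    beta_reduce
    rw [Nat.mul_add_div hd, Nat.div_eq_of_lt hb, Nat.mul_add_mod, Nat.mod_eq_of_lt hb, add_zero]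

theorem exists_lift {K : Subgroup (Equiv.Perm α)} (hK : K ≤ π.range) (hg : ∀ P ∈ X.gens, E.InG K P)
    (h0 : nthD X.gens (idP k n) 0 = idP k n) (hr : X.rulesOK k M n = true) : ∃ x, Lift E π X x := by
  have : ∀ c, ∃ g : G, E.pk (π g) = nthD X.gens (idP k n) c ∧ (c = 0 → g = 1) := fun c => by
    by_cases hc : c = 0
    · exact ⟨1, by rw [hc, h0, map_one, E.pk_one], fun _ => rfl⟩
    · obtain ⟨g, hg, e⟩ := Enc.inG_nthD hg c
      obtain ⟨g, rfl⟩ := hK hg
      exact ⟨g, e, fun h => absurd h hc⟩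
  choose x h1 h2 using this
  exact ⟨x, h2 0 rfl, h1, hr⟩

/-- the extension does not split -/
theorem Mod.nonsplit (h : Mod E π X.d X.BT X.chk R) (hl : Lift E π X x) (hd : 0 < X.d) {e CC c : ℕ}
    {js : List (ℕ × ℕ)} (hc : X.nsOK k M n e CC js c = true)
    (hj : ∀ j ∈ js, R (fun a => if j.2.testBit (E.ix a) then 1 else 0) (X.tail x j.1))
    (H : Subgroup G) (h1 : H ⊓ π.ker = ⊥) : H ⊔ π.ker ≠ ⊤ := fun h2 => by
  simp only [XD.nsOK, force_eq, Bool.and_eq_true, allN_iff, allL_iff, beq_iff, ble_iff,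
    Nat.blt_eq] at hc
  obtain ⟨⟨⟨hU, hC⟩, hjs⟩, hc⟩ := hc
  have : ∀ i, ∃ (m : G) (c : ℕ → ZMod 2), m * x i ∈ H ∧
      R (E.rowV c X.d (app X.d (2 ^ X.d) X.BT)) m ∧ (i = 0 → m = 1) := fun i => by
    by_cases hi : i = 0
    · exact ⟨1, 0, by rw [hi, hl.zero, one_mul]; exact one_mem _, by
        convert h.zero; exact funext fun a => by simp [Enc.rowV, bv], fun _ => rfl⟩
    · have : x i ∈ ((π.ker ⊔ H : Subgroup G) : Set G) := by rw [sup_comm, h2]; trivial
      rw [Subgroup.normal_mul] at this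
      obtain ⟨a, ha, b, hb, e⟩ := this
      obtain ⟨c, hc⟩ := h.ex_ker _ (inv_mem ha)
      exact ⟨a⁻¹, c, by rw [← e]; simpa using hb, hc, fun h => absurd h hi⟩
  choose m cf hm hR h0 using this
  let u : ℕ → ZMod 2 := fun i => Nat.rec 1 (fun i _ => cf (i / X.d + 1) (i % X.d)) i
  have hm' : ∀ i ≤ e, R (E.rowV u X.U (X.mrow CC i)) (m i) := fun i hi => by
    cases i with
    | zero => rw [h0 0 rfl]; convert h.zero; exact funext fun _ => bv_zero _ _
    | succ i =>
      rw [rowV_mrow hl]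
      convert hR (i + 1) using 1
      refine funext fun a => bv_congr (fun _ _ => rfl) fun b hb => ?_
      have h3 : X.d * i + b < X.d * e :=
        (Nat.add_lt_add_left hb _).trans_le (Nat.mul_le_mul_left X.d hi)
      rw [hC _ h3]
      refine (bv_two_pow u (Nat.lt_of_le_of_lt h3 hU)).trans ?_
      show cf ((X.d * i + b) / X.d + 1) ((X.d * i + b) % X.d) = _
      rw [Nat.mul_add_div hd, Nat.div_eq_of_lt hb, Nat.mul_add_mod, Nat.mod_eq_of_lt hb, add_zero]
  have hU0 : 0 < X.U := Nat.lt_of_le_of_lt (Nat.zero_le _) hU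
  have b1 : bv u X.U 1 = 1 := bv_two_pow u (i := 0) hU0
  have mem : ∀ W < 16 ^ 16, evW (m * x) W ∈ H := fun W hW =>
    evW_mem (by simp [h0, hl.zero]) hW fun p _ => hm _
  have key : ∀ (l : List (ℕ × ℕ)) (L : List ℕ), (∀ j ∈ l, j ∈ js) → (∀ Y ∈ L, bv u X.U (Y >>> 64) = 0) →
      X.tgts k M n (idP k n) CC l (fun L => Nat.beq (Nat.shiftRight (selL L c 0) 64) 1) L = true → False := by
    intro l
    induction l with
    | nil =>
      intro L _ hL h3
      have := bv_selL hL c 0
      rw [show selL L c 0 >>> 64 = 1 from beq_iff.1 h3, Nat.zero_shiftRight, bv_zero, b1] at this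
      exact one_ne_zero this
    | cons j l ih =>
      intro L hl' hL h3
      have h3 : (Nat.blt j.1 X.NR && force (X.newT k M n (idP k n) CC j.1 fun q =>
        Bool.rec 0 1 (tb j.2 q)) fun T => X.addRows n T X.chk (X.tgts k M n (idP k n) CC l
          (fun L => Nat.beq (Nat.shiftRight (selL L c 0) 64) 1)) L) = true := h3
      rw [Bool.and_eq_true, force_eq, Nat.blt_eq] at h3
      have hj' := hl' j List.mem_cons_self
      have h6 : evW (m * x) (X.side j.1 0) = evW (m * x) (X.side j.1 1) := by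
        rw [← mul_inv_eq_one, ← Subgroup.mem_bot, ← h1]
        refine Subgroup.mem_inf.2 ⟨mul_mem (mem _ (X.side_lt _ _)) (inv_mem (mem _ (X.side_lt _ _))), ?_⟩
        have e : π ∘ (m * x) = π ∘ x := funext fun i => by simp [h.ker (hR i)]
        rw [MonoidHom.mem_ker, map_mul, map_inv, map_evW, map_evW, e, ← map_evW,
          ← map_evW, (hl.spec.2.2 _ h3.1).2, mul_inv_cancel]
      have h7 : E.rowV u X.U (fun q => Bool.rec 0 1 (tb j.2 q)) =
          fun a => if j.2.testBit (E.ix a) then 1 else 0 := by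
        funext a
        rw [Enc.rowV, tb_eq]
        cases j.2.testBit (E.ix a)
        exacts [bv_zero _ _, b1]
      obtain ⟨L', h4, h5⟩ := addRows_spec ((newT_spec h hl (h0 0 rfl) hm' h3.1
        (fun s hs => app16_le (X.side_lt _ _) (hjs j hj' s hs)) (h7 ▸ hj j hj')).1 h6) hL h3.2
      exact ih L' (fun j hj => hl' j (List.mem_cons_of_mem _ hj)) h4 h5
  exact key js [] (fun _ h => h) (by simp) hc

end

end Cfsg.Agent.H14
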