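/-
Uniqueness of the binary Golay code: a family of subsets of the 24 points that is closed under symmetric difference,
has even intersections, no member of size 4, and an 8-element member through any five points, contains an image of
the Golay code under a permutation.
-/
import Cfsg.Agent.H14.GolayFacts

set_option autoImplicit false
open Cfsg
open scoped Pointwise

namespace Cfsg.Agent.H14

/-- the hypotheses on the family -/
structure GolayLike (C : Set (Finset GolayPt)) : Prop where
  empty : ∅ ∈ C
  sd : ∀ s ∈ C, ∀ t ∈ C, symmDiff s t ∈ C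
  even : ∀ s ∈ C, ∀ t ∈ C, Even (s ∩ t).card
  no4 : ∀ s ∈ C, s.card ≠ 4
  five : ∀ S : Finset GolayPt, S.card = 5 → ∃ o ∈ C, o.card = 8 ∧ S ⊆ o

theorem GolayLike.smul {C : Set (Finset GolayPt)} (h : GolayLike C) (g : Equiv.Perm GolayPt) :
    GolayLike {s | g • s ∈ C} where
  empty := by simpa using h.empty
  sd s hs t ht := by
    rw [Set.mem_ofPred_eq, perm_smul_symmDiff]; exact h.sd _ hs _ ht
  even s hs t ht := by
    have := h.even _ hs _ ht
    rwa [← Finset.smul_finset_inter, Finset.card_smul_finset] at this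
  no4 s hs := by
    have := h.no4 _ hs
    rwa [Finset.card_smul_finset] at this
  five S hS := by
    obtain ⟨o, ho, h8, hso⟩ := h.five (g • S) (by rwa [Finset.card_smul_finset])
    exact ⟨g⁻¹ • o, by simpa using ho, by rwa [Finset.card_smul_finset],
      Finset.smul_finset_subset_iff.1 hso⟩

theorem GolayLike.encL_mem {C : Set (Finset GolayPt)} (h : GolayLike C) (rs : List ℕ)
    (hr : ∀ r ∈ rs, bits r ∈ C) (x : ℕ) : bits (encL rs x) ∈ C := by
  induction rs generalizing x with
  | nil =>
    have : encL [] x = 0 := rfl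
    rw [this, bits_zero]; exact h.empty
  | cons r rs ih =>
    rw [encL_cons, bits_xor]
    refine h.sd _ ?_ _ (ih (fun s hs => hr s (List.mem_cons_of_mem _ hs)) _)
    rcases Nat.mod_two_eq_zero_or_one x with hx | hx <;> rw [hx]
    · rw [Nat.mul_zero, bits_zero]; exact h.empty
    · rw [Nat.mul_one]; exact hr r List.mem_cons_self

/-- the points lying in the same members of `gs` as the point `i` -/
noncomputable def cell (gs : List ℕ) (i : ℕ) : ℕ :=
  List.rec 16777215 (fun r _ ih => Nat.land (Bool.rec (Nat.xor r 16777215) r (tb r i)) ih) gs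

theorem mem_bits_cell (gs : List ℕ) (a b : GolayPt) :
    b ∈ bits (cell gs (idx a)) ↔ ∀ r ∈ gs, (b ∈ bits r ↔ a ∈ bits r) := by
  induction gs with
  | nil => simp [cell, bits_full]
  | cons r gs ih =>
    have : cell (r :: gs) (idx a) =
      (Bool.rec (r ^^^ 16777215) r (tb r (idx a)) : ℕ) &&& cell gs (idx a) := rfl
    rw [this, bits_and, Finset.mem_inter, ih, List.forall_mem_cons, mem_bits (p := a), ← tb_eq]
    cases tb r (idx a)
    · simp [bits_compl]
    · simp

/-- sets meeting every cell in equally many points are conjugate under a permutation preserving `gs` -/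
theorem exists_perm_of_cells (gs : List ℕ) (w t : Finset GolayPt)
    (h : ∀ a, (w ∩ bits (cell gs (idx a))).card = (t ∩ bits (cell gs (idx a))).card) :
    ∃ g : Equiv.Perm GolayPt, g • t = w ∧ ∀ r ∈ gs, g • bits r = bits r := by
  classical
  let f : Finset GolayPt → GolayPt → Finset GolayPt × Prop :=
    fun s a => (bits (cell gs (idx a)), a ∈ s)
  have hc : ∀ a b, bits (cell gs (idx b)) = bits (cell gs (idx a)) ↔ b ∈ bits (cell gs (idx a)) := by
    intro a b
    constructor
    · intro e; rw [← e, mem_bits_cell]; simp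
    · intro hb
      ext c
      rw [mem_bits_cell] at hb ⊢
      rw [mem_bits_cell]
      exact forall₂_congr fun r hr => by rw [hb r hr]
  have hfib : ∀ y, Fintype.card {a // f t a = y} = Fintype.card {a // f w a = y} := by
    rintro ⟨c, p⟩
    by_cases hex : ∃ a, bits (cell gs (idx a)) = c
    · obtain ⟨a, rfl⟩ := hex
      rw [Fintype.card_subtype, Fintype.card_subtype]
      by_cases hp : p
      · have : ∀ s, (Finset.univ.filter fun b => f s b = (bits (cell gs (idx a)), p)) =
            s ∩ bits (cell gs (idx a)) := fun s => by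
          ext b
          simp only [f, Finset.mem_filter, Finset.mem_univ, true_and, Prod.mk.injEq, hc,
            Finset.mem_inter, eq_iff_iff, hp, iff_true, and_comm]
        rw [this, this, h]
      · have : ∀ s, (Finset.univ.filter fun b => f s b = (bits (cell gs (idx a)), p)) =
            bits (cell gs (idx a)) \ s := fun s => by
          ext b
          simp only [f, Finset.mem_filter, Finset.mem_univ, true_and, Prod.mk.injEq, hc,
            Finset.mem_sdiff, eq_iff_iff, hp, iff_false]
        rw [this, this, Finset.card_sdiff, Finset.card_sdiff, h]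
    · rw [Fintype.card_eq_zero_iff.2 ⟨fun a => hex ⟨a.1, congrArg Prod.fst a.2⟩⟩,
        Fintype.card_eq_zero_iff.2 ⟨fun a => hex ⟨a.1, congrArg Prod.fst a.2⟩⟩]
  let e := Equiv.ofFiberEquiv fun y => Fintype.equivOfCardEq (hfib y)
  have he : ∀ a, f w (e a) = f t a := Equiv.ofFiberEquiv_map _
  refine ⟨e, ?_, fun r hr => ?_⟩
  · ext b
    obtain ⟨a, rfl⟩ := e.surjective b
    rw [apply_mem_perm_smul_finset]
    exact (iff_of_eq (congrArg Prod.snd (he a))).symm
  · ext b
    obtain ⟨a, rfl⟩ := e.surjective b
    rw [apply_mem_perm_smul_finset]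
    exact ((mem_bits_cell gs a (e a)).1 ((hc a (e a)).1 (congrArg Prod.fst (he a))) r hr).symm

/-- the test for one candidate `m` -/
noncomputable def candOK (gs : List ℕ) (t m : ℕ) : Bool :=
  anyL gs (fun r => Nat.beq (Nat.mod (pc (Nat.land m r)) 2) 1) || !(Nat.beq (pc m) 8) ||
    allN 24 (fun i => force (cell gs i) fun c => Nat.beq (pc (Nat.land m c)) (pc (Nat.land t c))) ||
    anyN 128 fun x => Nat.beq (pc (Nat.xor m (encL gs x))) 4

/-- every 8-set through `S` is incompatible with `gs` or equivalent to `t` -/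
noncomputable def stepOK (gs : List ℕ) (S t : ℕ) : Bool :=
  Nat.beq (pc S) 5 && allN 24 fun c => allN c fun b => allN b fun a =>
    force (Nat.lor S (Nat.lor (Nat.shiftLeft 1 a) (Nat.lor (Nat.shiftLeft 1 b) (Nat.shiftLeft 1 c))))
      (candOK gs t)

theorem GolayLike.step {C : Set (Finset GolayPt)} (h : GolayLike C) {gs : List ℕ}
    (hr : ∀ r ∈ gs, bits r ∈ C) {S t : ℕ} (hs : stepOK gs S t = true) :
    ∃ g : Equiv.Perm GolayPt, ∀ r ∈ t :: gs, g • bits r ∈ C := by
  simp only [stepOK, Bool.and_eq_true, beq_iff, allN_iff, force_eq] at hs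
  obtain ⟨o, ho, h8, hso⟩ := h.five (bits S) (by rw [card_bits, hs.1])
  have key : ∀ a b c : GolayPt, idx a < idx b → idx b < idx c → o \ bits S = {a, b, c} →
      ∃ m, bits m = o ∧ candOK gs t m = true := fun a b c h1 h2 e =>
    ⟨_, by
      show bits (S ||| (1 <<< idx a ||| (1 <<< idx b ||| 1 <<< idx c))) = o
      simp only [Nat.one_shiftLeft, bits_or, bits_two_pow]
      rw [← Finset.union_sdiff_of_subset hso, e]
      rfl, hs.2 _ (idx_lt c) _ h2 _ h1⟩
  obtain ⟨m, rfl, hm⟩ : ∃ m, bits m = o ∧ candOK gs t m = true := by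
    obtain ⟨x, y, z, hxy, hxz, hyz, e⟩ := Finset.card_eq_three.1
      (show (o \ bits S).card = 3 by rw [Finset.card_sdiff_of_subset hso, h8, card_bits, hs.1])
    have h1 : idx x ≠ idx y := idx_injective.ne hxy
    have h2 : idx x ≠ idx z := idx_injective.ne hxz
    have h3 : idx y ≠ idx z := idx_injective.ne hyz
    rcases lt_or_gt_of_ne h1 with h1 | h1 <;> rcases lt_or_gt_of_ne h2 with h2 | h2 <;>
      rcases lt_or_gt_of_ne h3 with h3 | h3
    · exact key x y z h1 h3 e
    · exact key x z y h2 h3 (by rw [e]; ext; simp; tauto)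
    · omega
    · exact key z x y h2 h1 (by rw [e]; ext; simp; tauto)
    · exact key y x z h1 h2 (by rw [e]; ext; simp; tauto)
    · omega
    · exact key y z x h3 h2 (by rw [e]; ext; simp; tauto)
    · exact key z y x h3 h1 (by rw [e]; ext; simp; tauto)
  simp only [candOK, Bool.or_eq_true, anyL_iff, allN_iff, anyN_iff, beq_iff, force_eq,
    Bool.not_eq_true', ← Bool.not_eq_true] at hm
  rcases hm with ((⟨r, hr', h1⟩ | h1) | h1) | ⟨x, -, h1⟩
  · have := h.even _ ho _ (hr r hr')
    rw [← bits_and, card_bits, Nat.even_iff] at this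
    exact absurd (this.symm.trans h1) (by decide)
  · exact absurd (by rw [← card_bits, h8]) h1
  · obtain ⟨g, e1, e2⟩ := exists_perm_of_cells gs (bits m) (bits t) fun a => by
      rw [← bits_and, ← bits_and, card_bits, card_bits]; exact h1 _ (idx_lt a)
    refine ⟨g, List.forall_mem_cons.2 ⟨by rwa [e1], fun r hr' => ?_⟩⟩
    rw [e2 r hr']; exact hr r hr'
  · exact absurd (by rw [← bits_xor, card_bits]; exact h1) (h.no4 _ (h.sd _ ho _ (h.encL_mem gs hr x)))

theorem GolayLike.step' {C : Set (Finset GolayPt)} (h : GolayLike C) {gs : List ℕ}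
    (hr : ∃ g : Equiv.Perm GolayPt, ∀ r ∈ gs, g • bits r ∈ C) (S t : ℕ) (hs : stepOK gs S t = true) :
    ∃ g : Equiv.Perm GolayPt, ∀ r ∈ t :: gs, g • bits r ∈ C := by
  obtain ⟨g, hg⟩ := hr
  obtain ⟨g', hg'⟩ := (h.smul g).step hg hs
  exact ⟨g * g', fun r hr => by rw [mul_smul]; exact hg' r hr⟩

/-- A Golay-like family contains a permuted copy of the Golay code. -/
theorem GolayLike.exists_perm {C : Set (Finset GolayPt)} (h : GolayLike C) :
    ∃ g : Equiv.Perm GolayPt, ∀ s ∈ CSets, g • s ∈ C := by
  have h0 : ∃ g : Equiv.Perm GolayPt, ∀ r ∈ ([] : List ℕ), g • bits r ∈ C := ⟨1, by simp⟩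
  have h1 := h.step' h0 4195356 4261212 (by decide +kernel)
  have h2 := h.step' h1 591424 722544 (by decide +kernel)
  have h3 := h.step' h2 525857 5770785 (by decide +kernel)
  have h4 := h.step' h3 4719184 14156372 (by decide +kernel)
  have h5 := h.step' h4 8520228 8561204 (by decide +kernel)
  have h6 := h.step' h5 132196 157028 (by decide +kernel)
  have h7 := h.step' h6 1572976 1577201 (by decide +kernel)
  have h8 := h.step' h7 607233 902657 (by decide +kernel)
  have h9 := h.step' h8 821760 3050016 (by decide +kernel)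
  have h10 := h.step' h9 9199616 9204992 (by decide +kernel)
  have h11 := h.step' h10 1703954 4063314 (by decide +kernel)
  have h12 := h.step' h11 10534916 10543366 (by decide +kernel)
  obtain ⟨g, hg⟩ := h12
  refine ⟨g, fun s hs => ?_⟩
  obtain ⟨x, -, rfl⟩ := mem_cSets_iff.1 hs
  rw [enc_eq]
  refine (h.smul g).encL_mem rows (fun r hr => ?_) x
  have e : rows = [279, 734, 452, 2844, 1159, 2011, 1627, 1072, 795, 536, 799, 1483].map
    (encL [10543366, 4063314, 9204992, 3050016, 902657, 1577201, 157028, 8561204, 14156372, 5770785, 722544, 4261212]) := by decide +kernel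
  rw [e, List.mem_map] at hr
  obtain ⟨c, -, rfl⟩ := hr
  exact (h.smul g).encL_mem _ hg c

end Cfsg.Agent.H14
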