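/-
PSL(2,7) and PGL(2,7) on 8 points (generated by tools_h14/cv/gen.py with tools_h56/model.py).
-/
import Cfsg.Agent.H56.ClassModel
import Cfsg.Agent.H56.Fields
import Cfsg.Agent.H56.IsoK
import Cfsg.Agent.H28.Pgl2Sub

set_option autoImplicit false
set_option maxRecDepth 100000

namespace Cfsg.Agent.H14

open H56

namespace L27

def VT : ℕ := nat_lit 0x459869231241
def R : BT := (.node (nat_lit 25) (.node (nat_lit 9) (.node (nat_lit 8) (.leaf (nat_lit 0)) (.leaf (nat_lit 3))) (.node (nat_lit 17) (.leaf (nat_lit 1)) (.leaf (nat_lit 7)))) (.node (nat_lit 41) (.node (nat_lit 33) (.leaf (nat_lit 6)) (.leaf (nat_lit 5))) (.node (nat_lit 49) (.leaf (nat_lit 4)) (.leaf (nat_lit 2)))))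
def gs : List (ℕ × ℕ) := [(nat_lit 154, nat_lit 0xf5e111), (nat_lit 0xb1c, nat_lit 0x1e6a99)]
def gens : List ℕ := [nat_lit 0xf5e111, nat_lit 0x1e6a99]
def certL0 : Lev := ⟨nat_lit 0, nat_lit 255, (.node (nat_lit 4) (.node (nat_lit 2) (.node (nat_lit 1) (.leaf (nat_lit 0xfac688)) (.leaf (nat_lit 0x3f5702))) (.node (nat_lit 3) (.leaf (nat_lit 0x31ea3a)) (.leaf (nat_lit 0xf5e111)))) (.node (nat_lit 6) (.node (nat_lit 5) (.leaf (nat_lit 0x3a07d5)) (.leaf (nat_lit 0xec53a2))) (.node (nat_lit 7) (.leaf (nat_lit 0x2378ab)) (.leaf (nat_lit 0x1e6a99)))))⟩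
def certC0 : LevCert := ⟨certL0,
    [(nat_lit 3, nat_lit 0), (nat_lit 7, nat_lit 1), (nat_lit 5, nat_lit 0), (nat_lit 1, nat_lit 1), (nat_lit 6, nat_lit 1), (nat_lit 4, nat_lit 0), (nat_lit 2, nat_lit 0)],
    [[nat_lit 2, nat_lit 2, nat_lit 0, nat_lit 0, nat_lit 2, nat_lit 0, nat_lit 2], [nat_lit 4, nat_lit 4, nat_lit 2, nat_lit 2, nat_lit 4, nat_lit 2, nat_lit 4, nat_lit 2, nat_lit 4, nat_lit 4]],
    [nat_lit 0xa8e738, nat_lit 0x9cd598]⟩
def certL1 : Lev := ⟨nat_lit 1, nat_lit 254, (.node (nat_lit 4) (.node (nat_lit 2) (.leaf (nat_lit 0xfac688)) (.node (nat_lit 3) (.leaf (nat_lit 0xe9d870)) (.leaf (nat_lit 0xbf32a0)))) (.node (nat_lit 6) (.node (nat_lit 5) (.leaf (nat_lit 0xd79898)) (.leaf (nat_lit 0xa8e738))) (.node (nat_lit 7) (.leaf (nat_lit 0x46fd18)) (.leaf (nat_lit 0x33a7a8)))))⟩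
def certC1 : LevCert := ⟨certL1,
    [(nat_lit 5, nat_lit 0), (nat_lit 7, nat_lit 0), (nat_lit 4, nat_lit 1), (nat_lit 6, nat_lit 1), (nat_lit 2, nat_lit 0), (nat_lit 3, nat_lit 1)],
    [[nat_lit 0, nat_lit 2, nat_lit 0, nat_lit 2, nat_lit 2]],
    [nat_lit 0x7665c8]⟩
def certL2 : Lev := ⟨nat_lit 2, nat_lit 140, (.node (nat_lit 3) (.leaf (nat_lit 0xfac688)) (.node (nat_lit 7) (.leaf (nat_lit 0x7665c8)) (.leaf (nat_lit 0x535ec8))))⟩
def certC2 : LevCert := ⟨certL2,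
    [(nat_lit 3, nat_lit 0), (nat_lit 7, nat_lit 0)],
    [],
    []⟩
def cert : List LevCert := [certC0, certC1, certC2]
def certL : List Lev := [certL0, certL1, certL2]
/-- the numbering of the points -/
abbrev E : Enc (Fin 8) 8 3 8 := finEnc 8 3 8 rfl (by decide)
theorem ok : modelOK F7 2 8 3 8 VT R true gs cert 168 = true := by
  decide +kernel

/-- the permutation group -/
abbrev K : Subgroup (Equiv.Perm (Fin 8)) := E.grp gens

theorem model {F : Type*} [Field F] [Fintype F] (hF : Fintype.card F = 7) (ι : TF F7 →+* F) :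
    ∃ φ, IsModel E (slToMat 2 F) (ptv ι (Equiv.refl _) E VT) true (Subgroup.center _) gens certL φ :=
  model_PSL ι E hF (m := 6) (by decide) ok (by decide +kernel) (by decide +kernel)

theorem equiv {F : Type*} [Field F] [Fintype F] (hF : Fintype.card F = 7) :
    Nonempty (Matrix.ProjectiveSpecialLinearGroup (Fin 2) F ≃* K) :=
  let ⟨ι, _⟩ := exists_hom F7 hF; let ⟨_, h⟩ := model hF ι; h.equiv_quot

theorem chain : E.IsChain certL K := let ⟨_, h⟩ := model (TF.card F7) (RingHom.id _); h.chain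

theorem card : Nat.card K = 168 := chain.card.trans (modelOK_card ok)

def c1a : Cls := ⟨nat_lit 0xfac688, 168, [nat_lit 255, nat_lit 254, nat_lit 140]⟩
def c2a : Cls := ⟨nat_lit 0xafad01, 8, [nat_lit 255, nat_lit 2, nat_lit 4]⟩
def c3a : Cls := ⟨nat_lit 0x535ec8, 3, [nat_lit 1, nat_lit 2, nat_lit 140]⟩
def c4a : Cls := ⟨nat_lit 0xf59d1, 4, [nat_lit 135, nat_lit 2, nat_lit 4]⟩
def c7a : Cls := ⟨nat_lit 0xf32a43, 7, [nat_lit 127, nat_lit 2, nat_lit 4]⟩
def c7b : Cls := ⟨nat_lit 0xf5e111, 7, [nat_lit 127, nat_lit 2, nat_lit 4]⟩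
def cl : List Cls := [c1a, c2a, c3a, c4a, c7a, c7b]
theorem cl_ok : allL cl (clsOK 3 8 8 certL 0) = true := by decide +kernel
theorem cl_pairs : pairsOK 3 8 8 certL 0 cl = true := by decide +kernel
/-- the conjugacy classes -/
theorem classes : E.ClassList K cl :=
  chain.classList (E.fixes_zero K) (allL_iff.1 cl_ok) cl_pairs card (by decide +kernel)

end L27

namespace P27

def VT : ℕ := nat_lit 0xc48a59261441
def R : BT := (.node (nat_lit 25) (.node (nat_lit 9) (.node (nat_lit 8) (.leaf (nat_lit 0)) (.leaf (nat_lit 6))) (.node (nat_lit 17) (.leaf (nat_lit 3)) (.leaf (nat_lit 1)))) (.node (nat_lit 41) (.node (nat_lit 33) (.leaf (nat_lit 4)) (.leaf (nat_lit 2))) (.node (nat_lit 49) (.leaf (nat_lit 5)) (.leaf (nat_lit 7)))))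
def gs : List (ℕ × ℕ) := [(nat_lit 0xb9b, nat_lit 0xcb8959), (nat_lit 602, nat_lit 0x14bfa2)]
def gens : List ℕ := [nat_lit 0xcb8959, nat_lit 0x14bfa2]
def certL0 : Lev := ⟨nat_lit 0, nat_lit 255, (.node (nat_lit 4) (.node (nat_lit 2) (.node (nat_lit 1) (.leaf (nat_lit 0xfac688)) (.leaf (nat_lit 0x3dcc85))) (.node (nat_lit 3) (.leaf (nat_lit 0xc6c41f)) (.leaf (nat_lit 0x5711e3)))) (.node (nat_lit 6) (.node (nat_lit 5) (.leaf (nat_lit 0xcb8959)) (.leaf (nat_lit 0xb8267c))) (.node (nat_lit 7) (.leaf (nat_lit 0x83bb91)) (.leaf (nat_lit 0x14bfa2)))))⟩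
def certC0 : LevCert := ⟨certL0,
    [(nat_lit 4, nat_lit 0), (nat_lit 7, nat_lit 1), (nat_lit 3, nat_lit 0), (nat_lit 1, nat_lit 1), (nat_lit 5, nat_lit 0), (nat_lit 2, nat_lit 0), (nat_lit 6, nat_lit 1)],
    [[nat_lit 0, nat_lit 0, nat_lit 2, nat_lit 2, nat_lit 0], [nat_lit 2, nat_lit 2, nat_lit 4, nat_lit 2, nat_lit 2, nat_lit 4, nat_lit 4, nat_lit 4, nat_lit 4]],
    [nat_lit 0x9bd458, nat_lit 0xdeb850]⟩
def certL1 : Lev := ⟨nat_lit 1, nat_lit 254, (.node (nat_lit 4) (.node (nat_lit 2) (.leaf (nat_lit 0xfac688)) (.node (nat_lit 3) (.leaf (nat_lit 0x9bd458)) (.leaf (nat_lit 0xba72d0)))) (.node (nat_lit 6) (.node (nat_lit 5) (.leaf (nat_lit 0xd61e98)) (.leaf (nat_lit 0x94e7d0))) (.node (nat_lit 7) (.leaf (nat_lit 0xa729d8)) (.leaf (nat_lit 0x3744f8)))))⟩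
def certC1 : LevCert := ⟨certL1,
    [(nat_lit 2, nat_lit 0), (nat_lit 3, nat_lit 0), (nat_lit 4, nat_lit 1), (nat_lit 7, nat_lit 0), (nat_lit 5, nat_lit 0), (nat_lit 6, nat_lit 1)],
    [[nat_lit 0, nat_lit 2], [nat_lit 2, nat_lit 2, nat_lit 2, nat_lit 4, nat_lit 4, nat_lit 4, nat_lit 2, nat_lit 2]],
    [nat_lit 0xd3aac8, nat_lit 0xbde508]⟩
def certL2 : Lev := ⟨nat_lit 2, nat_lit 252, (.node (nat_lit 5) (.node (nat_lit 3) (.leaf (nat_lit 0xfac688)) (.node (nat_lit 4) (.leaf (nat_lit 0xbde508)) (.leaf (nat_lit 0xd3aac8)))) (.node (nat_lit 6) (.leaf (nat_lit 0x757988)) (.node (nat_lit 7) (.leaf (nat_lit 0x8b3f48)) (.leaf (nat_lit 0x4e5dc8)))))⟩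
def certC2 : LevCert := ⟨certL2,
    [(nat_lit 4, nat_lit 0), (nat_lit 3, nat_lit 1), (nat_lit 6, nat_lit 0), (nat_lit 5, nat_lit 1), (nat_lit 7, nat_lit 0)],
    [],
    []⟩
def cert : List LevCert := [certC0, certC1, certC2]
def certL : List Lev := [certL0, certL1, certL2]
/-- the numbering of the points -/
abbrev E : Enc (Fin 8) 8 3 8 := finEnc 8 3 8 rfl (by decide)
theorem ok : modelOK F7 2 8 3 8 VT R true gs cert 336 = true := by
  decide +kernel

/-- the permutation group -/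
abbrev K : Subgroup (Equiv.Perm (Fin 8)) := E.grp gens

theorem model {F : Type*} [Field F] [Fintype F] (hF : Fintype.card F = 7) (ι : TF F7 →+* F) :
    ∃ φ, IsModel E (Units.coeHom (Matrix (Fin 2) (Fin 2) F)) (ptv ι (Equiv.refl _) E VT) true
      (Subgroup.center _) gens certL φ := by
  refine model_of_ok ι E _ _ ok (fun p hp => exists_GL ι _ (allL_iff.1
    (by decide +kernel : allL gs (fun p => powOK F7 2 47 p.1) = true) p hp)) _ (fun z hz => ?_) ?_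
  · obtain ⟨r, hr⟩ := Matrix.GeneralLinearGroup.mem_center_iff_val_mem_range_scalar.1 hz
    have : Units.coeHom (Matrix (Fin 2) (Fin 2) F) z = r • (1 : Matrix (Fin 2) (Fin 2) F) := by
      rw [Matrix.smul_one_eq_diagonal]; exact hr.symm
    exact ⟨r, Sc.of_scalar this, this⟩
  · have := H28.card_pgl_two F
    rw [Nat.card_eq_fintype_card (α := F), hF] at this
    exact this.le

theorem equiv {F : Type*} [Field F] [Fintype F] (hF : Fintype.card F = 7) :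
    Nonempty (GL (Fin 2) F ⧸ Subgroup.center (GL (Fin 2) F) ≃* K) :=
  let ⟨ι, _⟩ := exists_hom F7 hF; let ⟨_, h⟩ := model hF ι; h.equiv_quot

theorem chain : E.IsChain certL K := let ⟨_, h⟩ := model (TF.card F7) (RingHom.id _); h.chain

theorem card : Nat.card K = 336 := chain.card.trans (modelOK_card ok)

def c1a : Cls := ⟨nat_lit 0xfac688, 336, [nat_lit 255, nat_lit 254, nat_lit 252]⟩
def c2a : Cls := ⟨nat_lit 0xde54c1, 16, [nat_lit 255, nat_lit 2, nat_lit 132]⟩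
def c2b : Cls := ⟨nat_lit 0xf73881, 12, [nat_lit 123, nat_lit 2, nat_lit 132]⟩
def c3a : Cls := ⟨nat_lit 0xbf4611, 6, [nat_lit 231, nat_lit 2, nat_lit 4]⟩
def c4a : Cls := ⟨nat_lit 0x83bb91, 8, [nat_lit 255, nat_lit 2, nat_lit 4]⟩
def c6a : Cls := ⟨nat_lit 0xf28cd1, 6, [nat_lit 95, nat_lit 2, nat_lit 4]⟩
def c7a : Cls := ⟨nat_lit 0x7859d1, 7, [nat_lit 191, nat_lit 2, nat_lit 4]⟩
def c8a : Cls := ⟨nat_lit 0xd5f111, 8, [nat_lit 255, nat_lit 2, nat_lit 4]⟩
def c8b : Cls := ⟨nat_lit 0xe6f51, 8, [nat_lit 255, nat_lit 2, nat_lit 4]⟩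
def cl : List Cls := [c1a, c2a, c2b, c3a, c4a, c6a, c7a, c8a, c8b]
theorem cl_ok : allL cl (clsOK 3 8 8 certL 0) = true := by decide +kernel
theorem cl_pairs : pairsOK 3 8 8 certL 0 cl = true := by decide +kernel
/-- the conjugacy classes -/
theorem classes : E.ClassList K cl :=
  chain.classList (E.fixes_zero K) (allL_iff.1 cl_ok) cl_pairs card (by decide +kernel)

end P27

end Cfsg.Agent.H14
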